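/-
Elements of general and special linear groups over finite fields: exponent bound, block embedding,
unipotent Jordan matrices, Singer elements.
-/
import Mathlib

namespace CfsgLib.KnownSimple

open Matrix

section Exponent

variable {F : Type*} [Field F] [Fintype F]

/-- An invertible matrix raised to `E * P` is `1` when `q ^ d - 1 ∣ E` for all `1 ≤ d ≤ n` and `P ≥ n` is a
power of the characteristic. -/
lemma unit_matrix_pow_eq_one {n : ℕ} {p c : ℕ} [Fact p.Prime] [CharP F p] (E : ℕ)
    (hE : ∀ d, 1 ≤ d → d ≤ n → Fintype.card F ^ d - 1 ∣ E) (hP : n ≤ p ^ c)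
    (A : Matrix (Fin n) (Fin n) F) (hA : IsUnit A) : A ^ (E * p ^ c) = 1 := by
  rcases Nat.eq_zero_or_pos n with rfl | hn
  · exact Subsingleton.elim _ _
  haveI : Nonempty (Fin n) := ⟨⟨0, hn⟩⟩
  let R : Subalgebra F (Matrix (Fin n) (Fin n) F) := Algebra.adjoin F {A}
  letI : CommRing R := Algebra.adjoinCommRingOfComm F (by
    intro a ha b hb
    rw [Set.mem_singleton_iff] at ha hb
    subst ha; subst hb; rfl)
  haveI : FiniteDimensional F R := inferInstance
  have hfin : Module.finrank F R ≤ n := by
    have hle : Subalgebra.toSubmodule R ≤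
        Submodule.span F (Set.range fun k : Fin n => A ^ (k : ℕ)) := by
      intro x hx
      rw [Subalgebra.mem_toSubmodule] at hx
      replace hx : x ∈ (Polynomial.aeval (R := F) A).range := by
        rw [← Algebra.adjoin_singleton_eq_range_aeval]; exact hx
      obtain ⟨f, rfl⟩ := hx
      rw [AlgHom.toRingHom_eq_coe, RingHom.coe_coe, Matrix.aeval_eq_aeval_mod_charpoly,
        Polynomial.aeval_eq_sum_range' (n := n)]
      · refine Submodule.sum_mem _ fun k hk => Submodule.smul_mem _ _ (Submodule.subset_span ?_)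
        exact ⟨⟨k, Finset.mem_range.1 hk⟩, rfl⟩
      · refine lt_of_lt_of_eq (Polynomial.natDegree_modByMonic_lt _ (Matrix.charpoly_monic A) ?_) ?_
        · intro h1
          have := congrArg Polynomial.natDegree h1
          rw [Matrix.charpoly_natDegree_eq_dim, Polynomial.natDegree_one] at this
          simp at this
          omega
        · rw [Matrix.charpoly_natDegree_eq_dim, Fintype.card_fin]
    refine (Submodule.finrank_mono hle).trans ?_
    exact (finrank_range_le_card _).trans (by simp)
  let a : R := ⟨A, Algebra.self_mem_adjoin_singleton F A⟩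
  have hnil : IsNilpotent (a ^ E - 1) := by
    rw [← mem_nilradical, nilradical_eq_sInf, Ideal.mem_sInf]
    intro P hP'
    haveI : P.IsPrime := hP'
    haveI : Finite R := Module.finite_of_finite F
    haveI : Finite (R ⧸ P) := Quotient.finite _
    haveI : IsDomain (R ⧸ P) := Ideal.Quotient.isDomain P
    letI : Fintype (R ⧸ P) := Fintype.ofFinite _
    letI : DecidableEq (R ⧸ P) := Classical.decEq _
    letI : Field (R ⧸ P) := Fintype.fieldOfDomain (R ⧸ P)
    rw [← Ideal.Quotient.eq_zero_iff_mem]
    set d := Module.finrank F (R ⧸ P) with hd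
    have hd1 : 1 ≤ d := Module.finrank_pos
    have hdn : d ≤ n := le_trans
      (LinearMap.finrank_le_finrank_of_surjective
        (f := (Ideal.Quotient.mkₐ F P).toLinearMap) Ideal.Quotient.mk_surjective) hfin
    have hcard : Fintype.card (R ⧸ P) = Fintype.card F ^ d := Module.card_eq_pow_finrank
    obtain ⟨k, hk⟩ := hE d hd1 hdn
    have hne : Ideal.Quotient.mk P a ≠ 0 := by
      have hu : IsUnit a := by
        have hAinv : IsUnit A := hA
        have : Function.Injective (fun x : R => a * x) := by
          intro x y hxy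
          exact Subtype.ext (hAinv.mul_right_injective (congrArg Subtype.val hxy))
        obtain ⟨b, hb⟩ := (Finite.injective_iff_surjective.1 this) 1
        exact IsUnit.of_mul_eq_one _ hb
      exact (hu.map (Ideal.Quotient.mk P)).ne_zero
    have h1 : Ideal.Quotient.mk P a ^ E = 1 := by
      rw [hk, pow_mul, ← hcard]
      refine (congrArg (· ^ k) ?_).trans (one_pow k)
      exact FiniteField.pow_card_sub_one_eq_one (Ideal.Quotient.mk P a) hne
    rw [map_sub, map_pow, map_one, h1, sub_self]
  have hnilA : IsNilpotent (A ^ E - 1) := by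
    have := hnil.map R.val
    simpa [a] using this
  have hzero : (A ^ E - 1) ^ n = 0 := by
    have h1 := Matrix.isNilpotent_charpoly_sub_pow_of_isNilpotent hnilA
    have h2 : (A ^ E - 1).charpoly = Polynomial.X ^ n := by
      have := h1.eq_zero
      simpa [sub_eq_zero] using this
    have h3 := Matrix.aeval_self_charpoly (A ^ E - 1)
    rw [h2, map_pow, Polynomial.aeval_X] at h3
    exact h3
  haveI : CharP (Matrix (Fin n) (Fin n) F) p := inferInstance
  have h4 : (A ^ E - 1) ^ p ^ c = 0 := pow_eq_zero_of_le hP hzero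
  rw [sub_pow_char_pow_of_commute (p := p) (n := c) (h := Commute.one_right _), one_pow, ← pow_mul, sub_eq_zero] at h4
  exact h4

end Exponent

section Block

variable {F : Type*} [CommRing F] {i n : ℕ}

/-- Top-left block embedding of `i × i` matrices into `n × n` matrices (`1` on the rest), as a monoid hom. -/
def blockEmb (h : i ≤ n) : Matrix (Fin i) (Fin i) F →* Matrix (Fin n) (Fin n) F where
  toFun M := Matrix.reindexAlgEquiv F F (finSumFinEquiv.trans (finCongr (Nat.add_sub_cancel' h)))
    (Matrix.fromBlocks M 0 0 (1 : Matrix (Fin (n - i)) (Fin (n - i)) F))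
  map_one' := by rw [Matrix.fromBlocks_one, map_one]
  map_mul' M N := by
    rw [← map_mul, Matrix.fromBlocks_multiply]
    simp

lemma blockEmb_injective (h : i ≤ n) : Function.Injective (blockEmb (F := F) h) := by
  intro M N hMN
  exact ((Matrix.fromBlocks_inj).1 ((Matrix.reindexAlgEquiv F F _).injective hMN)).1

lemma det_blockEmb (h : i ≤ n) (M : Matrix (Fin i) (Fin i) F) : (blockEmb h M).det = M.det := by
  show (Matrix.reindexAlgEquiv F F _ _).det = _
  rw [Matrix.det_reindexAlgEquiv, Matrix.det_fromBlocks_zero₂₁, Matrix.det_one, mul_one]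

/-- The lower unitriangular Jordan block `1 + N`. -/
def jordanUni (F : Type*) [CommRing F] (m : ℕ) : Matrix (Fin m) (Fin m) F :=
  1 + Matrix.of fun a b : Fin m => if (a : ℕ) = b + 1 then 1 else 0

lemma shift_pow (m t : ℕ) :
    (Matrix.of fun a b : Fin m => if (a : ℕ) = b + 1 then (1 : F) else 0) ^ t =
      Matrix.of fun a b : Fin m => if (a : ℕ) = b + t then 1 else 0 := by
  induction t with
  | zero =>
    ext a b
    simp [Matrix.one_apply, Fin.ext_iff]
  | succ t ih =>
    rw [pow_succ, ih]
    ext a b
    simp only [Matrix.mul_apply, Matrix.of_apply]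
    by_cases hb : (b : ℕ) + 1 < m
    · rw [Finset.sum_eq_single (⟨b + 1, hb⟩ : Fin m)]
      · simp only [ite_mul, one_mul, zero_mul, mul_ite, mul_one, mul_zero, if_true]
        exact if_congr (by omega) rfl rfl
      · intro c _ hc
        rw [if_neg (fun hh => hc (Fin.ext hh)) , mul_zero]
      · intro hh; exact absurd (Finset.mem_univ _) hh
    · rw [if_neg (by omega)]
      refine Finset.sum_eq_zero fun c _ => ?_
      have := c.isLt
      by_cases hc : (c : ℕ) = b + 1
      · omega
      · simp [hc]

lemma det_jordanUni (m : ℕ) : (jordanUni F m).det = 1 := by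
  rw [Matrix.det_of_lowerTriangular]
  · exact Finset.prod_eq_one fun a _ => by simp [jordanUni]
  · intro a b hab
    have : (a : ℕ) < b := hab
    have h1 : a ≠ b := fun h => by rw [h] at this; omega
    simp [jordanUni, Matrix.one_apply, h1]
    omega

variable {p : ℕ} [Fact p.Prime] [CharP F p]

lemma jordanUni_pow_eq_one_iff {m t : ℕ} : jordanUni F m ^ p ^ t = 1 ↔ m ≤ p ^ t := by
  rcases Nat.eq_zero_or_pos m with rfl | hm
  · simp [Subsingleton.elim (jordanUni F 0 ^ p ^ t) 1]
  haveI : Nonempty (Fin m) := ⟨⟨0, hm⟩⟩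
  haveI : Nontrivial F := CharP.nontrivial_of_char_ne_one (Fact.out : p.Prime).ne_one
  rw [jordanUni, add_pow_char_pow_of_commute (p := p) (n := t) (h := Commute.one_left _), one_pow, add_eq_left, shift_pow]
  constructor
  · intro h
    by_contra hlt
    have := congrFun (congrFun h ⟨p ^ t, by omega⟩) ⟨0, hm⟩
    simp at this
  · intro h
    ext a b
    have := a.isLt
    simp; omega

lemma orderOf_jordanUni {m : ℕ} (hm : 2 ≤ m) :
    orderOf (jordanUni F m) = p ^ Nat.clog p m := by
  have hp : 1 < p := (Fact.out : p.Prime).one_lt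
  have hpos : 0 < Nat.clog p m := Nat.clog_pos hp hm
  obtain ⟨c, hc⟩ : ∃ c, Nat.clog p m = c + 1 := ⟨_, (Nat.succ_pred_eq_of_pos hpos).symm⟩
  rw [hc]
  refine orderOf_eq_prime_pow ?_ ?_
  · rw [jordanUni_pow_eq_one_iff]
    intro h
    have := (Nat.clog_le_iff_le_pow hp).2 h
    omega
  · rw [jordanUni_pow_eq_one_iff, ← hc]
    exact Nat.le_pow_clog hp m

end Block

section Singer

variable {F : Type*} [Field F] [Fintype F]

/-- A field extension of degree `n` embedded in `n × n` matrices by multiplication. -/
lemma exists_extension_matrix (n : ℕ) (hn : 1 ≤ n) :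
    ∃ (L : Type) (_ : Field L) (_ : Fintype L) (_ : Algebra F L) (φ : L →ₐ[F] Matrix (Fin n) (Fin n) F),
      Module.finrank F L = n ∧ Fintype.card L = Fintype.card F ^ n ∧ Function.Injective φ ∧
        ∀ x, (φ x).det = Algebra.norm F x := by
  haveI : NeZero n := ⟨by omega⟩
  obtain ⟨p, hp⟩ := CharP.exists F
  haveI : Fact p.Prime := ⟨CharP.char_is_prime F p⟩
  let L := FiniteField.Extension F p n
  letI : Fintype L := Fintype.ofFinite _
  have hfr : Module.finrank F L = n := FiniteField.finrank_extension F p n
  let b : Module.Basis (Fin n) F L := Module.finBasisOfFinrankEq F L hfr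
  refine ⟨L, inferInstance, inferInstance, inferInstance, Algebra.leftMulMatrix b, hfr, ?_,
    Algebra.leftMulMatrix_injective b, fun x => (Algebra.norm_eq_matrix_det b x).symm⟩
  rw [← Nat.card_eq_fintype_card, ← Nat.card_eq_fintype_card]
  exact FiniteField.natCard_extension F p n

/-- There is an invertible `i × i` matrix of order `q ^ i - 1`. -/
lemma exists_matrix_orderOf_eq (i : ℕ) (hi : 1 ≤ i) :
    ∃ M : Matrix (Fin i) (Fin i) F, IsUnit M ∧ orderOf M = Fintype.card F ^ i - 1 := by
  obtain ⟨L, _, _, _, φ, -, hcard, hinj, -⟩ := exists_extension_matrix (F := F) i hi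
  obtain ⟨g, hg⟩ := IsCyclic.exists_ofOrder_eq_natCard (α := Lˣ)
  refine ⟨φ (g : L), g.isUnit.map φ, ?_⟩
  refine (orderOf_injective φ.toRingHom.toMonoidHom hinj (g : L)).trans ?_
  rw [orderOf_units, hg, Nat.card_units, Nat.card_eq_fintype_card, hcard]

end Singer

end CfsgLib.KnownSimple
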