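/-
Element orders in PSL(n, q): multiplying an order by a prime r dividing q - 1 and prime to n, or bounding it
by a Singer element and a regular unipotent element.
-/
import Mathlib
import Cfsg.Agent.Lib.KnownSimple.GLBasics

namespace CfsgLib.KnownSimple

open Matrix

variable {F : Type*} [Field F] [Fintype F]

local notation "PSL" => fun n => Matrix.ProjectiveSpecialLinearGroup (Fin n) F

/-- The class in `PSL` of a determinant one matrix. -/
def pslMk {n : ℕ} (s : Matrix.SpecialLinearGroup (Fin n) F) :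
    Matrix.ProjectiveSpecialLinearGroup (Fin n) F :=
  QuotientGroup.mk' _ s

lemma pslMk_pow_eq_one_iff {n : ℕ} (s : Matrix.SpecialLinearGroup (Fin n) F) (m : ℕ) :
    pslMk s ^ m = 1 ↔ ∃ c : F, (s : Matrix (Fin n) (Fin n) F) ^ m = c • 1 := by
  rw [pslMk, ← map_pow, QuotientGroup.mk'_apply, QuotientGroup.eq_one_iff,
    Matrix.SpecialLinearGroup.mem_center_iff]
  constructor
  · rintro ⟨c, -, hc⟩
    refine ⟨c, ?_⟩
    rw [← Matrix.SpecialLinearGroup.coe_pow, ← hc, Matrix.scalar_apply, Matrix.smul_one_eq_diagonal]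
  · rintro ⟨c, hc⟩
    refine ⟨c, ?_, ?_⟩
    · have := congrArg Matrix.det hc
      rw [← Matrix.SpecialLinearGroup.coe_pow, (s ^ m).prop, Matrix.det_smul, Matrix.det_one,
        mul_one] at this
      exact this.symm
    · rw [Matrix.SpecialLinearGroup.coe_pow, hc, Matrix.scalar_apply, Matrix.smul_one_eq_diagonal]

/-- For a matrix of `p`-power order, passing to `PSL` does not lower the order. -/
lemma orderOf_pslMk_of_pow_char {n : ℕ} (hn : 1 ≤ n) {p c : ℕ} [Fact p.Prime] [CharP F p]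
    (s : Matrix.SpecialLinearGroup (Fin n) F) (hs : (s : Matrix (Fin n) (Fin n) F) ^ p ^ c = 1) :
    orderOf (pslMk s) = orderOf (s : Matrix (Fin n) (Fin n) F) := by
  haveI : Nonempty (Fin n) := ⟨⟨0, hn⟩⟩
  apply Nat.dvd_antisymm
  · rw [orderOf_dvd_iff_pow_eq_one, pslMk_pow_eq_one_iff]
    exact ⟨1, by rw [pow_orderOf_eq_one, one_smul]⟩
  · rw [orderOf_dvd_iff_pow_eq_one]
    obtain ⟨d, hd⟩ := (pslMk_pow_eq_one_iff s _).1 (pow_orderOf_eq_one (pslMk s))
    have h1 : (d • (1 : Matrix (Fin n) (Fin n) F)) ^ p ^ c = 1 := by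
      rw [← hd, ← pow_mul, mul_comm, pow_mul, hs, one_pow]
    rw [smul_pow, one_pow] at h1
    have h2 : d ^ p ^ c = 1 := by
      have := congrFun (congrFun h1 ⟨0, hn⟩) ⟨0, hn⟩
      simpa using this
    have h3 : d = 1 := iterateFrobenius_inj F p c (by simpa [iterateFrobenius_def] using h2)
    rw [hd, h3, one_smul]

variable {r : ℕ}

/-- An idempotent commuting with `s`, other than `0` and `1`, gives an element of order `r` in the centralizer. -/
lemma exists_orderOf_lcm_dvd {n : ℕ} (hn : 1 ≤ n) (hr : r.Prime) (hrq : r ∣ Fintype.card F - 1)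
    (hrn : ¬ r ∣ n) (s : Matrix.SpecialLinearGroup (Fin n) F) (e : Matrix (Fin n) (Fin n) F)
    (he : IsIdempotentElem e) (he0 : e ≠ 0) (he1 : e ≠ 1)
    (hcomm : Commute e (s : Matrix (Fin n) (Fin n) F)) :
    ∃ y : Matrix.ProjectiveSpecialLinearGroup (Fin n) F, Nat.lcm (orderOf (pslMk s)) r ∣ orderOf y := by
  classical
  haveI : Fact r.Prime := ⟨hr⟩
  haveI : Nonempty (Fin n) := ⟨⟨0, hn⟩⟩
  obtain ⟨u, hu⟩ := exists_prime_orderOf_dvd_card' (G := Fˣ) r
    (by rw [Nat.card_units, Nat.card_eq_fintype_card]; exact hrq)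
  set c : F := (u : F) with hc
  have hco : orderOf c = r := by rw [hc, orderOf_units, hu]
  have hc1 : c - 1 ≠ 0 := fun h => by
    rw [sub_eq_zero.1 h, orderOf_one] at hco
    exact hr.one_lt.ne hco
  have hcr : c ^ r = 1 := by rw [← hco]; exact pow_orderOf_eq_one c
  set z : Matrix (Fin n) (Fin n) F := 1 + (c - 1) • e with hz
  have hzpow : ∀ k : ℕ, z ^ k = 1 + (c ^ k - 1) • e := by
    intro k
    induction k with
    | zero => simp
    | succ k ih =>
      rw [pow_succ, ih, hz, add_mul, one_mul, mul_add, mul_one, smul_mul_smul_comm, he.eq, add_assoc,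
        ← add_smul, ← add_smul]
      congr 2
      rw [pow_succ]; ring
  have hzr : z ^ r = 1 := by rw [hzpow, hcr, sub_self, zero_smul, add_zero]
  have hdz : z.det ^ r = 1 := by rw [← Matrix.det_pow, hzr, Matrix.det_one]
  haveI : NeZero r := ⟨hr.ne_zero⟩
  obtain ⟨j, hj, hjz⟩ := (IsPrimitiveRoot.iff_orderOf.2 hco).eq_pow_of_pow_eq_one hdz
  obtain ⟨t, ht⟩ : ∃ t : ℕ, r ∣ t * n + j := by
    refine ⟨(-(j : ZMod r) / (n : ZMod r)).val, ?_⟩
    have hn0 : (n : ZMod r) ≠ 0 := fun h => hrn ((ZMod.natCast_eq_zero_iff n r).1 h)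
    rw [← ZMod.natCast_eq_zero_iff]
    push_cast
    rw [ZMod.natCast_zmod_val, div_mul_cancel₀ _ hn0, neg_add_cancel]
  have hdet : (c ^ t • z).det = 1 := by
    obtain ⟨k, hk⟩ := ht
    rw [Matrix.det_smul, Fintype.card_fin, ← pow_mul, ← hjz, ← pow_add, hk, pow_mul, hcr, one_pow]
  let w : Matrix.SpecialLinearGroup (Fin n) F := ⟨c ^ t • z, hdet⟩
  have hwo : orderOf (pslMk w) = r := by
    refine orderOf_eq_prime ?_ ?_
    · rw [pslMk_pow_eq_one_iff]
      exact ⟨(c ^ t) ^ r, by show (c ^ t • z) ^ r = _; rw [smul_pow, hzr]⟩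
    · intro h
      obtain ⟨d, hd⟩ := (pslMk_pow_eq_one_iff w 1).1 (by rw [pow_one]; exact h)
      replace hd : c ^ t • z = d • 1 := by rw [pow_one] at hd; exact hd
      have hct : c ^ t ≠ 0 := pow_ne_zero _ u.ne_zero
      have hz' : z = (d / c ^ t) • 1 := by
        rw [div_eq_inv_mul, mul_smul, ← hd, smul_smul, inv_mul_cancel₀ hct, one_smul]
      have hes : e = ((c - 1)⁻¹ * (d / c ^ t - 1)) • 1 := by
        rw [mul_smul, sub_smul, ← hz', one_smul, hz, add_sub_cancel_left, smul_smul,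
          inv_mul_cancel₀ hc1, one_smul]
      set a := (c - 1)⁻¹ * (d / c ^ t - 1)
      have ha : a * a = a := by
        have := congrFun (congrFun he.eq ⟨0, hn⟩) ⟨0, hn⟩
        rw [hes, smul_mul_smul_comm, one_mul] at this
        simpa using this
      rcases IsIdempotentElem.iff_eq_zero_or_one.1 (ha : IsIdempotentElem a) with h0 | h0
      all_goals first
        | exact he1 (by rw [hes, h0, one_smul])
        | exact he0 (by rw [hes, h0, zero_smul])
  have hcomm' : Commute (pslMk s) (pslMk w) := by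
    refine Commute.map ?_ (QuotientGroup.mk' _)
    apply Subtype.ext
    show (s : Matrix (Fin n) (Fin n) F) * (c ^ t • z) = (c ^ t • z) * s
    exact ((((Commute.one_left _).add_left (hcomm.smul_left _)).smul_left _).eq).symm
  by_cases hra : r ∣ orderOf (pslMk s)
  · exact ⟨pslMk s, Nat.lcm_dvd dvd_rfl hra⟩
  · refine ⟨pslMk s * pslMk w, ?_⟩
    have hcop : (orderOf (pslMk s)).Coprime (orderOf (pslMk w)) := by
      rw [hwo]; exact ((hr.coprime_iff_not_dvd).2 hra).symm
    rw [hcomm'.orderOf_mul_eq_mul_orderOf_of_coprime hcop, hwo]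
    exact Nat.lcm_dvd (dvd_mul_right _ _) (dvd_mul_left _ _)

/-- In a finite monoid some positive power of every element is idempotent. -/
lemma exists_pow_idempotent {M : Type*} [Monoid M] [Finite M] (a : M) :
    ∃ k : ℕ, 1 ≤ k ∧ IsIdempotentElem (a ^ k) := by
  obtain ⟨i, j, hij, h⟩ : ∃ i j : ℕ, i < j ∧ a ^ i = a ^ j := by
    obtain ⟨i, j, hne, h⟩ := Finite.exists_ne_map_eq_of_infinite fun k : ℕ => a ^ k
    rcases lt_or_gt_of_ne hne with h' | h'
    · exact ⟨i, j, h', h⟩
    · exact ⟨j, i, h', h.symm⟩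
  have hper : ∀ x : ℕ, ∀ k : ℕ, a ^ (i + x + (j - i) * k) = a ^ (i + x) := by
    intro x k
    induction k with
    | zero => simp
    | succ k ih =>
      have e1 : i + x + (j - i) * (k + 1) = j + (x + (j - i) * k) := by
        rw [Nat.mul_succ]; omega
      rw [e1, pow_add, ← h, ← pow_add, ← ih, add_assoc]
  refine ⟨(j - i) * (i + 1), Nat.one_le_iff_ne_zero.2 (Nat.mul_ne_zero (by omega) (by omega)), ?_⟩
  obtain ⟨x, hx⟩ : ∃ x, (j - i) * (i + 1) = i + x :=
    ⟨(j - i) * (i + 1) - i, by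
      have : 1 * (i + 1) ≤ (j - i) * (i + 1) := Nat.mul_le_mul_right _ (by omega)
      omega⟩
  unfold IsIdempotentElem
  rw [← pow_add]
  conv_lhs => rw [hx]
  conv_rhs => rw [hx, ← hper x (i + 1), hx]

/-- A field of matrices embeds in the degree `n` extension, sending determinant one to norm one. -/
lemma exists_algHom_norm_eq_one {n : ℕ} (hn : 1 ≤ n) {K L : Type*} [Field K] [Finite K] [Algebra F K]
    [Field L] [Finite L] [Algebra F L] (hfr : Module.finrank F L = n)
    (ψ : K →ₐ[F] Matrix (Fin n) (Fin n) F) (x : K) (hx : (ψ x).det = 1) :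
    ∃ ι : K →ₐ[F] L, Algebra.norm F (ι x) = 1 := by
  haveI : Nonempty (Fin n) := ⟨⟨0, hn⟩⟩
  let ρ : K →+* Module.End F (Fin n → F) :=
    (Matrix.toLinAlgEquiv' : Matrix (Fin n) (Fin n) F ≃ₐ[F] _).toRingEquiv.toRingHom.comp ψ.toRingHom
  letI : Module K (Fin n → F) := Module.compHom _ ρ
  have hsmul : ∀ (a : K) (v : Fin n → F), a • v = ψ a *ᵥ v := fun a v => rfl
  haveI : IsScalarTower F K (Fin n → F) := ⟨fun f a v => by
    rw [hsmul, hsmul, map_smul]
    exact Matrix.smul_mulVec f _ v⟩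
  haveI : Module.Finite K (Fin n → F) := Module.Finite.of_finite
  haveI : Module.Finite F K := Module.Finite.of_finite
  have hdeg : Module.finrank F K * Module.finrank K (Fin n → F) = n := by
    rw [Module.finrank_mul_finrank, Module.finrank_fin_fun]
  obtain ⟨ι⟩ := FiniteField.nonempty_algHom_of_finrank_dvd (F := F) (K := K) (L := L)
    (by rw [hfr]; exact ⟨_, hdeg.symm⟩)
  refine ⟨ι, ?_⟩
  have hnα : Algebra.norm F x ^ Module.finrank K (Fin n → F) = 1 := by
    have h1 := LinearMap.det_restrictScalars (R := F) (f := x • (LinearMap.id : (Fin n → F) →ₗ[K] _))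
    rw [LinearMap.det_smul, LinearMap.det_id, mul_one, map_pow] at h1
    rw [← h1]
    have h2 : ((x • (LinearMap.id : (Fin n → F) →ₗ[K] _)).restrictScalars F) =
        Matrix.toLin' (ψ x) := LinearMap.ext fun v => hsmul x v
    rw [h2, LinearMap.det_toLin', hx]
  algebraize [ι.toRingHom]
  haveI : Module.Finite K L := Module.Finite.of_finite
  have hk : Module.finrank K L = Module.finrank K (Fin n → F) := by
    have h1 : Module.finrank F K * Module.finrank K L = n := by
      rw [Module.finrank_mul_finrank, hfr]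
    exact Nat.eq_of_mul_eq_mul_left Module.finrank_pos (h1.trans hdeg.symm)
  have h2 : ι x = algebraMap K L x := rfl
  rw [h2, ← Algebra.norm_norm (S := K), Algebra.norm_algebraMap, map_pow, hk, hnα]

/-- If every idempotent of `F[s]` is trivial then the order of `s` in `PSL` divides a `p`-power times the order
of a Singer element of `PSL`. -/
lemma orderOf_pslMk_dvd_singer {n : ℕ} (hn : 1 ≤ n) {p c : ℕ} [Fact p.Prime] [CharP F p]
    (hP : n ≤ p ^ c) :
    ∃ Y : Matrix.SpecialLinearGroup (Fin n) F, (orderOf (pslMk Y)).Coprime p ∧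
      ∀ s : Matrix.SpecialLinearGroup (Fin n) F,
      (∀ e : Matrix (Fin n) (Fin n) F, e ∈ Algebra.adjoin F {(s : Matrix (Fin n) (Fin n) F)} →
        IsIdempotentElem e → e = 0 ∨ e = 1) →
      orderOf (pslMk s) ∣ p ^ c * orderOf (pslMk Y) := by
  classical
  haveI : Nonempty (Fin n) := ⟨⟨0, hn⟩⟩
  obtain ⟨L, _, _, _, φ, hfr, hcard, hinj, hnorm⟩ := exists_extension_matrix (F := F) n hn
  obtain ⟨γ, hγ⟩ := IsCyclic.exists_generator (α := ↥(Units.map (Algebra.norm F (S := L))).ker)
  have hdetY : (φ ((γ : Lˣ) : L)).det = 1 := by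
    rw [hnorm]
    exact congrArg Units.val (MonoidHom.mem_ker.1 γ.2)
  refine ⟨⟨φ ((γ : Lˣ) : L), hdetY⟩, ?_, fun s hs => ?_⟩
  · have h1 : orderOf (pslMk (⟨φ ((γ : Lˣ) : L), hdetY⟩ : Matrix.SpecialLinearGroup (Fin n) F)) ∣
        Fintype.card L - 1 := by
      rw [orderOf_dvd_iff_pow_eq_one]
      refine (pslMk_pow_eq_one_iff _ _).2 ⟨1, ?_⟩
      show φ ((γ : Lˣ) : L) ^ (Fintype.card L - 1) = _
      rw [← map_pow, FiniteField.pow_card_sub_one_eq_one _ (γ : Lˣ).ne_zero, map_one, one_smul]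
    refine Nat.Coprime.coprime_dvd_left h1 (((Fact.out : p.Prime).coprime_iff_not_dvd).2 ?_).symm
    intro h2
    have h3 : p ∣ Fintype.card L := by
      rw [hcard]
      exact dvd_pow ((CharP.cast_eq_zero_iff F p _).1 (FiniteField.cast_card_eq_zero F)) (by omega)
    have h4 : p ∣ 1 := by
      have := Nat.dvd_sub h3 h2
      rwa [Nat.sub_sub_self Fintype.card_pos] at this
    exact (Fact.out : p.Prime).ne_one (Nat.dvd_one.1 h4)
  set A : Matrix (Fin n) (Fin n) F := (s : Matrix (Fin n) (Fin n) F) with hA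
  set R : Subalgebra F (Matrix (Fin n) (Fin n) F) := Algebra.adjoin F {A} with hR
  have hcR : ∀ a ∈ R, ∀ b ∈ R, Commute a b := by
    intro a ha b hb
    have h1 : ∀ x ∈ R, Commute A x := by
      intro x hx
      refine Algebra.adjoin_induction ?_ ?_ ?_ ?_ hx
      · intro y hy; rw [Set.mem_singleton_iff] at hy; subst hy; exact Commute.refl _
      · exact fun f => (Algebra.commutes f A).symm
      · exact fun _ _ _ _ h h' => h.add_right h'
      · exact fun _ _ _ _ h h' => h.mul_right h'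
    refine Algebra.adjoin_induction ?_ ?_ ?_ ?_ ha
    · intro y hy; rw [Set.mem_singleton_iff] at hy; subst hy; exact h1 b hb
    · exact fun f => Algebra.commutes f b
    · exact fun _ _ _ _ h h' => h.add_left h'
    · exact fun _ _ _ _ h h' => h.mul_left h'
  -- the subfield of `p ^ c`-th powers
  let S : Subalgebra F (Matrix (Fin n) (Fin n) F) :=
    { carrier := {y | ∃ a ∈ R, a ^ p ^ c = y}
      mul_mem' := by
        rintro _ _ ⟨a, ha, rfl⟩ ⟨b, hb, rfl⟩
        exact ⟨a * b, mul_mem ha hb, (hcR a ha b hb).mul_pow _⟩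
      add_mem' := by
        rintro _ _ ⟨a, ha, rfl⟩ ⟨b, hb, rfl⟩
        exact ⟨a + b, add_mem ha hb, add_pow_char_pow_of_commute (p := p) (n := c) (h := hcR a ha b hb)⟩
      algebraMap_mem' := by
        intro f
        obtain ⟨g, rfl⟩ := (iterateFrobeniusEquiv F p c).surjective f
        exact ⟨algebraMap F _ g, R.algebraMap_mem g, by
          rw [← map_pow, iterateFrobeniusEquiv_apply, iterateFrobenius_def]⟩ }
  have hunit : ∀ y ∈ S, y ≠ 0 → IsUnit y := by
    rintro _ ⟨a, ha, rfl⟩ hy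
    haveI : Finite R := Finite.of_injective _ Subtype.val_injective
    obtain ⟨k, hk, hid⟩ := exists_pow_idempotent (⟨a, ha⟩ : R)
    have hid' : IsIdempotentElem (a ^ k) := by
      have := congrArg Subtype.val hid.eq
      simpa [IsIdempotentElem] using this
    rcases hs _ (pow_mem ha k) hid' with h0 | h1
    · exfalso
      apply hy
      have hnil : IsNilpotent a := ⟨k, h0⟩
      have h2 := Matrix.isNilpotent_charpoly_sub_pow_of_isNilpotent hnil
      have h3 := Matrix.aeval_self_charpoly a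
      rw [show a.charpoly = Polynomial.X ^ n by simpa [sub_eq_zero] using h2.eq_zero, map_pow,
        Polynomial.aeval_X] at h3
      exact pow_eq_zero_of_le hP h3
    · exact (IsUnit.of_pow_eq_one h1 (by omega)).pow _
  have hfield : IsField S := by
    refine ⟨⟨0, 1, zero_ne_one⟩, ?_, ?_⟩
    · rintro ⟨_, a, ha, rfl⟩ ⟨_, b, hb, rfl⟩
      exact Subtype.ext ((hcR a ha b hb).pow_pow _ _).eq
    · intro x hx
      haveI : Finite S := Finite.of_injective _ Subtype.val_injective
      have hu : IsUnit (x : Matrix (Fin n) (Fin n) F) :=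
        hunit _ x.2 fun h => hx (Subtype.ext h)
      obtain ⟨b, hb⟩ := (Finite.injective_iff_surjective (f := fun y : S => x * y)).1
        (fun y z h => Subtype.ext (hu.mul_right_injective (congrArg Subtype.val h))) 1
      exact ⟨b, hb⟩
  letI : Field S := hfield.toField
  let α : S := ⟨A ^ p ^ c, A, Algebra.self_mem_adjoin_singleton F A, rfl⟩
  letI algS : Algebra F S := S.algebra
  obtain ⟨ι, hnorm1⟩ := exists_algHom_norm_eq_one (K := S) (L := L) hn hfr S.val α (by
    show (A ^ p ^ c).det = 1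
    rw [Matrix.det_pow, hA, s.prop, one_pow])
  have hι0 : ι α ≠ 0 := fun h => by
    rw [h, Algebra.norm_zero] at hnorm1
    exact zero_ne_one hnorm1
  obtain ⟨t, ht⟩ := (mem_powers_iff_mem_zpowers (x := γ)).2
    (hγ ⟨Units.mk0 _ hι0, MonoidHom.mem_ker.2 (Units.ext (by simpa using hnorm1))⟩)
  have ht' : ι α = ((γ : Lˣ) : L) ^ t := by
    have := congrArg (fun x : ↥(Units.map (Algebra.norm F (S := L))).ker => ((x : Lˣ) : L)) ht
    simpa using this.symm
  rw [orderOf_dvd_iff_pow_eq_one, pslMk_pow_eq_one_iff]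
  obtain ⟨d, hd⟩ := (pslMk_pow_eq_one_iff _ _).1
    (pow_orderOf_eq_one (pslMk (⟨φ ((γ : Lˣ) : L), hdetY⟩ : Matrix.SpecialLinearGroup (Fin n) F)))
  generalize orderOf (pslMk (⟨φ ((γ : Lˣ) : L), hdetY⟩ : Matrix.SpecialLinearGroup (Fin n) F)) = m at hd ⊢
  have h3 : ((γ : Lˣ) : L) ^ m = algebraMap F L d := hinj (by
    rw [map_pow, AlgHom.commutes, Algebra.algebraMap_eq_smul_one]
    exact hd)
  have h4 : α ^ m = algebraMap F S (d ^ t) := ι.toRingHom.injective (by
    show ι (α ^ m) = ι (algebraMap F S (d ^ t))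
    rw [map_pow, ht', AlgHom.commutes, ← pow_mul, mul_comm, pow_mul, h3, map_pow])
  refine ⟨d ^ t, ?_⟩
  have h5 := congrArg Subtype.val h4
  rw [pow_mul]
  simpa [α, Algebra.algebraMap_eq_smul_one] using h5

end CfsgLib.KnownSimple
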