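/-
Local balance criterion: the p'-core of the centralizer of an automorphism of order p in a group of automorphisms.
-/
import Cfsg.Agent.Lib.Cores.Basic
import Cfsg.Prelude.Def_Solvable

set_option autoImplicit false

namespace CfsgLib.Balance

open Subgroup

variable {X : Type*} [Group X] [Finite X]

/-- If a normalised subgroup `R` meets every coprime subgroup it normalises trivially, absorbs the centraliser of `x` in `I` up
to squares, and has centraliser `⟨x⟩` in the centraliser of `x`, then the core of `C_A(x)` is trivial. -/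
theorem core_eq_bot (A I : Subgroup X) [I.Normal] (hIA : I ≤ A) (x : X) (p : ℕ) [Fact p.Prime] (hx : x ^ p = 1)
    (R : Subgroup X) (hRI : R ≤ I) (hRx : R ≤ centralizer {x})
    (hR : ∀ M : Subgroup X, M ≤ R → (∀ r ∈ R, ∀ u ∈ M, r * u * r⁻¹ ∈ M) → (Nat.card M).Coprime p → M = ⊥)
    (hsq : ∀ z ∈ I ⊓ centralizer {x}, z ∈ R ∨ (p = 2 ∧ z ^ 2 ∈ R))
    (hcent : ∀ n : X, Commute n x → (∀ r ∈ R, Commute n r) → n ∈ zpowers x) :
    Cfsg.pPrimeCore p ↥(A ⊓ centralizer {x}) = ⊥ := by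
  set C := A ⊓ centralizer {x}
  rw [CfsgLib.Cores.pPrimeCore_eq_bot_iff]
  intro N hN hcop
  let M : Subgroup X := N.map C.subtype
  have hMC : M ≤ C := Subgroup.map_subtype_le _
  have hcard : Nat.card M = Nat.card N := Nat.card_congr (N.equivMapOfInjective C.subtype C.subtype_injective).toEquiv.symm
  have hMn : ∀ c ∈ C, ∀ u ∈ M, c * u * c⁻¹ ∈ M := by
    rintro c hc _ ⟨u, hu, rfl⟩
    exact ⟨⟨c, hc⟩ * u * ⟨c, hc⟩⁻¹, hN.conj_mem u hu _, rfl⟩
  have hRC : R ≤ C := le_inf (hRI.trans hIA) hRx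
  have hcopM : (Nat.card M).Coprime p := hcard ▸ hcop
  have hMR : M ⊓ R = ⊥ := hR _ inf_le_right
    (fun r hr u hu => ⟨hMn r (hRC hr) u hu.1, R.mul_mem (R.mul_mem hr hu.2) (R.inv_mem hr)⟩)
    (hcopM.coprime_dvd_left (Subgroup.card_dvd_of_le inf_le_left))
  have hMI : ∀ z ∈ M, z ∈ I → z = 1 := by
    intro z hz hzI
    rcases hsq z ⟨hzI, (hMC hz).2⟩ with h | ⟨rfl, h⟩
    · exact Subgroup.mem_bot.1 (hMR ▸ ⟨hz, h⟩)
    · have h1 : z ^ 2 = 1 := Subgroup.mem_bot.1 (hMR ▸ ⟨M.pow_mem hz 2, h⟩)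
      exact orderOf_eq_one_iff.1 (Nat.eq_one_of_dvd_coprimes hcopM
        (Subgroup.orderOf_dvd_natCard M hz) (orderOf_dvd_of_pow_eq_one h1))
  rw [eq_bot_iff]
  intro u hu
  have hu' : (u : X) ∈ M := ⟨u, hu, rfl⟩
  have hcomm : ∀ r ∈ R, Commute (u : X) r := by
    intro r hr
    have h1 : (u : X) * r * (u : X)⁻¹ * r⁻¹ ∈ M := by
      rw [mul_assoc (u : X), mul_assoc (u : X)]
      exact M.mul_mem hu' (hMn r (hRC hr) _ (M.inv_mem hu'))
    have h2 : (u : X) * r * (u : X)⁻¹ * r⁻¹ ∈ I :=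
      I.mul_mem (‹I.Normal›.conj_mem r (hRI hr) _) (I.inv_mem (hRI hr))
    exact mul_inv_eq_iff_eq_mul.1 (mul_inv_eq_one.1 (hMI _ h1 h2))
  have hux : Commute (u : X) x := Subgroup.mem_centralizer_singleton_iff.1 (hMC hu').2
  obtain ⟨k, hk⟩ := hcent u hux hcomm
  have hp : (u : X) ^ p = 1 := by
    rw [← hk]
    show (x ^ k) ^ p = 1
    rw [← zpow_natCast, ← zpow_mul, mul_comm, zpow_mul, zpow_natCast, hx, one_zpow]
  have h1 : (u : X) = 1 := orderOf_eq_one_iff.1 (Nat.eq_one_of_dvd_coprimes hcopM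
    (Subgroup.orderOf_dvd_natCard M hu') (orderOf_dvd_of_pow_eq_one hp))
  exact Subgroup.mem_bot.2 (Subtype.ext h1)

/-- A nontrivial coprime centraliser in a normal subgroup gives a nontrivial core. -/
theorem core_ne_bot (A I : Subgroup X) [I.Normal] (hIA : I ≤ A) (x : X) (p : ℕ)
    (hcop : (Nat.card ↥(I ⊓ centralizer {x})).Coprime p) (hne : ∃ z ∈ I ⊓ centralizer {x}, z ≠ 1) :
    Cfsg.pPrimeCore p ↥(A ⊓ centralizer {x}) ≠ ⊥ := by
  intro hbot
  set C := A ⊓ centralizer {x}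
  haveI hn : ((I ⊓ centralizer {x}).subgroupOf C).Normal := ⟨fun u hu c => by
    rw [Subgroup.mem_subgroupOf] at hu ⊢
    refine ⟨‹I.Normal›.conj_mem _ hu.1 _, ?_⟩
    exact (centralizer {x}).mul_mem ((centralizer {x}).mul_mem c.2.2 hu.2) ((centralizer {x}).inv_mem c.2.2)⟩
  have hc : (Nat.card ↥((I ⊓ centralizer {x}).subgroupOf C)).Coprime p := by
    rw [Nat.card_congr (Subgroup.subgroupOfEquivOfLe (show I ⊓ centralizer {x} ≤ C from inf_le_inf_right _ hIA)).toEquiv]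
    exact hcop
  obtain ⟨z, hz, hz1⟩ := hne
  have := hbot ▸ CfsgLib.Cores.le_pPrimeCore (hn := hn) hc (show (⟨z, hIA hz.1, hz.2⟩ : C) ∈ _ from hz)
  exact hz1 (congrArg Subtype.val (Subgroup.mem_bot.1 this))

/-- The centraliser of an automorphism among inner automorphisms is its fixed subgroup. -/
theorem card_inn_centralizer {K : Type*} [Group K] (hK : ∀ k : K, (MulAut.conj k : MulAut K) = 1 → k = 1) (x : MulAut K) :
    Nat.card ↥((MulAut.conj : K →* MulAut K).range ⊓ centralizer {x}) =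
      Nat.card ↥(MonoidHom.eqLocus x.toMonoidHom (MonoidHom.id K)) := by
  have key : ∀ k : K, MulAut.conj k ∈ centralizer {x} ↔ x k = k := by
    intro k
    have h1 : x * MulAut.conj k = MulAut.conj (x k) * x := MulEquiv.ext fun y => by simp
    rw [Subgroup.mem_centralizer_singleton_iff, h1, mul_left_inj]
    refine ⟨fun e => ?_, fun e => by rw [e]⟩
    exact mul_inv_eq_one.1 (hK _ (by rw [map_mul, map_inv, ← e, mul_inv_cancel]))
  symm
  refine Nat.card_congr (Equiv.ofBijective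
    (fun k => ⟨MulAut.conj k.1, ⟨⟨k.1, rfl⟩, (key _).2 k.2⟩⟩) ⟨fun a b e => ?_, ?_⟩)
  · have e' : MulAut.conj a.1 = MulAut.conj b.1 := congrArg Subtype.val e
    exact Subtype.ext (mul_inv_eq_one.1 (hK _ (by rw [map_mul, map_inv, e', mul_inv_cancel])))
  · rintro ⟨_, ⟨k, rfl⟩, hk⟩
    exact ⟨⟨k, (key k).1 hk⟩, rfl⟩

/-- If a normalised subgroup `R` meets every coprime subgroup it normalises trivially, is normalised by the centraliser of
`x` in `I`, and has centraliser `⟨x⟩`, then the core of `C_A(x)` is trivial. -/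
theorem core_eq_bot_of_normalized (A I : Subgroup X) [I.Normal] (hIA : I ≤ A) (x : X) (p : ℕ) [Fact p.Prime]
    (hx : x ^ p = 1) (R : Subgroup X) (hRI : R ≤ I) (hRx : R ≤ centralizer {x})
    (hR : ∀ M : Subgroup X, M ≤ R → (∀ r ∈ R, ∀ u ∈ M, r * u * r⁻¹ ∈ M) → (Nat.card M).Coprime p → M = ⊥)
    (hnorm : ∀ z ∈ I ⊓ centralizer {x}, ∀ r ∈ R, z * r * z⁻¹ ∈ R)
    (hcent : ∀ n : X, Commute n x → (∀ r ∈ R, Commute n r) → n ∈ zpowers x) :
    Cfsg.pPrimeCore p ↥(A ⊓ centralizer {x}) = ⊥ := by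
  set C := A ⊓ centralizer {x}
  rw [CfsgLib.Cores.pPrimeCore_eq_bot_iff]
  intro N hN hcop
  let M : Subgroup X := N.map C.subtype
  have hMC : M ≤ C := Subgroup.map_subtype_le _
  have hcard : Nat.card M = Nat.card N := Nat.card_congr (N.equivMapOfInjective C.subtype C.subtype_injective).toEquiv.symm
  have hMn : ∀ c ∈ C, ∀ u ∈ M, c * u * c⁻¹ ∈ M := by
    rintro c hc _ ⟨u, hu, rfl⟩
    exact ⟨⟨c, hc⟩ * u * ⟨c, hc⟩⁻¹, hN.conj_mem u hu _, rfl⟩
  have hRC : R ≤ C := le_inf (hRI.trans hIA) hRx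
  have hcopM : (Nat.card M).Coprime p := hcard ▸ hcop
  have hMR : M ⊓ R = ⊥ := hR _ inf_le_right
    (fun r hr u hu => ⟨hMn r (hRC hr) u hu.1, R.mul_mem (R.mul_mem hr hu.2) (R.inv_mem hr)⟩)
    (hcopM.coprime_dvd_left (Subgroup.card_dvd_of_le inf_le_left))
  have hpow : ∀ z ∈ M, z ∈ zpowers x → z = 1 := by
    rintro z hz ⟨k, hk⟩
    have hp : z ^ p = 1 := by
      rw [← hk]
      show (x ^ k) ^ p = 1
      rw [← zpow_natCast, ← zpow_mul, mul_comm, zpow_mul, zpow_natCast, hx, one_zpow]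
    exact orderOf_eq_one_iff.1 (Nat.eq_one_of_dvd_coprimes hcopM
      (Subgroup.orderOf_dvd_natCard M hz) (orderOf_dvd_of_pow_eq_one hp))
  have hcommM : ∀ z ∈ M, ∀ r ∈ R, z * r * z⁻¹ * r⁻¹ ∈ M := by
    intro z hz r hr
    rw [mul_assoc z, mul_assoc z]
    exact M.mul_mem hz (hMn r (hRC hr) _ (M.inv_mem hz))
  have hMI : ∀ z ∈ M, z ∈ I → z = 1 := by
    intro z hz hzI
    refine hpow z hz (hcent z (Subgroup.mem_centralizer_singleton_iff.1 (hMC hz).2) fun r hr => ?_)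
    have h1 : z * r * z⁻¹ * r⁻¹ ∈ M ⊓ R := ⟨hcommM z hz r hr, R.mul_mem (hnorm z ⟨hzI, (hMC hz).2⟩ r hr) (R.inv_mem hr)⟩
    rw [hMR, Subgroup.mem_bot] at h1
    exact mul_inv_eq_iff_eq_mul.1 (mul_inv_eq_one.1 h1)
  rw [eq_bot_iff]
  intro u hu
  have hu' : (u : X) ∈ M := ⟨u, hu, rfl⟩
  refine Subgroup.mem_bot.2 (Subtype.ext (hpow _ hu' (hcent _ (Subgroup.mem_centralizer_singleton_iff.1 (hMC hu').2)
    fun r hr => ?_)))
  have h2 : (u : X) * r * (u : X)⁻¹ * r⁻¹ ∈ I :=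
    I.mul_mem (‹I.Normal›.conj_mem r (hRI hr) _) (I.inv_mem (hRI hr))
  exact mul_inv_eq_iff_eq_mul.1 (mul_inv_eq_one.1 (hMI _ (hcommM _ hu' r hr) h2))

omit [Finite X] in
lemma mem_centralizer_conj_iff (a x z : X) :
    a * z * a⁻¹ ∈ centralizer {a * x * a⁻¹} ↔ z ∈ centralizer {x} := by
  rw [Subgroup.mem_centralizer_singleton_iff, Subgroup.mem_centralizer_singleton_iff]
  constructor
  · intro h
    calc z * x = a⁻¹ * (a * z * a⁻¹ * (a * x * a⁻¹)) * a := by group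
      _ = a⁻¹ * (a * x * a⁻¹ * (a * z * a⁻¹)) * a := by rw [h]
      _ = _ := by group
  · intro h
    calc a * z * a⁻¹ * (a * x * a⁻¹) = a * (z * x) * a⁻¹ := by group
      _ = a * (x * z) * a⁻¹ := by rw [h]
      _ = _ := by group

omit [Finite X] in
/-- The criterion may be checked on a conjugate. -/
theorem core_conj_eq_bot_iff (A : Subgroup X) (a x : X) (p : ℕ) :
    Cfsg.pPrimeCore p ↥(A ⊓ centralizer {a * x * a⁻¹}) = ⊥ ↔
      Cfsg.pPrimeCore p ↥(A.comap (MulAut.conj a).toMonoidHom ⊓ centralizer {x}) = ⊥ := by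
  have hmap : (A.comap (MulAut.conj a).toMonoidHom ⊓ centralizer {x}).map (MulAut.conj a).toMonoidHom =
      A ⊓ centralizer {a * x * a⁻¹} := by
    ext y
    constructor
    · rintro ⟨z, ⟨hz, hzx⟩, rfl⟩
      exact ⟨hz, (mem_centralizer_conj_iff a x z).2 hzx⟩
    · rintro ⟨hy, hyx⟩
      have e : a * (a⁻¹ * y * a) * a⁻¹ = y := by group
      exact ⟨a⁻¹ * y * a, ⟨show a * (a⁻¹ * y * a) * a⁻¹ ∈ A from e.symm ▸ hy,
        (mem_centralizer_conj_iff a x _).1 (e.symm ▸ hyx)⟩, e⟩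
  let e := (((A.comap (MulAut.conj a).toMonoidHom ⊓ centralizer {x}).equivMapOfInjective _ (MulAut.conj a).injective).trans
    (MulEquiv.subgroupCongr hmap))
  have key : ∀ {G H : Type _} [Group G] [Group H] (e : G ≃* H), Cfsg.pPrimeCore p G = ⊥ → Cfsg.pPrimeCore p H = ⊥ := by
    intro G H _ _ e h
    rw [CfsgLib.Cores.pPrimeCore_eq_bot_iff] at h ⊢
    intro N hN hcop
    have h1 := h (N.comap e.toMonoidHom) inferInstance (by
      rwa [Nat.card_congr ((N.comap e.toMonoidHom).equivMapOfInjective e.toMonoidHom e.injective).toEquiv,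
        Subgroup.map_comap_eq_self_of_surjective e.surjective])
    rw [← Subgroup.map_comap_eq_self_of_surjective (f := e.toMonoidHom) e.surjective N, h1, Subgroup.map_bot]
  exact ⟨key e.symm, key e⟩

omit [Finite X] in
theorem card_inf_centralizer_conj (I : Subgroup X) [I.Normal] (a x : X) :
    Nat.card ↥(I ⊓ centralizer {a * x * a⁻¹}) = Nat.card ↥(I ⊓ centralizer {x}) := by
  refine (Nat.card_congr (Equiv.subtypeEquiv (MulAut.conj a).toEquiv fun z => ?_)).symm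
  constructor
  · rintro ⟨hz, hzx⟩
    exact ⟨‹I.Normal›.conj_mem z hz a, (mem_centralizer_conj_iff a x z).2 hzx⟩
  · rintro ⟨hz, hzx⟩
    refine ⟨?_, (mem_centralizer_conj_iff a x z).1 hzx⟩
    have := ‹I.Normal›.conj_mem _ hz a⁻¹
    simpa [mul_assoc] using this

end CfsgLib.Balance
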