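/-
Elements and subgroups of symplectic groups: block sums, SL2, field restriction, a regular unipotent element.
-/
import Cfsg.Agent.Lib.Classical.SpBasic
import Cfsg.Agent.Lib.KnownSimple.GLBasics

set_option autoImplicit false

namespace CfsgLib.KnownSimple

open Matrix CfsgLib.Classical

/-- A homomorphism of matrix monoids restricts to symplectic groups if it takes forms to forms. -/
lemma mem_sp_of_form {F : Type*} [Field F] {n : ℕ} (M : Matrix (Fin n ⊕ Fin n) (Fin n ⊕ Fin n) F)
    (h : ∀ u v, Cfsg.sympForm n F (M *ᵥ u) (M *ᵥ v) = Cfsg.sympForm n F u v) :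
    M ∈ symplecticGroup (Fin n) F := mem_sp_iff.2 h

section Sum

variable {F : Type*} [Field F] {a b n : ℕ}

/-- The index equivalence behind the block sum of symplectic groups. -/
def spSumEquiv (h : a + b = n) : (Fin a ⊕ Fin a) ⊕ (Fin b ⊕ Fin b) ≃ Fin n ⊕ Fin n :=
  (Equiv.sumSumSumComm (Fin a) (Fin a) (Fin b) (Fin b)).trans
    ((finSumFinEquiv.trans (finCongr h)).sumCongr (finSumFinEquiv.trans (finCongr h)))

lemma sympForm_spSumEquiv (h : a + b = n) (u v : Fin n ⊕ Fin n → F) :
    Cfsg.sympForm n F u v =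
      Cfsg.sympForm a F (u ∘ spSumEquiv h ∘ Sum.inl) (v ∘ spSumEquiv h ∘ Sum.inl) +
        Cfsg.sympForm b F (u ∘ spSumEquiv h ∘ Sum.inr) (v ∘ spSumEquiv h ∘ Sum.inr) := by
  subst h
  simp only [sympForm_eq, Fin.sum_univ_add, Function.comp_apply]
  rfl

/-- Block sum `Sp_2a × Sp_2b → Sp_2(a+b)`. -/
def spSum (h : a + b = n) :
    (symplecticGroup (Fin a) F) × (symplecticGroup (Fin b) F) →* symplecticGroup (Fin n) F where
  toFun p := ⟨Matrix.reindexAlgEquiv F F (spSumEquiv h) (fromBlocks p.1.1 0 0 p.2.1), by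
    refine mem_sp_of_form _ fun u v => ?_
    have key : ∀ w : Fin n ⊕ Fin n → F,
        (Matrix.reindexAlgEquiv F F (spSumEquiv h) (fromBlocks p.1.1 0 0 p.2.1) *ᵥ w) ∘ spSumEquiv h =
          Sum.elim (p.1.1 *ᵥ (w ∘ spSumEquiv h ∘ Sum.inl)) (p.2.1 *ᵥ (w ∘ spSumEquiv h ∘ Sum.inr)) := by
      intro w
      rw [Matrix.coe_reindexAlgEquiv, Matrix.reindex_apply, Matrix.submatrix_mulVec_equiv, Equiv.symm_symm,
        Matrix.fromBlocks_mulVec]
      funext x
      simp [Function.comp_assoc]
    rw [sympForm_spSumEquiv h, sympForm_spSumEquiv h u v]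
    simp only [← Function.comp_assoc, key, Sum.elim_comp_inl, Sum.elim_comp_inr, sp_form]⟩
  map_one' := by
    apply Subtype.ext
    simp [Matrix.fromBlocks_one]
  map_mul' p q := by
    apply Subtype.ext
    show Matrix.reindexAlgEquiv F F _ _ = Matrix.reindexAlgEquiv F F _ _ * Matrix.reindexAlgEquiv F F _ _
    rw [← map_mul, Matrix.fromBlocks_multiply]
    simp

lemma spSum_injective (h : a + b = n) : Function.Injective (spSum (F := F) h) := by
  intro p q hpq
  have := (Matrix.fromBlocks_inj).1 ((Matrix.reindexAlgEquiv F F _).injective (congrArg Subtype.val hpq))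
  exact Prod.ext (Subtype.ext this.1) (Subtype.ext this.2.2.2)

end Sum

section SL2

variable {F : Type*} [Field F]

/-- `SL₂` inside `Sp₂`. -/
def slToSp : SpecialLinearGroup (Fin 2) F →* symplecticGroup (Fin 1) F where
  toFun s := ⟨Matrix.reindexAlgEquiv F F finSumFinEquiv.symm s.1, by
    refine mem_sp_of_form _ fun u v => ?_
    have hd := s.2
    rw [Matrix.det_fin_two] at hd
    simp only [sympForm_eq, Finset.univ_unique, Finset.sum_singleton, Fin.default_eq_zero,
      Matrix.coe_reindexAlgEquiv, Matrix.reindex_apply, Equiv.symm_symm, Matrix.mulVec, dotProduct,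
      Fintype.sum_sum_type, Matrix.submatrix_apply, finSumFinEquiv_apply_left, finSumFinEquiv_apply_right]
    simp only [show Fin.castAdd 1 (0 : Fin 1) = (0 : Fin 2) from rfl,
      show Fin.natAdd 1 (0 : Fin 1) = (1 : Fin 2) from rfl]
    linear_combination (u (Sum.inr 0) * v (Sum.inl 0) - u (Sum.inl 0) * v (Sum.inr 0)) * hd⟩
  map_one' := Subtype.ext (map_one (Matrix.reindexAlgEquiv F F (finSumFinEquiv.symm : Fin (1 + 1) ≃ _)))
  map_mul' s t := Subtype.ext (map_mul (Matrix.reindexAlgEquiv F F (finSumFinEquiv.symm : Fin (1 + 1) ≃ _)) s.1 t.1)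

lemma slToSp_injective : Function.Injective (slToSp (F := F)) := fun s t h =>
  Subtype.ext ((Matrix.reindexAlgEquiv F F _).injective (congrArg Subtype.val h))

variable [Fintype F]

/-- `SL₂(q)` has elements of order `q - 1` and `q + 1`. -/
lemma exists_sl2_orderOf :
    (∃ s : SpecialLinearGroup (Fin 2) F, orderOf s = Fintype.card F - 1) ∧
      ∃ s : SpecialLinearGroup (Fin 2) F, orderOf s = Fintype.card F + 1 := by
  classical
  have hco : ∀ s : SpecialLinearGroup (Fin 2) F, orderOf s = orderOf (s : Matrix (Fin 2) (Fin 2) F) :=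
    fun s => (orderOf_injective (⟨⟨Subtype.val, rfl⟩, fun _ _ => rfl⟩ :
      SpecialLinearGroup (Fin 2) F →* Matrix (Fin 2) (Fin 2) F) Subtype.val_injective s).symm
  constructor
  · obtain ⟨g, hg⟩ := IsCyclic.exists_ofOrder_eq_natCard (α := Fˣ)
    let d : Fˣ →* SpecialLinearGroup (Fin 2) F :=
      { toFun := fun x => ⟨diagonal ![(x : F), ((x⁻¹ : Fˣ) : F)], by simp [Fin.prod_univ_two]⟩
        map_one' := Subtype.ext (by
          show diagonal ![((1 : Fˣ) : F), (((1 : Fˣ)⁻¹ : Fˣ) : F)] = 1
          rw [← diagonal_one]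
          congr 1
          funext i; fin_cases i <;> simp)
        map_mul' := fun x y => Subtype.ext (by
          show diagonal _ = diagonal _ * diagonal _
          rw [diagonal_mul_diagonal]
          congr 1
          funext i; fin_cases i <;> simp [mul_comm]) }
    refine ⟨d g, ?_⟩
    rw [orderOf_injective d ?_ g, hg, Nat.card_units, Nat.card_eq_fintype_card]
    intro x y h
    have h00 : diagonal ![(x : F), ((x⁻¹ : Fˣ) : F)] 0 0 = diagonal ![(y : F), ((y⁻¹ : Fˣ) : F)] 0 0 :=
      congrFun (congrFun (congrArg Subtype.val h) 0) 0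
    exact Units.ext (by simpa using h00)
  · obtain ⟨L, _, _, _, φ, hfr, hcard, hinj, hnorm⟩ := exists_extension_matrix (F := F) 2 (by omega)
    obtain ⟨g, hg⟩ := IsCyclic.exists_ofOrder_eq_natCard (α := Lˣ)
    rw [Nat.card_units, Nat.card_eq_fintype_card, hcard] at hg
    set q := Fintype.card F with hq
    have hq1 : 1 < q := Fintype.one_lt_card
    have hfac : q ^ 2 - 1 = (q - 1) * (q + 1) := by
      rw [mul_comm, ← Nat.sq_sub_sq, one_pow]
    have hdet : (φ ((g : L) ^ (q - 1))).det = 1 := by
      rw [hnorm, map_pow]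
      exact FiniteField.pow_card_sub_one_eq_one _ (Algebra.norm_ne_zero_iff.2 g.ne_zero)
    refine ⟨⟨_, hdet⟩, ?_⟩
    refine (hco _).trans ?_
    refine (orderOf_injective φ.toRingHom.toMonoidHom hinj _).trans ?_
    rw [← Units.val_pow_eq_pow_val, orderOf_units, orderOf_pow' _ (by omega), hg, hfac,
      Nat.gcd_eq_right (dvd_mul_right _ _), Nat.mul_div_cancel_left _ (by omega)]

end SL2

section Res

variable {F K : Type*} [Field F] [Field K] [Algebra F K] [FiniteDimensional F K] [Algebra.IsSeparable F K]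

/-- Field restriction `Sp_2a(K) → Sp_2N(F)`, `N = a [K:F]`. -/
lemma exists_spRes {a d N : ℕ} (hd : Module.finrank F K = d) (hN : a * d = N) :
    ∃ φ : symplecticGroup (Fin a) K →* symplecticGroup (Fin N) F, Function.Injective φ := by
  classical
  subst hN
  let b : Module.Basis (Fin d) F K := Module.finBasisOfFinrankEq F K hd
  let b' := b.traceDual
  let e : Fin a × Fin d ≃ Fin (a * d) := finProdFinEquiv
  let B : Module.Basis (Fin (a * d) ⊕ Fin (a * d)) F (Fin a ⊕ Fin a → K) :=
    (Pi.basis fun x : Fin a ⊕ Fin a => Sum.elim (fun _ => b) (fun _ => b') x).reindex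
      ((Equiv.sigmaEquivProd (Fin a ⊕ Fin a) (Fin d)).trans
        ((Equiv.sumProdDistrib _ _ _).trans (e.sumCongr e)))
  let ρ : Matrix (Fin a ⊕ Fin a) (Fin a ⊕ Fin a) K →*
      Matrix (Fin (a * d) ⊕ Fin (a * d)) (Fin (a * d) ⊕ Fin (a * d)) F :=
    { toFun := fun M => LinearMap.toMatrix B B (M.mulVecLin.restrictScalars F)
      map_one' := by
        rw [Matrix.mulVecLin_one]
        exact LinearMap.toMatrix_id B
      map_mul' := fun M M' => by
        rw [Matrix.mulVecLin_mul]
        exact LinearMap.toMatrix_comp B B B (M.mulVecLin.restrictScalars F) (M'.mulVecLin.restrictScalars F) }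
  have hρinj : Function.Injective ρ := by
    intro M M' h
    have h1 := (LinearMap.toMatrix B B).injective h
    exact Matrix.ext_of_mulVec_single fun i => LinearMap.congr_fun h1 (Pi.single i 1)
  have hact : ∀ M (w : Fin (a * d) ⊕ Fin (a * d) → F),
      B.equivFun.symm (ρ M *ᵥ w) = M *ᵥ B.equivFun.symm w := by
    intro M w
    apply B.equivFun.injective
    rw [LinearEquiv.apply_symm_apply]
    have := LinearMap.toMatrix_mulVec_repr B B (M.mulVecLin.restrictScalars F) (B.equivFun.symm w)
    have hw : (B.repr (B.equivFun.symm w) : _ → F) = w := B.equivFun.apply_symm_apply w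
    rw [hw] at this
    exact this
  have hform : ∀ u v : Fin a ⊕ Fin a → K,
      Cfsg.sympForm (a * d) F (B.equivFun u) (B.equivFun v) = Algebra.trace F K (Cfsg.sympForm a K u v) := by
    intro u v
    have hl : ∀ (w : Fin a ⊕ Fin a → K) (x : Fin a) (i : Fin d),
        B.equivFun w (Sum.inl (e (x, i))) = b.repr (w (Sum.inl x)) i := by
      intro w x i
      rw [Module.Basis.equivFun_apply, Module.Basis.repr_reindex_apply]
      simp [Pi.basis_repr]
    have hr : ∀ (w : Fin a ⊕ Fin a → K) (x : Fin a) (i : Fin d),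
        B.equivFun w (Sum.inr (e (x, i))) = b'.repr (w (Sum.inr x)) i := by
      intro w x i
      rw [Module.Basis.equivFun_apply, Module.Basis.repr_reindex_apply]
      simp [Pi.basis_repr]
    have hpair : ∀ s t : K, ∑ i, b'.repr s i * b.repr t i = Algebra.trace F K (s * t) := by
      intro s t
      conv_rhs => rw [← b.sum_repr t]
      rw [Finset.mul_sum, map_sum]
      refine Finset.sum_congr rfl fun i _ => ?_
      rw [mul_smul_comm, map_smul, Module.Basis.traceDual_repr_apply, smul_eq_mul, Algebra.traceForm_apply,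
        mul_comm]
    rw [sympForm_eq, sympForm_eq, ← e.sum_comp, Fintype.sum_prod_type, map_sum]
    refine Finset.sum_congr rfl fun x _ => ?_
    rw [map_sub, ← hpair, mul_comm (u (Sum.inl x)), ← hpair, ← Finset.sum_sub_distrib]
    refine Finset.sum_congr rfl fun i _ => ?_
    rw [hl, hl, hr, hr, mul_comm ((b.repr _) i)]
  have hmem : ∀ g : symplecticGroup (Fin a) K, ρ g.1 ∈ symplecticGroup (Fin (a * d)) F := by
    intro g
    refine mem_sp_of_form _ fun u v => ?_
    rw [← B.equivFun.apply_symm_apply (ρ g.1 *ᵥ u), ← B.equivFun.apply_symm_apply (ρ g.1 *ᵥ v), hform, hact, hact,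
      sp_form, ← hform, B.equivFun.apply_symm_apply, B.equivFun.apply_symm_apply]
  exact ⟨(ρ.comp (symplecticGroup (Fin a) K).subtype).codRestrict _ hmem,
    fun g g' h => Subtype.ext (hρinj (congrArg Subtype.val h))⟩

end Res

section Regular

variable {F : Type*} [Field F]

lemma strictLower_pow {R : Type*} [CommRing R] {N : ℕ} (M : Matrix (Fin N) (Fin N) R)
    (hM : ∀ a b, a ≤ b → M a b = 0) : ∀ (l : ℕ) (a b : Fin N), (a : ℕ) < (b : ℕ) + l → (M ^ l) a b = 0
  | 0, a, b, h => by
    rw [pow_zero, Matrix.one_apply, if_neg]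
    intro hab
    subst hab
    omega
  | l + 1, a, b, h => by
    rw [pow_succ, Matrix.mul_apply]
    refine Finset.sum_eq_zero fun c _ => ?_
    by_cases hc : c ≤ b
    · rw [hM c b hc, mul_zero]
    · rw [strictLower_pow M hM l a c, zero_mul]
      rw [Fin.le_def] at hc
      omega

lemma strictLower_pow_ne_zero {R : Type*} [CommRing R] [NoZeroDivisors R] [Nontrivial R] {N : ℕ}
    (M : Matrix (Fin N) (Fin N) R) (hM : ∀ a b, a ≤ b → M a b = 0)
    (hsub : ∀ a b : Fin N, (a : ℕ) = b + 1 → M a b ≠ 0) :
    ∀ (l : ℕ) (a b : Fin N), (a : ℕ) = b + l → (M ^ l) a b ≠ 0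
  | 0, a, b, h => by
    have : a = b := Fin.ext (by omega)
    subst this
    simp
  | l + 1, a, b, h => by
    rw [pow_succ, Matrix.mul_apply, Finset.sum_eq_single (⟨b + 1, by omega⟩ : Fin N)]
    · exact mul_ne_zero (strictLower_pow_ne_zero M hM hsub l a _ (by show (a : ℕ) = b + 1 + l; omega))
        (hsub _ _ rfl)
    · intro c _ hc
      by_cases hc' : c ≤ b
      · rw [hM c b hc', mul_zero]
      · rw [strictLower_pow M hM l a c, zero_mul]
        rw [Fin.le_def] at hc'
        have : (c : ℕ) ≠ b + 1 := fun h' => hc (Fin.ext h')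
        omega
    · intro hh
      exact absurd (Finset.mem_univ _) hh

/-- The chain order `e_0, e_1, ..., e_{m-1}, f_{m-1}, ..., f_0` on the symplectic basis. -/
def spChain (m : ℕ) : Fin m ⊕ Fin m ≃ Fin (m + m) :=
  (Equiv.sumCongr (Equiv.refl _) Fin.revPerm).trans finSumFinEquiv

/-- A regular unipotent symplectic element. -/
lemma exists_sp_unipotent (F : Type*) [Field F] {p : ℕ} [Fact p.Prime] [CharP F p] {m : ℕ} (hm : 1 ≤ m) :
    ∃ g : symplecticGroup (Fin m) F, orderOf g = p ^ Nat.clog p (m + m) := by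
  classical
  let T : Matrix (Fin m) (Fin m) F := jordanUni F m
  have hT : IsUnit T.det := by rw [det_jordanUni]; exact isUnit_one
  have hTz : ∀ a b : Fin m, a < b → T a b = 0 := by
    intro a b h
    rw [Fin.lt_def] at h
    simp [T, jordanUni, Matrix.one_apply, Fin.ext_iff]
    split_ifs <;> first | omega | simp
  have hTd : ∀ a : Fin m, T a a = 1 := by intro a; simp [T, jordanUni, Matrix.one_apply]
  have hTs : ∀ a b : Fin m, (a : ℕ) = b + 1 → T a b = 1 := by
    intro a b h
    simp [T, jordanUni, Matrix.one_apply, Fin.ext_iff, h]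
  let last : Fin m := ⟨m - 1, by omega⟩
  let C : Matrix (Fin m) (Fin m) F := Matrix.single last last 1
  let U : Matrix (Fin m) (Fin m) F := (T⁻¹)ᵀ
  haveI : Invertible T := Matrix.invertibleOfIsUnitDet _ hT
  have htri : BlockTriangular T⁻¹ OrderDual.toDual :=
    Matrix.blockTriangular_inv_of_blockTriangular (fun a b h => hTz a b h)
  have hTi : ∀ a b : Fin m, a < b → T⁻¹ a b = 0 := fun a b h => htri h
  have hid : ∀ a : Fin m, T⁻¹ a a = 1 := by
    intro a
    have h1 := congrFun (congrFun (Matrix.nonsing_inv_mul T hT) a) a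
    rw [Matrix.mul_apply, Finset.sum_eq_single a, hTd, mul_one, Matrix.one_apply_eq] at h1
    · exact h1
    · intro c _ hc
      rcases lt_or_gt_of_ne hc with h' | h'
      · rw [hTz c a h', mul_zero]
      · rw [hTi a c h', zero_mul]
    · simp
  have his : ∀ a b : Fin m, (a : ℕ) = b + 1 → T⁻¹ a b = -1 := by
    intro a b h
    have hne : a ≠ b := fun h' => by subst h'; omega
    have h1 := congrFun (congrFun (Matrix.nonsing_inv_mul T hT) a) b
    rw [Matrix.mul_apply, ← Finset.sum_subset (Finset.subset_univ {a, b}), Finset.sum_pair hne,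
      hTs a b h, hid, hTd, Matrix.one_apply_ne hne, mul_one, mul_one] at h1
    · linear_combination h1
    · intro c _ hc
      simp only [Finset.mem_insert, Finset.mem_singleton, not_or] at hc
      rcases lt_or_gt_of_ne hc.2 with h' | h'
      · rw [hTz c b h', mul_zero]
      · have : a < c := by
          rw [Fin.lt_def] at *
          have : (c : ℕ) ≠ a := fun e => hc.1 (Fin.ext e)
          omega
        rw [hTi a c this, zero_mul]
  let A : Matrix (Fin m ⊕ Fin m) (Fin m ⊕ Fin m) F := fromBlocks T 0 (U * C) U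
  have hA : A ∈ symplecticGroup (Fin m) F := by
    rw [SymplecticGroup.mem_iff']
    have hUT : Uᵀ * T = 1 := by simp [U, Matrix.nonsing_inv_mul T hT]
    have hTU : Tᵀ * U = 1 := by rw [← Matrix.transpose_transpose U, ← Matrix.transpose_mul, hUT, transpose_one]
    have hC : Cᵀ = C := Matrix.transpose_single _ _ _
    simp only [A, Matrix.fromBlocks_transpose, Matrix.J, Matrix.fromBlocks_multiply, Matrix.transpose_zero,
      Matrix.transpose_mul, hC, Matrix.mul_zero, Matrix.zero_mul, Matrix.mul_neg, Matrix.mul_one, Matrix.mul_one,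
      Matrix.neg_mul, zero_add, add_zero, neg_zero, Matrix.mul_assoc, hUT, ← Matrix.mul_assoc Tᵀ, hTU,
      Matrix.one_mul]
    simp [hC]
  let N : Matrix (Fin (m + m)) (Fin (m + m)) F := Matrix.reindexAlgEquiv F F (spChain m) (A - 1)
  have hN : ∀ x y, N (spChain m x) (spChain m y) = (A - 1) x y := by
    intro x y; simp [N]
  have hc1 : ∀ i : Fin m, (spChain m (Sum.inl i) : ℕ) = i := fun i => by simp [spChain]
  have hc2 : ∀ i : Fin m, (spChain m (Sum.inr i) : ℕ) = m + (m - 1 - i) := fun i => by
    simp [spChain, Fin.revPerm]; omega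
  have hUC : ∀ i j : Fin m, (U * C) i j = if j = last then T⁻¹ last i else 0 := by
    intro i j
    by_cases hj : j = last
    · subst hj; simp [C, U]
    · simp [C, hj, Matrix.mul_single_apply_of_ne _ last last i j hj]
  have hlow : ∀ a b, a ≤ b → N a b = 0 := by
    intro a b hab
    obtain ⟨x, rfl⟩ := (spChain m).surjective a
    obtain ⟨y, rfl⟩ := (spChain m).surjective b
    rw [Fin.le_def] at hab
    rw [hN]
    rcases x with i | i <;> rcases y with j | j
    · rw [hc1, hc1] at hab
      by_cases h : i = j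
      · subst h; simp [A, hTd]
      · have : i < j := by
          rw [Fin.lt_def]; have : (i : ℕ) ≠ j := fun e => h (Fin.ext e); omega
        simp [A, hTz i j this, h]
    · simp [A]
    · exfalso; rw [hc2, hc1] at hab; omega
    · rw [hc2, hc2] at hab
      by_cases h : i = j
      · subst h; simp [A, U, hid]
      · have : j < i := by
          rw [Fin.lt_def]; have : (i : ℕ) ≠ j := fun e => h (Fin.ext e)
          have := i.isLt; have := j.isLt; omega
        simp [A, U, hTi j i this, h]
  have hsub : ∀ a b : Fin (m + m), (a : ℕ) = b + 1 → N a b ≠ 0 := by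
    intro a b hab
    obtain ⟨x, rfl⟩ := (spChain m).surjective a
    obtain ⟨y, rfl⟩ := (spChain m).surjective b
    rw [hN]
    rcases x with i | i <;> rcases y with j | j
    · rw [hc1, hc1] at hab
      have hne : i ≠ j := fun e => by subst e; omega
      simp [A, hTs i j hab, hne]
    · exfalso; rw [hc1, hc2] at hab; omega
    · rw [hc2, hc1] at hab
      have h1 : j = last := Fin.ext (by show (j : ℕ) = m - 1; omega)
      have h2 : i = last := Fin.ext (by show (i : ℕ) = m - 1; omega)
      subst h1; subst h2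
      simp [A, hUC, hid]
    · rw [hc2, hc2] at hab
      have hne : i ≠ j := fun e => by subst e; omega
      have : (j : ℕ) = i + 1 := by have := i.isLt; have := j.isLt; omega
      simp [A, U, his j i this, hne]
  have hpow : ∀ t, A ^ p ^ t = 1 ↔ m + m ≤ p ^ t := by
    intro t
    haveI : Nonempty (Fin m) := ⟨last⟩
    have h1 : (A - 1) ^ p ^ t = A ^ p ^ t - 1 := by
      rw [sub_pow_char_pow_of_commute (p := p) (n := t) (h := Commute.one_right A), one_pow]
    have h2 : A ^ p ^ t = 1 ↔ N ^ p ^ t = 0 := by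
      rw [← map_pow, map_eq_zero_iff _ (Matrix.reindexAlgEquiv F F _).injective, h1, sub_eq_zero]
    rw [h2]
    constructor
    · intro h
      by_contra hlt
      exact strictLower_pow_ne_zero N hlow hsub (p ^ t) ⟨p ^ t, by omega⟩ ⟨0, by omega⟩ (by simp)
        (by rw [h]; rfl)
    · intro h
      ext a b
      exact strictLower_pow N hlow _ a b (by omega)
  refine ⟨⟨A, hA⟩, ?_⟩
  rw [← orderOf_injective (symplecticGroup (Fin m) F).subtype Subtype.val_injective]
  show orderOf A = _
  have hp : 1 < p := (Fact.out : p.Prime).one_lt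
  obtain ⟨c, hc⟩ : ∃ c, Nat.clog p (m + m) = c + 1 :=
    ⟨_, (Nat.succ_pred_eq_of_pos (Nat.clog_pos hp (by omega))).symm⟩
  rw [hc]
  refine orderOf_eq_prime_pow ?_ ?_
  · rw [hpow]
    intro h
    have := (Nat.clog_le_iff_le_pow hp).2 h
    omega
  · rw [hpow, ← hc]
    exact Nat.le_pow_clog hp _

end Regular

end CfsgLib.KnownSimple
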