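/-
Element orders of PSp(2n, q), q odd: an element either absorbs the prime 2, or its order divides that of a
regular unipotent element or one of the two numbers (q^n - 1)/2, (q^n + 1)/2.
-/
import Cfsg.Agent.Lib.Classical.SpCenter
import Cfsg.Agent.Lib.KnownSimple.SpConstruct
import Cfsg.Agent.Lib.KnownSimple.PSLSpectrum
import Cfsg.Prelude.Def_Classical

set_option autoImplicit false

namespace CfsgLib.KnownSimple

open Matrix CfsgLib.Classical

variable {F : Type*} [Field F] {n : ℕ}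

/-- The class in `PSp` of a symplectic matrix. -/
def spMk : symplecticGroup (Fin n) F →* Cfsg.PSp n F := QuotientGroup.mk' _

lemma spMk_pow_eq_one_iff (g : symplecticGroup (Fin n) F) (m : ℕ) :
    spMk g ^ m = 1 ↔ g.1 ^ m = 1 ∨ g.1 ^ m = -1 := by
  rw [← map_pow, spMk, QuotientGroup.mk'_apply, QuotientGroup.eq_one_iff, mem_center_sp_iff]
  simp [Subtype.ext_iff, spNegOne]

/-- The adjoint of a matrix for the symplectic form. -/
def spAdj (M : Matrix (Fin n ⊕ Fin n) (Fin n ⊕ Fin n) F) : Matrix (Fin n ⊕ Fin n) (Fin n ⊕ Fin n) F :=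
  -(J (Fin n) F * Mᵀ * J (Fin n) F)

lemma spAdj_add (M N : Matrix (Fin n ⊕ Fin n) (Fin n ⊕ Fin n) F) : spAdj (M + N) = spAdj M + spAdj N := by
  simp only [spAdj, transpose_add, mul_add, add_mul, neg_add]

lemma spAdj_smul (c : F) (M : Matrix (Fin n ⊕ Fin n) (Fin n ⊕ Fin n) F) : spAdj (c • M) = c • spAdj M := by
  simp [spAdj]

lemma spAdj_zero : spAdj (0 : Matrix (Fin n ⊕ Fin n) (Fin n ⊕ Fin n) F) = 0 := by simp [spAdj]

lemma spAdj_neg (M : Matrix (Fin n ⊕ Fin n) (Fin n ⊕ Fin n) F) : spAdj (-M) = -spAdj M := by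
  simp [spAdj]

lemma spAdj_sub (M N : Matrix (Fin n ⊕ Fin n) (Fin n ⊕ Fin n) F) : spAdj (M - N) = spAdj M - spAdj N := by
  rw [sub_eq_add_neg, spAdj_add, spAdj_neg, sub_eq_add_neg]

lemma spAdj_one : spAdj (1 : Matrix (Fin n ⊕ Fin n) (Fin n ⊕ Fin n) F) = 1 := by
  simp [spAdj, J_squared]

lemma spAdj_mul (M N : Matrix (Fin n ⊕ Fin n) (Fin n ⊕ Fin n) F) : spAdj (M * N) = spAdj N * spAdj M := by
  simp only [spAdj, transpose_mul, neg_mul_neg]
  rw [show J (Fin n) F * Nᵀ * J (Fin n) F * (J (Fin n) F * Mᵀ * J (Fin n) F) =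
    J (Fin n) F * Nᵀ * (J (Fin n) F * J (Fin n) F) * Mᵀ * J (Fin n) F by simp only [mul_assoc], J_squared]
  simp [mul_assoc]

lemma spAdj_spAdj (M : Matrix (Fin n ⊕ Fin n) (Fin n ⊕ Fin n) F) : spAdj (spAdj M) = M := by
  simp only [spAdj, transpose_neg, transpose_mul, transpose_transpose, J_transpose, neg_mul, mul_neg, neg_neg]
  rw [show J (Fin n) F * (J (Fin n) F * (M * J (Fin n) F)) * J (Fin n) F =
    (J (Fin n) F * J (Fin n) F) * M * (J (Fin n) F * J (Fin n) F) by simp only [mul_assoc], J_squared]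
  simp

lemma spAdj_pow (M : Matrix (Fin n ⊕ Fin n) (Fin n ⊕ Fin n) F) (k : ℕ) : spAdj (M ^ k) = spAdj M ^ k := by
  induction k with
  | zero => simp [spAdj_one]
  | succ k ih => rw [pow_succ, spAdj_mul, ih, ← pow_succ']

lemma mem_sp_iff_spAdj {M : Matrix (Fin n ⊕ Fin n) (Fin n ⊕ Fin n) F} :
    M ∈ symplecticGroup (Fin n) F ↔ spAdj M * M = 1 := by
  rw [SymplecticGroup.mem_iff']
  have h : spAdj M * M = -(J (Fin n) F * (Mᵀ * J (Fin n) F * M)) := by simp [spAdj, mul_assoc]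
  rw [h]
  constructor
  · intro h'
    rw [h', J_squared, neg_neg]
  · intro h'
    have h'' := congrArg (fun X => J (Fin n) F * X) h'
    simp only [mul_neg, ← mul_assoc, J_squared, neg_mul, one_mul, neg_neg, mul_one] at h''
    exact h''

/-- A noncentral involution in the centraliser absorbs the prime 2. -/
lemma exists_spMk_absorb (g z : symplecticGroup (Fin n) F) (hc : Commute g z) (hz : z.1 ^ 2 = 1)
    (hz1 : z.1 ≠ 1) (hz1' : z.1 ≠ -1) : ∃ y : Cfsg.PSp n F, (orderOf (spMk g)).lcm 2 ∣ orderOf y := by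
  have hzo : orderOf (spMk z) = 2 := by
    refine orderOf_eq_prime ((spMk_pow_eq_one_iff z 2).2 (Or.inl hz)) fun h => ?_
    rcases (spMk_pow_eq_one_iff z 1).1 (by rw [pow_one]; exact h) with h1 | h1
    · exact hz1 (by simpa using h1)
    · exact hz1' (by simpa using h1)
  by_cases h2 : 2 ∣ orderOf (spMk g)
  · exact ⟨spMk g, Nat.lcm_dvd dvd_rfl h2⟩
  · refine ⟨spMk g * spMk z, ?_⟩
    have hcop : (orderOf (spMk g)).Coprime (orderOf (spMk z)) := by
      rw [hzo]; exact (Nat.prime_two.coprime_iff_not_dvd.2 h2).symm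
    rw [(hc.map spMk).orderOf_mul_eq_mul_orderOf_of_coprime hcop, hzo]
    exact Nat.lcm_dvd (dvd_mul_right _ _) (dvd_mul_left _ _)

lemma neg_one_ne_one_mat (h2 : (2 : F) ≠ 0) (hn : 1 ≤ n) :
    (-1 : Matrix (Fin n ⊕ Fin n) (Fin n ⊕ Fin n) F) ≠ 1 := by
  intro h
  have := congrFun (congrFun h (Sum.inl ⟨0, hn⟩)) (Sum.inl ⟨0, hn⟩)
  simp at this
  exact h2 (by linear_combination -this)

lemma pow_ne_neg_one_of_odd (h2 : (2 : F) ≠ 0) (hn : 1 ≤ n) {k : symplecticGroup (Fin n) F}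
    (hk : Odd (orderOf k)) (m : ℕ) : k.1 ^ m ≠ -1 := by
  intro h
  have h1 : (k.1 ^ m) ^ orderOf k = 1 := by
    rw [← pow_mul, mul_comm, pow_mul, ← SubmonoidClass.coe_pow, pow_orderOf_eq_one, Submonoid.coe_one, one_pow]
  rw [h, hk.neg_one_pow] at h1
  exact neg_one_ne_one_mat h2 hn h1

lemma orderOf_spMk_of_odd (h2 : (2 : F) ≠ 0) (hn : 1 ≤ n) {k : symplecticGroup (Fin n) F}
    (hk : Odd (orderOf k)) : orderOf (spMk k) = orderOf k := by
  refine Nat.dvd_antisymm (orderOf_map_dvd _ _) (orderOf_dvd_of_pow_eq_one ?_)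
  rcases (spMk_pow_eq_one_iff k _).1 (pow_orderOf_eq_one (spMk k)) with h | h
  · exact Subtype.ext (by simpa using h)
  · exact absurd h (pow_ne_neg_one_of_odd h2 hn hk _)

lemma spSum_coe_pow {a b : ℕ} (h : a + b = n) (g : symplecticGroup (Fin a) F) (k : symplecticGroup (Fin b) F)
    (m : ℕ) : (spSum h (g, k)).1 ^ m =
      Matrix.reindexAlgEquiv F F (spSumEquiv h) (fromBlocks (g.1 ^ m) 0 0 (k.1 ^ m)) := by
  rw [← SubmonoidClass.coe_pow, ← map_pow]
  rfl

/-- A block sum with a second block of odd order keeps both orders in `PSp`. -/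
lemma dvd_orderOf_spMk_spSum (h2 : (2 : F) ≠ 0) {a b : ℕ} (hb : 1 ≤ b) (h : a + b = n)
    (g : symplecticGroup (Fin a) F) (k : symplecticGroup (Fin b) F) (hk : Odd (orderOf k)) :
    (orderOf g).lcm (orderOf k) ∣ orderOf (spMk (spSum h (g, k))) := by
  rw [← Prod.orderOf (g, k)]
  refine orderOf_dvd_of_pow_eq_one (spSum_injective h ?_)
  rw [map_pow, map_one]
  rcases (spMk_pow_eq_one_iff _ _).1 (pow_orderOf_eq_one (spMk (spSum h (g, k)))) with h1 | h1
  · exact Subtype.ext (by simpa using h1)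
  · exfalso
    rw [spSum_coe_pow, ← map_one (Matrix.reindexAlgEquiv F F (spSumEquiv h)), ← map_neg] at h1
    have h3 := (Matrix.reindexAlgEquiv F F (spSumEquiv h)).injective h1
    rw [← fromBlocks_one, fromBlocks_neg] at h3
    exact pow_ne_neg_one_of_odd h2 hb hk _ (fromBlocks_inj.1 h3).2.2.2

variable [Fintype F]

/-- Tori of `Sp₂(q^d)` inside `Sp_2d(q)`. -/
lemma exists_sp_orderOf_torus {d : ℕ} (hd : 1 ≤ d) :
    (∃ Y : symplecticGroup (Fin d) F, orderOf Y = Fintype.card F ^ d - 1) ∧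
      ∃ Y : symplecticGroup (Fin d) F, orderOf Y = Fintype.card F ^ d + 1 := by
  obtain ⟨L, _, _, _, φ, hfr, hcard, -, -⟩ := exists_extension_matrix (F := F) d hd
  haveI : Module.Finite F L := Module.Finite.of_finite
  obtain ⟨ρ, hρ⟩ := exists_spRes (F := F) (K := L) (a := 1) hfr (one_mul d)
  obtain ⟨⟨s, hs⟩, ⟨t, ht⟩⟩ := exists_sl2_orderOf (F := L)
  rw [hcard] at hs ht
  exact ⟨⟨ρ (slToSp s), by rw [orderOf_injective ρ hρ, orderOf_injective slToSp slToSp_injective, hs]⟩,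
    ⟨ρ (slToSp t), by rw [orderOf_injective ρ hρ, orderOf_injective slToSp slToSp_injective, ht]⟩⟩

lemma card_adjoin_le (A : Matrix (Fin n ⊕ Fin n) (Fin n ⊕ Fin n) F) :
    Nat.card (Algebra.adjoin F {A}) ≤ Fintype.card F ^ (n + n) := by
  rcases Nat.eq_zero_or_pos n with h0 | hn
  · subst h0
    haveI : Subsingleton (Algebra.adjoin F {A}) := ⟨fun x y => Subtype.ext (Subsingleton.elim _ _)⟩
    simp
  let f : (Fin (n + n) → F) → Algebra.adjoin F {A} := fun a =>
    ⟨∑ i, a i • A ^ (i : ℕ), sum_mem fun i _ =>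
      Subalgebra.smul_mem _ (pow_mem (Algebra.self_mem_adjoin_singleton F A) _) _⟩
  have hf : Function.Surjective f := by
    rintro ⟨y, hy⟩
    rw [Algebra.adjoin_singleton_eq_range_aeval] at hy
    obtain ⟨P, rfl⟩ := hy
    refine ⟨fun i => (P %ₘ A.charpoly).coeff i, Subtype.ext ?_⟩
    show ∑ i : Fin (n + n), (P %ₘ A.charpoly).coeff i • A ^ (i : ℕ) = Polynomial.aeval A P
    have hm := A.charpoly_monic
    have hdeg : (P %ₘ A.charpoly).natDegree < n + n := by
      have h1 := Polynomial.natDegree_modByMonic_lt P hm (by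
        intro h
        have := congrArg Polynomial.natDegree h
        rw [Matrix.charpoly_natDegree_eq_dim] at this
        simp at this
        omega)
      rw [Matrix.charpoly_natDegree_eq_dim] at h1
      simpa using h1
    rw [Fin.sum_univ_eq_sum_range (fun i => (P %ₘ A.charpoly).coeff i • A ^ i),
      ← Polynomial.aeval_eq_sum_range' hdeg, Polynomial.aeval_modByMonic_eq_self_of_root (Matrix.aeval_self_charpoly A)]
  refine (Nat.card_le_card_of_surjective f hf).trans (le_of_eq ?_)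
  simp [Nat.card_eq_fintype_card]

/-- The trichotomy behind the spectrum of `PSp(2n, q)`. -/
lemma sp_classify {p : ℕ} [Fact p.Prime] [CharP F p] (hp2 : p ≠ 2) (hn : 1 ≤ n)
    (g : symplecticGroup (Fin n) F) :
    (∃ y : Cfsg.PSp n F, (orderOf (spMk g)).lcm 2 ∣ orderOf y) ∨
      orderOf (spMk g) ∣ p ^ Nat.clog p (n + n) ∨
      orderOf (spMk g) ∣ (Fintype.card F ^ n - 1) / 2 ∨
      orderOf (spMk g) ∣ (Fintype.card F ^ n + 1) / 2 := by
  classical
  haveI : Nonempty (Fin n) := ⟨⟨0, hn⟩⟩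
  have hp : p.Prime := Fact.out
  have h2 : (2 : F) ≠ 0 := by
    intro h
    have : p ∣ 2 := (CharP.cast_eq_zero_iff F p 2).1 (by exact_mod_cast h)
    exact hp2 ((Nat.prime_dvd_prime_iff_eq hp Nat.prime_two).1 this)
  set q := Fintype.card F with hq
  set c := Nat.clog p (n + n) with hc
  have hP : n + n ≤ p ^ c := Nat.le_pow_clog hp.one_lt _
  set A : Matrix (Fin n ⊕ Fin n) (Fin n ⊕ Fin n) F := g.1 with hA
  have hAτ : spAdj A * A = 1 := mem_sp_iff_spAdj.1 g.2
  set R : Subalgebra F (Matrix (Fin n ⊕ Fin n) (Fin n ⊕ Fin n) F) := Algebra.adjoin F {A} with hR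
  have hAR : A ∈ R := Algebra.self_mem_adjoin_singleton F A
  have hcR : ∀ a ∈ R, ∀ b ∈ R, Commute a b := by
    intro a ha b hb
    have h1 : ∀ x ∈ R, Commute A x := by
      intro x hx
      refine Algebra.adjoin_induction ?_ ?_ ?_ ?_ hx
      · intro y hy; rw [Set.mem_singleton_iff] at hy; subst hy; exact Commute.refl _
      · exact fun f => (Algebra.commutes f A).symm
      · exact fun _ _ _ _ h h' => h.add_right h'
      · exact fun _ _ _ _ h h' => h.mul_right h'
    refine Algebra.adjoin_induction ?_ ?_ ?_ ?_ ha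
    · intro y hy; rw [Set.mem_singleton_iff] at hy; subst hy; exact h1 b hb
    · exact fun f => Algebra.commutes f b
    · exact fun _ _ _ _ h h' => h.add_left h'
    · exact fun _ _ _ _ h h' => h.mul_left h'
  have hτAR : spAdj A ∈ R := by
    have h1 : A ^ orderOf g = 1 := by rw [hA, ← SubmonoidClass.coe_pow, pow_orderOf_eq_one]; rfl
    obtain ⟨k, hk⟩ : ∃ k, orderOf g = k + 1 := ⟨_, (Nat.succ_pred_eq_of_pos (orderOf_pos g)).symm⟩
    have h2 : spAdj A = A ^ k := by
      rw [hk, pow_succ'] at h1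
      calc spAdj A = spAdj A * (A * A ^ k) := by rw [h1, mul_one]
        _ = A ^ k := by rw [← mul_assoc, hAτ, one_mul]
    rw [h2]
    exact pow_mem hAR _
  have hτ : ∀ y ∈ R, spAdj y ∈ R := by
    intro y hy
    refine Algebra.adjoin_induction ?_ ?_ ?_ ?_ hy
    · intro x hx; rw [Set.mem_singleton_iff] at hx; subst hx; exact hτAR
    · intro f; rw [Algebra.algebraMap_eq_smul_one, spAdj_smul, spAdj_one, ← Algebra.algebraMap_eq_smul_one]
      exact R.algebraMap_mem f
    · intro a b _ _ ha hb; rw [spAdj_add]; exact add_mem ha hb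
    · intro a b _ _ ha hb; rw [spAdj_mul]; exact mul_mem hb ha
  by_cases hex : ∃ e ∈ R, IsIdempotentElem e ∧ spAdj e = e ∧ e ≠ 0 ∧ e ≠ 1
  · obtain ⟨e, heR, hei, heτ, he0, he1⟩ := hex
    left
    have hzτ : spAdj (1 - (2 : F) • e) = 1 - (2 : F) • e := by rw [spAdj_sub, spAdj_one, spAdj_smul, heτ]
    have hz2 : (1 - (2 : F) • e) ^ 2 = 1 := by
      rw [sq, sub_mul, mul_sub, mul_sub, one_mul, mul_one, one_mul, smul_mul_smul_comm, hei.eq]
      module
    refine exists_spMk_absorb g ⟨1 - (2 : F) • e, mem_sp_iff_spAdj.2 (by rw [hzτ, ← sq, hz2])⟩ ?_ hz2 ?_ ?_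
    · exact Subtype.ext (((Commute.one_right _).sub_right ((hcR A hAR e heR).smul_right _)).eq)
    · intro h
      exact he0 ((smul_eq_zero.1 (sub_eq_self.1 h)).resolve_left h2)
    · intro h
      refine he1 (smul_right_injective _ h2 ?_)
      show (2 : F) • e = (2 : F) • (1 : Matrix (Fin n ⊕ Fin n) (Fin n ⊕ Fin n) F)
      rw [sub_eq_iff_eq_add] at h
      rw [two_smul F (1 : Matrix (Fin n ⊕ Fin n) (Fin n ⊕ Fin n) F), ← sub_eq_zero]
      calc (2 : F) • e - (1 + 1) = (-1 + (2 : F) • e) - 1 := by abel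
        _ = 0 := by rw [← h]; simp
  push Not at hex
  have hsq : ∀ w ∈ R, spAdj w = w → w ^ 2 = 1 → w = 1 ∨ w = -1 := by
    intro w hw hwτ hw2
    set e := (2 : F)⁻¹ • (1 - w) with he
    have hei : IsIdempotentElem e := by
      rw [IsIdempotentElem, he, smul_mul_smul_comm, sub_mul, mul_sub, mul_sub, one_mul, mul_one, one_mul, ← sq w, hw2,
        show 1 - w - (w - 1) = (2 : F) • (1 - w) by module, smul_smul, mul_assoc, inv_mul_cancel₀ h2, mul_one]
    have heτ : spAdj e = e := by rw [he, spAdj_smul, spAdj_sub, spAdj_one, hwτ]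
    rcases eq_or_ne e 0 with h0 | h0
    · rw [he, smul_eq_zero] at h0
      exact Or.inl (sub_eq_zero.1 (h0.resolve_left (inv_ne_zero h2))).symm
    · have h1 := hex e (R.smul_mem (sub_mem (one_mem R) hw) _) hei heτ h0
      have h3 := congrArg (fun X => (2 : F) • X) h1
      simp only [he, smul_smul, mul_inv_cancel₀ h2, one_smul, two_smul] at h3
      exact Or.inr (by linear_combination (norm := abel) -h3)
  have hnil : ∀ y : Matrix (Fin n ⊕ Fin n) (Fin n ⊕ Fin n) F, IsNilpotent y → y ^ p ^ c = 0 := by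
    intro y hy
    have h2' := Matrix.isNilpotent_charpoly_sub_pow_of_isNilpotent hy
    have h3 := Matrix.aeval_self_charpoly y
    rw [show y.charpoly = Polynomial.X ^ (n + n) by simpa [sub_eq_zero] using h2'.eq_zero, map_pow,
      Polynomial.aeval_X] at h3
    exact pow_eq_zero_of_le hP h3
  haveI : Finite R := Finite.of_injective _ Subtype.val_injective
  have hfix : ∀ y ∈ R, spAdj y = y → IsNilpotent y ∨ IsUnit y := by
    intro y hy hyτ
    obtain ⟨k, hk, hid⟩ := exists_pow_idempotent (⟨y, hy⟩ : R)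
    have hid' : IsIdempotentElem (y ^ k) := by
      have := congrArg Subtype.val hid.eq
      simpa [IsIdempotentElem] using this
    rcases eq_or_ne (y ^ k) 0 with h0 | h0
    · exact Or.inl ⟨k, h0⟩
    · exact Or.inr (IsUnit.of_pow_eq_one (hex _ (pow_mem hy k) hid' (by rw [spAdj_pow, hyτ]) h0) (by omega))
  have hpw : ∀ a ∈ R, ∀ b ∈ R, (a + b) ^ p ^ c = a ^ p ^ c + b ^ p ^ c := fun a ha b hb =>
    add_pow_char_pow_of_commute (p := p) (n := c) (h := hcR a ha b hb)
  -- the field of fixed `p ^ c`-th powers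
  let S0 : Subalgebra F (Matrix (Fin n ⊕ Fin n) (Fin n ⊕ Fin n) F) :=
    { carrier := {y | spAdj y = y ∧ ∃ a ∈ R, a ^ p ^ c = y}
      mul_mem' := by
        rintro _ _ ⟨h1, a, ha, rfl⟩ ⟨h1', b, hb, rfl⟩
        refine ⟨?_, a * b, mul_mem ha hb, (hcR a ha b hb).mul_pow _⟩
        rw [spAdj_mul, h1, h1', ((hcR a ha b hb).pow_pow _ _).eq]
      add_mem' := by
        rintro _ _ ⟨h1, a, ha, rfl⟩ ⟨h1', b, hb, rfl⟩
        exact ⟨by rw [spAdj_add, h1, h1'], a + b, add_mem ha hb, hpw a ha b hb⟩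
      algebraMap_mem' := by
        intro f
        refine ⟨by rw [Algebra.algebraMap_eq_smul_one, spAdj_smul, spAdj_one], ?_⟩
        obtain ⟨g', rfl⟩ := (iterateFrobeniusEquiv F p c).surjective f
        exact ⟨algebraMap F _ g', R.algebraMap_mem g', by
          rw [← map_pow, iterateFrobeniusEquiv_apply, iterateFrobenius_def]⟩ }
  have hS0R : ∀ y ∈ S0, y ∈ R := by
    rintro _ ⟨-, a, ha, rfl⟩
    exact pow_mem ha _
  have hred : ∀ a ∈ R, IsNilpotent (a ^ p ^ c) → a ^ p ^ c = 0 := fun a _ ⟨k, hk⟩ =>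
    hnil a ⟨p ^ c * k, by rw [pow_mul]; exact hk⟩
  have hunit : ∀ y ∈ S0, y ≠ 0 → IsUnit y := by
    rintro y ⟨hyτ, a, ha, rfl⟩ hy
    exact (hfix _ (pow_mem ha _) hyτ).resolve_left fun h => hy (hred a ha h)
  have hfield : IsField S0 := by
    refine ⟨⟨0, 1, zero_ne_one⟩, ?_, ?_⟩
    · rintro ⟨x, hx⟩ ⟨y, hy⟩
      exact Subtype.ext (hcR x (hS0R x hx) y (hS0R y hy)).eq
    · intro x hx
      haveI : Finite S0 := Finite.of_injective _ Subtype.val_injective
      have hu : IsUnit (x : Matrix (Fin n ⊕ Fin n) (Fin n ⊕ Fin n) F) :=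
        hunit _ x.2 fun h => hx (Subtype.ext h)
      obtain ⟨b, hb⟩ := (Finite.injective_iff_surjective (f := fun y : S0 => x * y)).1
        (fun y z h => Subtype.ext (hu.mul_right_injective (congrArg Subtype.val h))) 1
      exact ⟨b, hb⟩
  letI : Field S0 := hfield.toField
  letI algS : Algebra F S0 := S0.algebra
  haveI : Finite S0 := Finite.of_injective _ Subtype.val_injective
  haveI : Module.Finite F S0 := Module.Finite.of_finite
  obtain ⟨d, hd1, hQ⟩ : ∃ d, 1 ≤ d ∧ Nat.card S0 = q ^ d :=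
    ⟨Module.finrank F S0, Module.finrank_pos, by rw [Module.natCard_eq_pow_finrank (K := F), Nat.card_eq_fintype_card]⟩
  obtain ⟨e0, hpp, he0⟩ := FiniteField.card F p
  set Q := q ^ d with hQdef
  have hQp : Q = p ^ ((e0 : ℕ) * d) := by rw [hQdef, hq, he0, ← pow_mul]
  have hQodd : Odd Q := by rw [hQp]; exact (hp.odd_of_ne_two hp2).pow
  have hQ1 : 1 ≤ Q := by rw [hQp]; exact Nat.one_le_pow _ _ hp.pos
  set s := A ^ p ^ c with hs
  have hsR : s ∈ R := pow_mem hAR _
  have hsτs : spAdj s * s = 1 := by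
    rw [hs, spAdj_pow, ← (hcR _ hτAR _ hAR).mul_pow, hAτ, one_pow]
  have hssτ : s * spAdj s = 1 := (hcR _ hsR _ (hτ _ hsR)).eq.trans hsτs
  obtain ⟨M, hM, hsM⟩ : ∃ M, (M = Q - 1 ∨ M = Q + 1) ∧ s ^ M = 1 := by
    have ht : s + spAdj s ∈ S0 := by
      refine ⟨by rw [spAdj_add, spAdj_spAdj, add_comm], A + spAdj A, add_mem hAR hτAR, ?_⟩
      rw [hpw A hAR _ hτAR, hs, spAdj_pow]
    have htQ : (s + spAdj s) ^ Q = s + spAdj s := by
      letI : Fintype S0 := Fintype.ofFinite _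
      have h := congrArg Subtype.val (FiniteField.pow_card (⟨_, ht⟩ : S0))
      rw [← Nat.card_eq_fintype_card, hQ] at h
      simpa using h
    rw [hQp, add_pow_char_pow_of_commute (p := p) (n := (e0 : ℕ) * d) (h := hcR _ hsR _ (hτ _ hsR)), ← hQp] at htQ
    have hrel : s ^ Q * s ^ Q + 1 = s ^ (Q + 1) + s ^ (Q - 1) := by
      have h := congrArg (fun X => s ^ Q * X) htQ
      simp only [mul_add] at h
      rw [← (hcR _ hsR _ (hτ _ hsR)).mul_pow, hssτ, one_pow, ← pow_succ] at h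
      rw [h]
      congr 1
      conv_lhs => rw [show Q = (Q - 1) + 1 by omega, pow_succ, mul_assoc, hssτ, mul_one]
    by_cases hu : s ^ (Q - 1) = 1
    · exact ⟨_, Or.inl rfl, hu⟩
    refine ⟨_, Or.inr rfl, ?_⟩
    have hprod : (s ^ (Q - 1) - 1) * (s ^ (Q + 1) - 1) = 0 := by
      rw [sub_mul, mul_sub, one_mul, mul_one, ← pow_add, show Q - 1 + (Q + 1) = Q + Q by omega, pow_add,
        eq_sub_of_add_eq hrel]
      abel
    set a := s ^ (Q - 1) - 1 with ha
    have hcP : (A ^ (Q - 1) - 1) ^ p ^ c = a := by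
      rw [ha, sub_pow_char_pow_of_commute (p := p) (n := c) (h := Commute.one_right _), one_pow, hs, ← pow_mul,
        ← pow_mul, mul_comm]
    have hcR' : A ^ (Q - 1) - 1 ∈ R := sub_mem (pow_mem hAR _) (one_mem R)
    have haR : a ∈ R := by rw [← hcP]; exact pow_mem hcR' _
    have haS : a * spAdj a ∈ S0 := by
      refine ⟨by rw [spAdj_mul, spAdj_spAdj], (A ^ (Q - 1) - 1) * spAdj (A ^ (Q - 1) - 1),
        mul_mem hcR' (hτ _ hcR'), ?_⟩
      rw [(hcR _ hcR' _ (hτ _ hcR')).mul_pow, ← spAdj_pow, hcP]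
    rcases eq_or_ne (a * spAdj a) 0 with h0 | h0
    · exfalso
      apply hu
      have h1 : spAdj a * s ^ (Q - 1) = -a := by
        rw [ha, spAdj_sub, spAdj_one, sub_mul, one_mul, spAdj_pow, ← (hcR _ (hτ _ hsR) _ hsR).mul_pow, hsτs, one_pow,
          neg_sub]
      have h2' : a * a = 0 := by
        rw [← neg_neg (a * a), ← mul_neg, ← h1, ← mul_assoc, h0, zero_mul, neg_zero]
      have h3 : a = 0 := by
        rw [← hcP]; exact hred _ hcR' ⟨2, by rw [sq, hcP, h2']⟩
      exact sub_eq_zero.1 h3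
    · have := ((hcR a haR _ (hτ a haR)).isUnit_mul_iff.1 (hunit _ haS h0)).1
      exact sub_eq_zero.1 (this.mul_right_eq_zero.1 hprod)
  by_cases hs1 : s = 1 ∨ s = -1
  · exact Or.inr (Or.inl (orderOf_dvd_of_pow_eq_one ((spMk_pow_eq_one_iff g _).2 hs1)))
  have hsne : spAdj s ≠ s := fun h => hs1 (hsq s hsR h (by rw [sq]; nth_rewrite 1 [← h]; exact hsτs))
  have hMeven : 2 ∣ M := by
    obtain ⟨r, hr⟩ := hQodd
    rcases hM with rfl | rfl
    · exact ⟨r, by omega⟩
    · exact ⟨r + 1, by omega⟩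
  set u := A ^ M with hu
  set N := u - 1 with hN
  have huR : u ∈ R := pow_mem hAR _
  have hNR : N ∈ R := sub_mem huR (one_mem R)
  have hNnil : ∃ i, N ^ i = 0 := ⟨p ^ c, by
    rw [hN, sub_pow_char_pow_of_commute (p := p) (n := c) (h := Commute.one_right _), one_pow, hu, ← pow_mul,
      mul_comm, pow_mul, ← hs, hsM, sub_self]⟩
  set i := Nat.find hNnil with hi
  have hNi : N ^ i = 0 := Nat.find_spec hNnil
  have hi1 : 1 ≤ i := by
    by_contra h
    rw [show i = 0 by omega, pow_zero] at hNi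
    exact one_ne_zero hNi
  have hNi' : N ^ (i - 1) ≠ 0 := Nat.find_min hNnil (by omega)
  have hann : ∀ a ∈ R, a ^ p ^ c * N ^ (i - 1) = 0 → a ^ p ^ c = 0 := by
    intro a ha h0
    set b := a ^ p ^ c with hb
    have hbR : b ∈ R := pow_mem ha _
    have hN'R : N ^ (i - 1) ∈ R := pow_mem hNR _
    have hNτ : N = -(u * spAdj N) := by
      rw [hN, spAdj_sub, spAdj_one, mul_sub, mul_one, hu, spAdj_pow, ← (hcR _ hAR _ hτAR).mul_pow,
        (hcR _ hAR _ hτAR).eq, hAτ, one_pow, neg_sub]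
    have hb' : spAdj b * N ^ (i - 1) = 0 := by
      rw [(hcR _ (hτ _ hbR) _ hN'R).eq]
      conv_lhs => rw [hNτ, neg_pow, (hcR _ huR _ (hτ _ hNR)).mul_pow, ← spAdj_pow, mul_assoc, mul_assoc, ← spAdj_mul,
        h0, spAdj_zero, mul_zero, mul_zero]
    have hz : ∀ w ∈ S0, w * N ^ (i - 1) = 0 → w = 0 := fun w hw hw0 => by
      by_contra hne
      exact hNi' ((hunit w hw hne).mul_right_eq_zero.1 hw0)
    have hw1 : b * spAdj b = 0 := hz _ ⟨by rw [spAdj_mul, spAdj_spAdj], a * spAdj a, mul_mem ha (hτ _ ha),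
      by rw [(hcR _ ha _ (hτ _ ha)).mul_pow, hb, spAdj_pow]⟩ (by rw [mul_assoc, hb', mul_zero])
    have hw2 : b + spAdj b = 0 := hz _ ⟨by rw [spAdj_add, spAdj_spAdj, add_comm], a + spAdj a, add_mem ha (hτ _ ha),
      by rw [hpw _ ha _ (hτ _ ha), hb, spAdj_pow]⟩ (by rw [add_mul, h0, hb', add_zero])
    rw [(neg_eq_of_add_eq_zero_right hw2).symm, mul_neg, neg_eq_zero, ← sq] at hw1
    exact hred a ha ⟨2, hw1⟩
  have hdi : d * i ≤ n := by
    have hmemΦ : ∀ v : Fin i → S0 × S0, ∑ l, ((v l).1.1 + (v l).2.1 * s) * N ^ (l : ℕ) ∈ R := fun v =>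
      sum_mem fun l _ => mul_mem (add_mem (hS0R _ (v l).1.2) (mul_mem (hS0R _ (v l).2.2) hsR)) (pow_mem hNR _)
    let Φ : (Fin i → S0 × S0) →+ R :=
      { toFun := fun v => ⟨_, hmemΦ v⟩
        map_zero' := Subtype.ext (by simp)
        map_add' := fun v w => Subtype.ext (by
          rw [Subalgebra.coe_add]
          dsimp only
          rw [← Finset.sum_add_distrib]
          refine Finset.sum_congr rfl fun l _ => ?_
          simp only [Pi.add_apply, Prod.fst_add, Prod.snd_add, Subalgebra.coe_add, add_mul]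
          abel) }
    have hΦ : Function.Injective Φ := by
      rw [injective_iff_map_eq_zero]
      intro v hv
      have hv' : ∑ l, ((v l).1.1 + (v l).2.1 * s) * N ^ (l : ℕ) = 0 := congrArg Subtype.val hv
      funext l
      obtain ⟨k, hk⟩ : ∃ k, (l : ℕ) = k := ⟨_, rfl⟩
      induction k using Nat.strong_induction_on generalizing l with
      | _ k ih =>
        have h0 := congrArg (fun X => X * N ^ (i - 1 - k)) hv'
        simp only [zero_mul, Finset.sum_mul] at h0
        rw [Finset.sum_eq_single l] at h0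
        · rw [mul_assoc, ← pow_add, hk, show k + (i - 1 - k) = i - 1 by omega] at h0
          obtain ⟨hτ1, c1, hc1, h1⟩ := (v l).1.2
          obtain ⟨hτ2, c2, hc2, h2'⟩ := (v l).2.2
          have hcc : (c1 + c2 * A) ^ p ^ c = (v l).1.1 + (v l).2.1 * s := by
            rw [hpw _ hc1 _ (mul_mem hc2 hAR), (hcR _ hc2 _ hAR).mul_pow, h1, h2', hs]
          have h3 := hann _ (add_mem hc1 (mul_mem hc2 hAR)) (by rw [hcc]; exact h0)
          rw [hcc] at h3
          have h4 : (v l).2.1 = 0 := by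
            by_contra hne
            have h5 := congrArg spAdj h3
            rw [spAdj_add, spAdj_mul, hτ1, hτ2, spAdj_zero, (hcR _ (hτ _ hsR) _ (hS0R _ (v l).2.2)).eq] at h5
            have h6 : (v l).2.1 * (spAdj s - s) = 0 := by
              rw [mul_sub, sub_eq_zero]
              exact add_left_cancel (h5.trans h3.symm)
            exact hsne (sub_eq_zero.1 ((hunit _ (v l).2.2 hne).mul_right_eq_zero.1 h6))
          rw [h4, zero_mul, add_zero] at h3
          exact Prod.ext (Subtype.ext h3) (Subtype.ext h4)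
        · intro m _ hm
          rcases lt_or_ge (m : ℕ) k with h' | h'
          · rw [ih m h' m rfl]
            simp
          · rw [mul_assoc, ← pow_add, pow_eq_zero_of_le (m := i) _ hNi, mul_zero]
            have : (m : ℕ) ≠ k := fun e => hm (Fin.ext (e.trans hk.symm))
            omega
        · simp
    have h1 := (Nat.card_le_card_of_injective Φ hΦ).trans (card_adjoin_le A)
    rw [Nat.card_fun, Nat.card_prod, hQ, Nat.card_eq_fintype_card, Fintype.card_fin, hQdef, ← pow_add, ← pow_mul] at h1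
    have := (Nat.pow_le_pow_iff_right Fintype.one_lt_card).1 h1
    rw [add_mul] at this
    omega
  have hMord : ∀ m, ∃ Y : symplecticGroup (Fin d) F, d = m → orderOf Y = M := by
    intro m
    obtain ⟨⟨Y₁, hY₁⟩, ⟨Y₂, hY₂⟩⟩ := exists_sp_orderOf_torus (F := F) hd1
    rcases hM with rfl | rfl
    · exact ⟨Y₁, fun _ => hY₁⟩
    · exact ⟨Y₂, fun _ => hY₂⟩
  obtain ⟨Y, hY'⟩ := hMord d
  have hY := hY' rfl
  rcases Nat.lt_or_ge i 2 with hlt | hge
  · rw [show i = 1 by omega, pow_one, hN, sub_eq_zero, hu] at hNi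
    have hAM : orderOf (spMk g) ∣ M / 2 := by
      refine orderOf_dvd_of_pow_eq_one ((spMk_pow_eq_one_iff g _).2 ?_)
      have h2' : (A ^ (M / 2)) ^ 2 = 1 := by rw [← pow_mul, Nat.div_mul_cancel hMeven, hNi]
      refine hsq _ (pow_mem hAR _) ?_ h2'
      calc spAdj (A ^ (M / 2)) = spAdj (A ^ (M / 2)) * (A ^ (M / 2) * A ^ (M / 2)) := by rw [← sq, h2', mul_one]
        _ = A ^ (M / 2) := by
          rw [← mul_assoc, spAdj_pow, ← (hcR _ hτAR _ hAR).mul_pow, hAτ, one_pow, one_mul]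
    rcases Nat.lt_or_ge d n with hdn | hdn
    · left
      refine ⟨spMk (spSum (show d + (n - d) = n by omega) (Y, 1)), dvd_trans ?_
        (dvd_orderOf_spMk_spSum h2 (by omega) _ Y 1 (by simp))⟩
      rw [hY]
      exact (Nat.lcm_dvd (hAM.trans (Nat.div_dvd_of_dvd hMeven)) hMeven).trans (Nat.dvd_lcm_left _ _)
    · have hdeq : d = n := by
        have : d * 1 ≤ d * i := Nat.mul_le_mul_left _ hi1
        omega
      subst hdeq
      rcases hM with rfl | rfl
      · exact Or.inr (Or.inr (Or.inl hAM))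
      · exact Or.inr (Or.inr (Or.inr hAM))
  · have hdn : d + 1 ≤ n := by nlinarith
    obtain ⟨m, hm⟩ : ∃ m, d + m = n := ⟨n - d, by omega⟩
    have him : i ≤ m + m := by nlinarith
    obtain ⟨U, hU⟩ := exists_sp_unipotent F (p := p) (show 1 ≤ m by omega)
    left
    refine ⟨spMk (spSum hm (Y, U)), dvd_trans ?_ (dvd_orderOf_spMk_spSum h2 (by omega) hm Y U
      (by rw [hU]; exact (hp.odd_of_ne_two hp2).pow))⟩
    rw [hY, hU]
    refine Nat.lcm_dvd ?_ (hMeven.trans (Nat.dvd_lcm_left _ _))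
    have hcop : M.Coprime (p ^ Nat.clog p (m + m)) := by
      refine Nat.Coprime.pow_right _ (Nat.Coprime.symm (hp.coprime_iff_not_dvd.2 fun hdvd => ?_))
      have hpQ : p ∣ Q := by
        rw [hQp]
        exact dvd_pow_self p (Nat.mul_ne_zero e0.pos.ne' (by omega))
      rcases hM with rfl | rfl
      · have := Nat.dvd_sub hpQ hdvd
        rw [Nat.sub_sub_self hQ1] at this
        exact hp.not_dvd_one this
      · exact hp.not_dvd_one ((Nat.dvd_add_right hpQ).1 hdvd)
    rw [hcop.lcm_eq_mul]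
    refine orderOf_dvd_of_pow_eq_one ((spMk_pow_eq_one_iff g _).2 (Or.inl ?_))
    rw [pow_mul, ← hu, ← sub_eq_zero, ← one_pow (M := Matrix (Fin n ⊕ Fin n) (Fin n ⊕ Fin n) F),
      ← sub_pow_char_pow_of_commute (p := p) (h := Commute.one_right u), ← hN]
    exact pow_eq_zero_of_le (him.trans (Nat.le_pow_clog hp.one_lt _)) hNi

end CfsgLib.KnownSimple
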