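import Cfsg.Agent.Lib.Classical22.OrthParity
import Cfsg.Agent.Lib.Classical.QuadBridge
import Cfsg.Agent.Lib.Classical.QuadPOmega
import Cfsg.Agent.Lib.Classical.SymBilin

/-!
Transitivity of the commutator subgroup of an orthogonal group on subspaces.
-/

set_option autoImplicit false

namespace CfsgLib.KnownSimple.OrthOmega

open CfsgLib.Classical CfsgLib.Classical22

variable {F V : Type*} [Field F] [Fintype F] [AddCommGroup V] [Module F V] [FiniteDimensional F V]
variable {Q : QuadraticForm F V}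

theorem isSquare_of_two_classes {a b c : F} (ha : a ≠ 0) (hc : c ≠ 0) (hab : ¬ IsSquare (a * b))
    (hac : ¬ IsSquare (a * c)) : IsSquare (b * c) := by
  have h2 : (2 : F) ≠ 0 := fun h => hac (by
    haveI : CharP F 2 := CharTwo.of_one_ne_zero_of_two_eq_zero one_ne_zero h
    exact FiniteField.isSquare_of_char_two (ringChar.eq F 2) _)
  obtain ⟨r, hr⟩ := isSquare_mul_of_not_isSquare h2 hab hac
  exact ⟨r / a, by field_simp; linear_combination hr⟩

/-- A subgroup containing reflections of all square classes covers the abelianisation. -/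
theorem sup_commutator_eq_top (hQ : PolarNondeg Q)
    (hex : Fintype.card F ≠ 2 ∨ Module.finrank F V ≠ 4) (T : Subgroup (qAut Q))
    (h : ∀ c : F, c ≠ 0 → ∃ (v : V) (hv : Q v ≠ 0), IsSquare (Q v * c) ∧
      qRefl Q hv ∈ commutator (qAut Q) ⊔ T) :
    commutator (qAut Q) ⊔ T = ⊤ := by
  rw [eq_top_iff, ← reflGroup_eq_top Q hQ hex]
  refine (Subgroup.closure_le _).2 ?_
  rintro _ ⟨w, hw, rfl⟩
  obtain ⟨v, hv, hs, hmem⟩ := h (Q w) hw
  have he := isConj_refl_of_sq Q hQ hv hw hs
  have hc : qRefl Q hw * (qRefl Q hv)⁻¹ ∈ commutator (qAut Q) := by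
    rw [← Abelianization.ker_of, MonoidHom.mem_ker, map_mul, map_inv, he, mul_inv_cancel]
  have := Subgroup.mul_mem _ (Subgroup.mem_sup_left hc) hmem
  rwa [inv_mul_cancel_right] at this

/-- If the stabiliser covers the abelianisation, orbits of the whole group are orbits of the commutator. -/
theorem exists_commutator_move (T : Subgroup (qAut Q)) (hT : commutator (qAut Q) ⊔ T = ⊤)
    {U W : Submodule F V} (hTU : ∀ t ∈ T, U.map t.1.toLinearMap = U)
    (h : qAut Q) (hh : U.map h.1.toLinearMap = W) :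
    ∃ g ∈ commutator (qAut Q), U.map g.1.toLinearMap = W := by
  have : h ∈ commutator (qAut Q) ⊔ T := by rw [hT]; trivial
  obtain ⟨g, hg, t, ht, rfl⟩ := Subgroup.mem_sup_of_normal_left.1 this
  refine ⟨g, hg, ?_⟩
  rw [← hh]
  conv_lhs => rw [← hTU t ht]
  rw [← Submodule.map_comp]
  rfl

/-- The setwise stabiliser. -/
def stab (U : Submodule F V) : Subgroup (qAut Q) where
  carrier := {g | U.map g.1.toLinearMap = U}
  one_mem' := Submodule.map_id U
  mul_mem' {a b} ha hb := by
    show U.map (a.1.toLinearMap ∘ₗ b.1.toLinearMap) = U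
    rw [Submodule.map_comp, hb, ha]
  inv_mem' {a} ha := by
    show U.map (a⁻¹ : qAut Q).1.toLinearMap = U
    conv_lhs => rw [← (show U.map a.1.toLinearMap = U from ha)]
    rw [← Submodule.map_comp]
    show U.map ((a⁻¹ * a : qAut Q).1.toLinearMap) = U
    rw [inv_mul_cancel]
    exact Submodule.map_id U

omit [Fintype F] in
theorem mem_stab_of_maps {U : Submodule F V} {g : qAut Q} (h : ∀ v ∈ U, g.1 v ∈ U) : g ∈ stab U :=
  Submodule.eq_of_le_of_finrank_eq (Submodule.map_le_iff_le_comap.2 h)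
    (LinearEquiv.finrank_map_eq g.1 U)

omit [Fintype F] in
/-- Reflections in vectors of a subspace or of its perpendicular fix it. -/
theorem refl_mem_stab {U : Submodule F V} {v : V} (hv : Q v ≠ 0)
    (h : v ∈ U ∨ ∀ u ∈ U, QuadraticMap.polar Q u v = 0) : qRefl Q hv ∈ stab U := by
  refine mem_stab_of_maps fun x hx => ?_
  rcases h with h | h
  · rw [qRefl_apply]
    exact U.sub_mem hx (U.smul_mem _ h)
  · rwa [qRefl_fix Q hv (h x hx)]

/-- Transitivity on non-degenerate subspaces. -/
theorem move_nondeg (hQ : PolarNondeg Q) (hex : Fintype.card F ≠ 2 ∨ Module.finrank F V ≠ 4)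
    (hn : 3 ≤ Module.finrank F V) {U W : Submodule F V} (hU : U ⊓ qPerp Q U = ⊥)
    (e : U ≃ₗ[F] W) (he : ∀ u : U, Q (e u : V) = Q (u : V)) :
    ∃ g ∈ commutator (qAut Q), U.map g.1.toLinearMap = W := by
  obtain ⟨h, hh, hh'⟩ := witt_quad Q hQ U (W.subtype ∘ₗ e.toLinearMap)
    (Subtype.val_injective.comp e.injective) he
  refine exists_commutator_move (stab U) ?_ (fun t ht => ht) ⟨h, hh⟩ ?_
  · refine sup_commutator_eq_top hQ hex _ fun c hc => ?_
    have hdim := finrank_qPerp Q hQ U
    rcases (by omega : 2 ≤ Module.finrank F U ∨ 2 ≤ Module.finrank F (qPerp Q U)) with h2 | h2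
    · obtain ⟨v, hv⟩ := exists_value (Q.comp U.subtype) (fun x hx => Subtype.ext
        ((Submodule.eq_bot_iff _).1 hU _ ⟨x.2, (mem_qPerp Q).2 fun w hw => by
          rw [QuadraticMap.polar_comm]; exact hx ⟨w, hw⟩⟩)) h2 hc
      have hv' : Q (v : V) = c := hv
      exact ⟨v, by rw [hv']; exact hc, by rw [hv']; exact ⟨c, rfl⟩,
        Subgroup.mem_sup_right (refl_mem_stab _ (Or.inl v.2))⟩
    · obtain ⟨v, hv⟩ := exists_value (Q.comp (qPerp Q U).subtype) (fun x hx => Subtype.ext
        ((Submodule.eq_bot_iff _).1 hU _ ⟨(congrArg (fun P : Submodule F V => (x : V) ∈ P)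
          (qPerp_qPerp Q hQ U)).mp ((mem_qPerp Q).2 fun w hw => by
            rw [QuadraticMap.polar_comm]; exact hx ⟨w, hw⟩), x.2⟩)) h2 hc
      have hv' : Q (v : V) = c := hv
      exact ⟨v, by rw [hv']; exact hc, by rw [hv']; exact ⟨c, rfl⟩,
        Subgroup.mem_sup_right (refl_mem_stab _ (Or.inr fun u hu => (mem_qPerp Q).1 v.2 u hu))⟩
  · ext y
    constructor
    · rintro ⟨u, hu, rfl⟩
      show h u ∈ W
      rw [hh' ⟨u, hu⟩]
      exact (e ⟨u, hu⟩).2
    · intro hy
      exact ⟨(e.symm ⟨y, hy⟩ : U), (e.symm ⟨y, hy⟩).2, (hh' _).trans (by simp)⟩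

omit [Fintype F] in
/-- A totally singular subspace moves to any other of the same dimension. -/
theorem exists_move_singular' (hQ : PolarNondeg Q) {U W : Submodule F V}
    (hd : Module.finrank F U = Module.finrank F W) (hU : ∀ u ∈ U, Q u = 0) (hW : ∀ w ∈ W, Q w = 0) :
    ∃ h : qAut Q, U.map h.1.toLinearMap = W := by
  let e : U ≃ₗ[F] W := LinearEquiv.ofFinrankEq U W hd
  obtain ⟨h, hh, hh'⟩ := witt_quad Q hQ U (W.subtype ∘ₗ e.toLinearMap)
    (Subtype.val_injective.comp e.injective) (fun a => (hW _ (e a).2).trans (hU _ a.2).symm)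
  refine ⟨⟨h, hh⟩, ?_⟩
  ext y
  constructor
  · rintro ⟨u, hu, rfl⟩
    show h u ∈ W
    rw [hh' ⟨u, hu⟩]
    exact (e ⟨u, hu⟩).2
  · intro hy
    exact ⟨(e.symm ⟨y, hy⟩ : U), (e.symm ⟨y, hy⟩).2, (hh' _).trans (by simp)⟩

omit [Fintype F] in
/-- The hyperbolic rotation of a line in a singular subspace. -/
theorem rot_mem_stab {U : Submodule F V} (hU : ∀ u ∈ U, Q u = 0) {u z : V} (hu : u ∈ U)
    (hz : Q z = 0) (huz : QuadraticMap.polar Q u z = 1) {l : F} (ha : Q (u - z) ≠ 0)
    (hb : Q (u - l • z) ≠ 0) : qRefl Q ha * qRefl Q hb ∈ stab U := by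
  refine mem_stab_of_maps fun y hy => ?_
  have hQu := hU u hu
  have hyu : QuadraticMap.polar Q y u = 0 := polar_zero_of_singular Q hU hy hu
  have hl : l ≠ 0 := fun e => by simp [e, hQu] at hb
  have hQa : Q (u - z) = -1 := by
    rw [quad_sub, hQu, hz, huz]; ring
  have hQb : Q (u - l • z) = -l := by
    rw [quad_sub, quad_smul, hQu, hz, QuadraticMap.polar_smul_right, huz, smul_eq_mul]; ring
  rw [qAut_mul_apply, qRefl_apply, qRefl_apply, hQa, hQb]
  set p := QuadraticMap.polar Q y z with hp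
  have h1 : QuadraticMap.polar Q y (u - l • z) = -(l * p) := by
    rw [QuadraticMap.polar_sub_right, QuadraticMap.polar_smul_right, hyu, smul_eq_mul, ← hp, zero_sub]
  rw [h1, show (-l)⁻¹ * -(l * p) = p by field_simp]
  have h2 : QuadraticMap.polar Q (y - p • (u - l • z)) (u - z) = p * l := by
    simp only [QuadraticMap.polar_sub_left, QuadraticMap.polar_smul_left, QuadraticMap.polar_sub_right,
      QuadraticMap.polar_smul_left, quad_polar_self, hQu, hz, hyu, huz,
      QuadraticMap.polar_comm Q z u, smul_eq_mul, ← hp]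
    ring
  rw [h2, show y - p • (u - l • z) - ((-1 : F)⁻¹ * (p * l)) • (u - z) = y + (p * l - p) • u by
    rw [inv_neg_one, neg_one_mul]; module]
  exact U.add_mem hy (U.smul_mem _ hu)

/-- The stabiliser of a singular subspace and one reflection cover the abelianisation. -/
theorem stab_sup_refl (hQ : PolarNondeg Q) (hex : Fintype.card F ≠ 2 ∨ Module.finrank F V ≠ 4)
    {U : Submodule F V} (hU : ∀ u ∈ U, Q u = 0) (hU0 : U ≠ ⊥) {v : V} (hv : Q v ≠ 0)
    (T : Subgroup (qAut Q)) (hT : qRefl Q hv ∈ T) (hTU : stab U ≤ T) :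
    commutator (qAut Q) ⊔ T = ⊤ := by
  refine sup_commutator_eq_top hQ hex T fun c hc => ?_
  by_cases hvc : IsSquare (Q v * c)
  · exact ⟨v, hv, hvc, Subgroup.mem_sup_right hT⟩
  obtain ⟨u, hu, hu0⟩ := U.ne_bot_iff.1 hU0
  obtain ⟨z, -, hz, huz⟩ := exists_partner Q (P := ⊤) (fun x _ h => hQ x fun y => h y trivial)
    Submodule.mem_top hu0 (hU u hu)
  set l := Q v * c with hl'
  have hl : l ≠ 0 := mul_ne_zero hv hc
  have hQa : Q (u - z) = -1 := by
    rw [quad_sub, hU u hu, hz, huz]; ring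
  have hQb : Q (u - l • z) = -l := by
    rw [quad_sub, quad_smul, hU u hu, hz, QuadraticMap.polar_smul_right, huz, smul_eq_mul]; ring
  have ha : Q (u - z) ≠ 0 := by rw [hQa]; simp
  have hb : Q (u - l • z) ≠ 0 := by rw [hQb]; simpa using hl
  have hrot : qRefl Q ha * qRefl Q hb ∈ commutator (qAut Q) ⊔ T :=
    Subgroup.mem_sup_right (hTU (rot_mem_stab hU hu hz huz ha hb))
  have hclass : ∀ {w : V} (hw : Q w ≠ 0), IsSquare (Q v * Q w) →
      qRefl Q hw ∈ commutator (qAut Q) ⊔ T := fun {w} hw hs => by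
    have he := isConj_refl_of_sq Q hQ hv hw hs
    have hc' : qRefl Q hw * (qRefl Q hv)⁻¹ ∈ commutator (qAut Q) := by
      rw [← Abelianization.ker_of, MonoidHom.mem_ker, map_mul, map_inv, he, mul_inv_cancel]
    have := Subgroup.mul_mem _ (Subgroup.mem_sup_left hc') (Subgroup.mem_sup_right hT)
    rwa [inv_mul_cancel_right] at this
  by_cases h1 : IsSquare (Q v * Q (u - z))
  · have hbm : qRefl Q hb ∈ commutator (qAut Q) ⊔ T := by
      have := Subgroup.mul_mem _ (Subgroup.inv_mem _ (hclass ha h1)) hrot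
      rwa [inv_mul_cancel_left] at this
    refine ⟨u - l • z, hb, ?_, hbm⟩
    rw [hQa] at h1
    obtain ⟨r, hr⟩ := h1
    exact ⟨c * r, by rw [hQb, hl']; linear_combination (c * c) * hr⟩
  · have hac := isSquare_of_two_classes (a := Q v) (b := Q (u - z)) hv hc h1 hvc
    have ham : qRefl Q ha ∈ commutator (qAut Q) ⊔ T := by
      have hvb : IsSquare (Q v * Q (u - l • z)) := by
        obtain ⟨r, hr⟩ := hac
        rw [hQa] at hr
        exact ⟨Q v * r, by rw [hQb, hl']; linear_combination (Q v * Q v) * hr⟩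
      have := Subgroup.mul_mem _ hrot (Subgroup.inv_mem _ (hclass hb hvb))
      rwa [mul_inv_cancel_right] at this
    refine ⟨u - z, ha, ?_, ham⟩
    exact hac

/-- Transitivity on totally singular subspaces below half the dimension. -/
theorem move_singular (hQ : PolarNondeg Q) (hex : Fintype.card F ≠ 2 ∨ Module.finrank F V ≠ 4)
    {U W : Submodule F V} {k : ℕ} (hk : 2 * k < Module.finrank F V) (hU : Module.finrank F U = k)
    (hW : Module.finrank F W = k) (hU0 : ∀ u ∈ U, Q u = 0) (hW0 : ∀ w ∈ W, Q w = 0) :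
    ∃ g ∈ commutator (qAut Q), U.map g.1.toLinearMap = W := by
  by_cases hk0 : U = ⊥
  · refine ⟨1, one_mem _, ?_⟩
    subst hk0
    rw [finrank_bot] at hU
    rw [Submodule.map_bot, (Submodule.finrank_eq_zero.1 (hW.trans hU.symm))]
  obtain ⟨h, hh⟩ := exists_move_singular' hQ (hU.trans hW.symm) hU0 hW0
  refine exists_commutator_move (stab U) ?_ (fun t ht => ht) h hh
  obtain ⟨v, hvp, hv⟩ : ∃ v ∈ qPerp Q U, Q v ≠ 0 := by
    by_contra hc
    push Not at hc
    have h1 := two_mul_finrank_singular Q hQ hc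
    rw [finrank_qPerp Q hQ, hU] at h1
    omega
  exact stab_sup_refl hQ hex hU0 hk0 hv _
    (refl_mem_stab hv (Or.inr fun u hu => (mem_qPerp Q).1 hvp u hu)) le_rfl

section Maximal

variable (hQ : PolarNondeg Q) {m : ℕ} (hV : Module.finrank F V = 2 * m) {U : Submodule F V}
  (hdim : Module.finrank F U = m) (hU : ∀ u ∈ U, Q u = 0)

omit [Fintype F] in
include hQ hV hdim hU in
/-- The class parity of a maximal totally singular subspace. -/
theorem exists_class_hom : ∃ f : qAut Q →* Multiplicative (ZMod 2),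
    (∀ g, f g = 1 ↔ Even (m - Module.finrank F ↥(U ⊓ U.map g.1.toLinearMap))) ∧
    (∀ (v : V) (hv : Q v ≠ 0), f (qRefl Q hv) = Multiplicative.ofAdd 1) := by
  let d : qAut Q → ℕ := fun g => m - Module.finrank F ↥(U ⊓ U.map g.1.toLinearMap)
  have hmax : ∀ g : qAut Q, Module.finrank F ↥(U.map g.1.toLinearMap) = m ∧
      ∀ u ∈ U.map g.1.toLinearMap, Q u = 0 := fun g =>
    ⟨(LinearEquiv.finrank_map_eq g.1 U).trans hdim, map_singular Q hU g⟩
  have hmul : ∀ g h : qAut Q, (d (g * h) : ZMod 2) = d g + d h := by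
    intro g h
    have he : U.map (g * h).1.toLinearMap = (U.map h.1.toLinearMap).map g.1.toLinearMap := by
      rw [← Submodule.map_comp]; rfl
    have h1 := even_codim_sum Q hQ hV ⟨hdim, hU⟩ (hmax g) (hmax (g * h))
    rw [show U.map g.1.toLinearMap ⊓ U.map (g * h).1.toLinearMap = (U ⊓ U.map h.1.toLinearMap).map g.1.toLinearMap by
      rw [he, Submodule.map_inf _ g.1.injective], LinearEquiv.finrank_map_eq] at h1
    have h2 := (ZMod.natCast_eq_zero_iff_even).2 h1
    push_cast at h2
    rw [add_eq_zero_iff_eq_neg, ZMod.neg_eq_self_mod_two] at h2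
    exact h2.symm
  refine ⟨MonoidHom.mk' (fun g => Multiplicative.ofAdd (d g : ZMod 2))
    fun g h => by rw [hmul, ofAdd_add], fun g => ?_, fun v hv => ?_⟩
  · rw [MonoidHom.mk'_apply, ← ofAdd_zero, Multiplicative.ofAdd.injective.eq_iff,
      ZMod.natCast_eq_zero_iff_even]
  · have hvU : v ∉ U := fun h => hv (hU v h)
    have hperp : qPerp Q U = U := by
      refine (Submodule.eq_of_le_of_finrank_le (fun x hx => (mem_qPerp Q).2 fun w hw =>
        polar_zero_of_singular Q hU hw hx) ?_).symm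
      rw [finrank_qPerp Q hQ, hV, hdim]; omega
    let L : U →ₗ[F] F := ((QuadraticMap.polarBilin Q).flip v).comp U.subtype
    have hL : L ≠ 0 := fun h => hvU (by
      rw [← hperp]
      exact (mem_qPerp Q).2 fun w hw => LinearMap.congr_fun h ⟨w, hw⟩)
    have he : U ⊓ U.map (qRefl Q hv).1.toLinearMap = (LinearMap.ker L).map U.subtype := by
      ext x
      constructor
      · rintro ⟨hx, y, hy, rfl⟩
        change (qRefl Q hv).1 y ∈ U at hx
        rw [qRefl_apply] at hx
        have hs : ((Q v)⁻¹ * QuadraticMap.polar Q y v) • v ∈ U := by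
          have := U.sub_mem hy hx
          rwa [sub_sub_cancel] at this
        have hc : QuadraticMap.polar Q y v = 0 := by
          by_contra hne
          exact hvU ((U.smul_mem_iff (mul_ne_zero (inv_ne_zero hv) hne)).1 hs)
        refine ⟨⟨y, hy⟩, hc, ?_⟩
        exact (qRefl_fix Q hv hc).symm
      · rintro ⟨y, hy, rfl⟩
        exact ⟨y.2, y.1, y.2, qRefl_fix Q hv hy⟩
    have h1 : Module.finrank F ↥(U ⊓ U.map (qRefl Q hv).1.toLinearMap) + 1 = m := by
      rw [he, Submodule.finrank_map_subtype_eq, ← hdim, ← L.finrank_range_add_finrank_ker,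
        LinearMap.range_eq_top.2 (L.surjective hL), finrank_top, Module.finrank_self]
      ring
    show Multiplicative.ofAdd ((d (qRefl Q hv) : ℕ) : ZMod 2) = _
    rw [show d (qRefl Q hv) = 1 by simp only [d]; omega, Nat.cast_one]

include hQ hV hdim hU in
/-- Transitivity on each class of maximal totally singular subspaces. -/
theorem move_maximal (hm : 1 ≤ m) (hex : Fintype.card F ≠ 2 ∨ Module.finrank F V ≠ 4)
    {W : Submodule F V} (hW : Module.finrank F W = m) (hW0 : ∀ w ∈ W, Q w = 0)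
    (he : Even (m - Module.finrank F ↥(U ⊓ W))) :
    ∃ g ∈ commutator (qAut Q), U.map g.1.toLinearMap = W := by
  obtain ⟨f, hf, hfr⟩ := exists_class_hom hQ hV hdim hU
  obtain ⟨h, hh⟩ := exists_move_singular' hQ (hdim.trans hW.symm) hU hW0
  obtain ⟨v, hv⟩ := exists_value Q hQ (by omega) (one_ne_zero (α := F))
  have hv' : Q v ≠ 0 := hv ▸ one_ne_zero
  have hU0 : U ≠ ⊥ := fun e => by rw [e, finrank_bot] at hdim; omega
  have htop := stab_sup_refl hQ hex hU hU0 hv' (stab U ⊔ Subgroup.zpowers (qRefl Q hv'))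
    (Subgroup.mem_sup_right (Subgroup.mem_zpowers _)) le_sup_left
  rw [← sup_assoc] at htop
  haveI : (commutator (qAut Q) ⊔ stab U).Normal := Subgroup.Normal.mk fun n hn g => by
    have hc : g * n * g⁻¹ * n⁻¹ ∈ commutator (qAut Q) :=
      Subgroup.commutator_mem_commutator (Subgroup.mem_top g) (Subgroup.mem_top n)
    have := Subgroup.mul_mem _ (Subgroup.mem_sup_left (T := stab U) hc) hn
    rwa [inv_mul_cancel_right] at this
  have hK : commutator (qAut Q) ⊔ stab U ≤ f.ker := sup_le (Abelianization.commutator_subset_ker f)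
    fun t ht => (hf t).2 (by
      rw [show U.map t.1.toLinearMap = U from ht, inf_idem, hdim, Nat.sub_self]; exact ⟨0, rfl⟩)
  have hmem : h ∈ (commutator (qAut Q) ⊔ stab U) ⊔ Subgroup.zpowers (qRefl Q hv') := by
    rw [htop]; trivial
  obtain ⟨k, hk, r, hr, hkr⟩ := Subgroup.mem_sup_of_normal_left.1 hmem
  have hr' : r = 1 ∨ r = qRefl Q hv' := by
    obtain ⟨i, rfl⟩ := hr
    have h2 : (qRefl Q hv') ^ (2 : ℤ) = 1 := by rw [zpow_two, qRefl_mul_self]
    rcases Int.even_or_odd' i with ⟨j, rfl | rfl⟩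
    · left; show qRefl Q hv' ^ (2 * j) = 1; rw [zpow_mul, h2, one_zpow]
    · right; show qRefl Q hv' ^ (2 * j + 1) = _; rw [zpow_add, zpow_mul, h2, one_zpow, one_mul, zpow_one]
  rcases hr' with rfl | rfl
  · rw [mul_one] at hkr
    subst hkr
    obtain ⟨g, hg, t, ht, rfl⟩ := Subgroup.mem_sup_of_normal_left.1 hk
    refine ⟨g, hg, ?_⟩
    rw [← hh]
    conv_lhs => rw [← (show U.map t.1.toLinearMap = U from ht)]
    rw [← Submodule.map_comp]
    rfl
  · exfalso
    have h1 : f h = 1 := (hf h).2 (by rw [hh]; exact he)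
    rw [← hkr, map_mul, hK hk, one_mul, hfr] at h1
    exact absurd (congrArg Multiplicative.toAdd h1) (by decide)

include hQ hV hdim hU in
/-- In characteristic two the commutator is the stabiliser of the class. -/
theorem mem_commutator_iff_class [CharP F 2] (hm : 1 ≤ m)
    (hex : Fintype.card F ≠ 2 ∨ Module.finrank F V ≠ 4) (g : qAut Q) :
    g ∈ commutator (qAut Q) ↔ Even (m - Module.finrank F ↥(U ⊓ U.map g.1.toLinearMap)) := by
  obtain ⟨f, hf, hfr⟩ := exists_class_hom hQ hV hdim hU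
  obtain ⟨v, hv⟩ := exists_value Q hQ (by omega) (one_ne_zero (α := F))
  have hv' : Q v ≠ 0 := hv ▸ one_ne_zero
  haveI : Finite V := Module.finite_of_finite F
  haveI := finite_qAut Q
  have hsurj : Function.Surjective f := fun x => by
    rcases (by decide : ∀ x : Multiplicative (ZMod 2), x = 1 ∨ x = Multiplicative.ofAdd 1) x with rfl | rfl
    · exact ⟨1, map_one f⟩
    · exact ⟨_, hfr v hv'⟩
  have hker : commutator (qAut Q) = f.ker := by
    refine Subgroup.eq_of_le_of_card_ge (Abelianization.commutator_subset_ker f) ?_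
    have h1 := Subgroup.card_mul_index f.ker
    have h2 := Subgroup.card_mul_index (commutator (qAut Q))
    rw [Subgroup.index_ker, MonoidHom.range_eq_top.2 hsurj, Subgroup.card_top,
      show Nat.card (Multiplicative (ZMod 2)) = 2 by simp] at h1
    rw [index_commutator_two Q hQ (by omega) hex] at h2
    omega
  rw [hker, MonoidHom.mem_ker, hf]

end Maximal

/-- Transitivity on non-singular points in characteristic two. -/
theorem move_point [CharP F 2] (hQ : PolarNondeg Q)
    (hex : Fintype.card F ≠ 2 ∨ Module.finrank F V ≠ 4) {u v : V} (hu : Q u ≠ 0) (hv : Q v ≠ 0) :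
    ∃ g ∈ commutator (qAut Q), (F ∙ u).map g.1.toLinearMap = F ∙ v := by
  obtain ⟨r, hr⟩ := FiniteField.isSquare_of_char_two (ringChar.eq F 2) (Q u / Q v)
  have hrv : Q (r • v) = Q u := by rw [quad_smul, ← hr, div_mul_cancel₀ _ hv]
  have hr0 : r ≠ 0 := fun e => hu (by rw [← hrv, e]; simp)
  obtain ⟨h, hh⟩ : ∃ h : qAut Q, h.1 u = r • v := by
    by_cases hd : Q (u - r • v) = 0
    · have hu0 : u ≠ 0 := fun e => hu (by rw [e]; simp)
      let φ : (F ∙ u) →ₗ[F] V := (LinearMap.toSpanSingleton F V (r • v)).comp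
        (LinearEquiv.toSpanNonzeroSingleton F V u hu0).symm.toLinearMap
      have hrv0 : r • v ≠ 0 := fun e => hu (by rw [← hrv, e]; simp)
      obtain ⟨g, hg, hgφ⟩ := witt_quad Q hQ (F ∙ u) φ
        (fun a b hab => (LinearEquiv.toSpanNonzeroSingleton F V u hu0).symm.injective
          (smul_left_injective F hrv0 hab)) (fun a => by
          obtain ⟨t, rfl⟩ := (LinearEquiv.toSpanNonzeroSingleton F V u hu0).surjective a
          simp only [φ, LinearMap.comp_apply, LinearEquiv.coe_coe, LinearEquiv.symm_apply_apply]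
          change Q (t • r • v) = Q (t • u)
          rw [quad_smul _ t, quad_smul _ t, hrv])
      refine ⟨⟨g, hg⟩, ?_⟩
      have this := hgφ (LinearEquiv.toSpanNonzeroSingleton F V u hu0 1)
      simp only [φ, LinearMap.comp_apply, LinearEquiv.coe_coe, LinearEquiv.symm_apply_apply] at this
      rw [show ((LinearEquiv.toSpanNonzeroSingleton F V u hu0 1 : F ∙ u) : V) = u from one_smul F u] at this
      exact this.trans (one_smul F _)
    · exact ⟨qRefl Q hd, qRefl_exchange Q hrv.symm hd⟩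
  refine exists_commutator_move (stab (F ∙ u)) ?_ (fun t ht => ht) h ?_
  · exact sup_commutator_eq_top hQ hex _ fun c _ => ⟨u, hu,
      FiniteField.isSquare_of_char_two (ringChar.eq F 2) _,
      Subgroup.mem_sup_right (refl_mem_stab hu (Or.inl (Submodule.mem_span_singleton_self u)))⟩
  · rw [Submodule.map_span, Set.image_singleton]
    show F ∙ h.1 u = F ∙ v
    rw [hh, Submodule.span_singleton_smul_eq (IsUnit.mk0 r hr0)]

/-- In characteristic two the commutator is generated by the pairs of reflections. -/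
theorem commutator_eq_pairs [CharP F 2] (hQ : PolarNondeg Q) (hn : 2 ≤ Module.finrank F V)
    (hex : Fintype.card F ≠ 2 ∨ Module.finrank F V ≠ 4) :
    commutator (qAut Q) = Subgroup.closure {g | ∃ (u v : V) (hu : Q u ≠ 0) (hv : Q v ≠ 0),
      g = qRefl Q hu * qRefl Q hv} := by
  classical
  set K := Subgroup.closure {g | ∃ (u v : V) (hu : Q u ≠ 0) (hv : Q v ≠ 0),
      g = qRefl Q hu * qRefl Q hv}
  haveI : Finite V := Module.finite_of_finite F
  haveI := finite_qAut Q
  obtain ⟨D, hD⟩ := exists_parity Q hQ hex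
  obtain ⟨v₀, hv₀⟩ := exists_value Q hQ hn (one_ne_zero (α := F))
  have h₀ : Q v₀ ≠ 0 := hv₀ ▸ one_ne_zero
  set r := qRefl Q h₀
  have hpair : ∀ {u v : V} (hu : Q u ≠ 0) (hv : Q v ≠ 0), qRefl Q hu * qRefl Q hv ∈ K :=
    fun hu hv => Subgroup.subset_closure ⟨_, _, hu, hv, rfl⟩
  have hle : K ≤ commutator (qAut Q) := by
    refine (Subgroup.closure_le _).2 ?_
    rintro _ ⟨u, v, hu, hv, rfl⟩
    show _ ∈ commutator (qAut Q)
    rw [← Abelianization.ker_of, MonoidHom.mem_ker, map_mul,
      isConj_refl_of_sq Q hQ hu hv (FiniteField.isSquare_of_char_two (ringChar.eq F 2) _),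
      ← map_mul, qRefl_mul_self, map_one]
  have hconj : ∀ y ∈ K, r * y * r ∈ K := fun y hy => by
    induction hy using Subgroup.closure_induction with
    | mem x hx =>
      obtain ⟨u, v, hu, hv, rfl⟩ := hx
      have := K.mul_mem (hpair h₀ hu) (hpair hv h₀)
      simpa [r, mul_assoc] using this
    | one => rw [mul_one, qRefl_mul_self]; exact K.one_mem
    | mul x y _ _ hx hy =>
      have := K.mul_mem hx hy
      rwa [show r * x * r * (r * y * r) = r * (x * y) * r by
        simp [r, mul_assoc, ← mul_assoc (qRefl Q h₀) (qRefl Q h₀), qRefl_mul_self]] at this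
    | inv x _ hx =>
      have := K.inv_mem hx
      rwa [mul_inv_rev, mul_inv_rev, qRefl_inv, ← mul_assoc] at this
  have hall : ∀ g : qAut Q, g ∈ K ∨ g * r ∈ K := fun g => by
    have hg : g ∈ reflGroup Q := by rw [reflGroup_eq_top Q hQ hex]; trivial
    have step : ∀ {u : V} (hu : Q u ≠ 0) (y : qAut Q), (y ∈ K ∨ y * r ∈ K) →
        qRefl Q hu * y ∈ K ∨ qRefl Q hu * y * r ∈ K := by
      intro u hu y hy
      rcases hy with hy | hy
      · right
        have := K.mul_mem (hpair hu h₀) (hconj y hy)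
        simpa [r, mul_assoc, ← mul_assoc (qRefl Q h₀) (qRefl Q h₀), qRefl_mul_self] using this
      · left
        have := K.mul_mem (hpair hu h₀) (hconj _ hy)
        simpa [r, mul_assoc, ← mul_assoc (qRefl Q h₀) (qRefl Q h₀), qRefl_mul_self] using this
    refine Subgroup.closure_induction_left (p := fun g _ => g ∈ K ∨ g * r ∈ K)
      (Or.inl K.one_mem) ?_ ?_ hg
    · rintro _ ⟨u, hu, rfl⟩ y _ hy
      exact step hu y hy
    · rintro _ ⟨u, hu, rfl⟩ y _ hy
      rw [qRefl_inv]
      exact step hu y hy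
  refine le_antisymm (fun g hg => ?_) hle
  rcases hall g with h | h
  · exact h
  · exfalso
    have h1 := Abelianization.commutator_subset_ker D (hle h)
    have h2 := Abelianization.commutator_subset_ker D hg
    rw [MonoidHom.mem_ker] at h1 h2
    rw [map_mul, h2, one_mul, hD] at h1
    exact absurd (congrArg Multiplicative.toAdd h1) (by decide)

section Bridge

open Matrix Cfsg

variable {ι : Type} [Fintype ι] [DecidableEq ι]

omit [Fintype F] in
theorem mem_Omega_iff (Q : QuadraticForm F (ι → F)) (g : isometryGroup F ⇑Q) :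
    g ∈ Omega F ⇑Q ↔ isoEquiv Q g ∈ commutator (qAut Q) := by
  rw [← map_commutator_equiv (isoEquiv Q)]
  exact (Subgroup.mem_map_iff_mem (isoEquiv Q).injective).symm

omit [Fintype F] in
theorem exists_omega_of_move (Q : QuadraticForm F (ι → F)) {U W : Submodule F (ι → F)}
    (h : ∃ g ∈ commutator (qAut Q), U.map g.1.toLinearMap = W) :
    ∃ g : isometryGroup F ⇑Q, g ∈ Omega F ⇑Q ∧
      U.map (Matrix.mulVecLin ((g : GL ι F) : Matrix ι ι F)) = W := by
  obtain ⟨g, hg, hgW⟩ := h
  obtain ⟨g', rfl⟩ := (isoEquiv Q).surjective g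
  exact ⟨g', (mem_Omega_iff Q g').2 hg, hgW⟩

end Bridge

end CfsgLib.KnownSimple.OrthOmega
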