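import Cfsg.Agent.Lib.Blocks.LocalCentral
import Cfsg.Agent.Lib.DefectZero.Chevalley
import Cfsg.Agent.Lib.Known.ChevBorelTits
import Cfsg.Agent.Lib.Known.ChevRadicalCentralizer

/-!
# The `p`-blocks of an adjoint Chevalley group in the defining characteristic

Exactly two blocks: the Steinberg character alone and one block of full defect.
-/

set_option autoImplicit false
set_option linter.unusedSectionVars false
set_option linter.style.haveILetI false

open Cfsg Cfsg.Lie CfsgLib.Chev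

noncomputable section

namespace CfsgLib.KnownSimple.ChevBlocks

universe v

variable {D : ChevalleyDatum} {co : ℕ → ℕ → ℤ} {K : Type v} [Field K] [Finite K]
  (hF : Facts D co) (hC : CommF.{v} D) (p : ℕ) [Fact p.Prime] [CharP K p]
include hF hC

/-- A radical `p`-subgroup of a Chevalley group contains its centraliser. -/
theorem centralizer_le (hP : Radical.PairCert D co) (R : Subgroup ↥(D.group K)) (hRp : IsPGroup p R)
    (hne : R ≠ ⊥)
    (hrad : ∀ S : Subgroup ↥(D.group K), IsPGroup p S → R ≤ S →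
      S ≤ Subgroup.normalizer (R : Set ↥(D.group K)) →
      (∀ n ∈ Subgroup.normalizer (R : Set ↥(D.group K)), ∀ r ∈ S, n * r * n⁻¹ ∈ S) → S ≤ R) :
    Subgroup.centralizer (R : Set ↥(D.group K)) ≤ R := by
  classical
  obtain ⟨Q, hQ⟩ := (CfsgLib.BNSteinberg.split hF hC p (K := K)).exists_sylow
  obtain ⟨Q', hQ'⟩ := hRp.exists_le_sylow
  obtain ⟨x, hx⟩ := MulAction.exists_smul_eq ↥(D.group K) Q' Q
  have hR0 : ∀ y ∈ R, x * y * x⁻¹ ∈ (D.posUnipotent K).subgroupOf (D.group K) := by
    intro y hy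
    rw [← hQ, ← hx, Sylow.coe_subgroup_smul]
    exact Subgroup.smul_mem_pointwise_smul y (MulAut.conj x) _ (hQ' hy)
  set R' : Subgroup (GL D.Idx K) := R.map (D.group K).subtype with hR'
  have hne' : R' ≠ ⊥ := fun e =>
    hne ((Subgroup.map_eq_bot_iff_of_injective _ (Subgroup.subtype_injective _)).1 e)
  obtain ⟨g, hg, J, hJ, hnorm, hrad'⟩ :=
    CfsgLib.Chev.BorelTits.exists_parabolic hF hC R' hne' (g0 := ((x⁻¹ : ↥(D.group K)) : GL D.Idx K))
      (x⁻¹).2 (by
        rintro _ ⟨y, hy, rfl⟩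
        have h := hR0 y hy
        rw [Subgroup.mem_subgroupOf, hF.posUnipotent_eq] at h
        simpa using h)
  have hUG : D.unipotentRadical K J ≤ D.group K := by
    rw [hF.radical_eq, hF.group_eq]
    exact rootClosure_mono fun _ _ _ => trivial
  let g' : ↥(D.group K) := ⟨g, hg⟩
  let S : Subgroup ↥(D.group K) :=
    ((D.unipotentRadical K J).subgroupOf (D.group K)).map (MulAut.conj g').toMonoidHom
  have hmemS : ∀ y : ↥(D.group K), y ∈ S ↔ g⁻¹ * (y : GL D.Idx K) * g ∈ D.unipotentRadical K J := by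
    intro y
    rw [show S = _ from rfl, Subgroup.mem_map_equiv, MulAut.conj_symm_apply, Subgroup.mem_subgroupOf]
    rfl
  have hRS : R ≤ S := fun y hy =>
    (hmemS y).2 (hrad' _ (Subgroup.mem_map_of_mem _ hy))
  set N := Subgroup.normalizer (R : Set ↥(D.group K))
  have hSN : ∀ n ∈ N, ∀ r ∈ S, n * r * n⁻¹ ∈ S := by
    intro n hn r hr
    rw [hmemS] at hr ⊢
    have hP' := hnorm (n : GL D.Idx K) n.2 (by
      rintro _ ⟨y, hy, rfl⟩
      exact Subgroup.mem_map.2 ⟨n⁻¹ * y * n,
        ((Subgroup.mem_normalizer_iff.1 (inv_mem hn) y).1 hy |> fun h => by simpa using h), by simp⟩)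
    have h := (Subgroup.mem_normalizer_iff.1 (hF.parabolic_le_normalizer hC J hP') _).1 hr
    convert h using 1
    push_cast
    group
  have hSp : IsPGroup p S := by
    refine IsPGroup.map ?_ _
    refine (Q.2.of_injective (Subgroup.inclusion ?_) (Subgroup.inclusion_injective _))
    rw [hQ]
    intro y hy
    rw [Subgroup.mem_subgroupOf] at hy ⊢
    rw [hF.radical_eq] at hy
    rw [hF.posUnipotent_eq]
    exact rootClosure_mono (fun r _ h => h.1) hy
  have hSR : S ⊓ N ≤ R := hrad (S ⊓ N) (hSp.to_le inf_le_left)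
    (le_inf hRS Subgroup.le_normalizer) inf_le_right
    fun n hn r hr => ⟨hSN n hn r hr.1, N.mul_mem (N.mul_mem hn hr.2) (N.inv_mem hn)⟩
  have hSle : S ≤ R := by
    by_contra hle
    have hlt : R.subgroupOf S < ⊤ :=
      lt_of_le_of_ne le_top fun e => hle (Subgroup.subgroupOf_eq_top.1 e)
    have := hSp.isNilpotent
    obtain ⟨y, hy, hyR⟩ := SetLike.exists_of_lt (Group.normalizerCondition_of_isNilpotent _ hlt)
    refine hyR (hSR ⟨y.2, ?_⟩)
    show (y : ↥(D.group K)) ∈ Subgroup.normalizer (R : Set ↥(D.group K))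
    rw [Subgroup.mem_normalizer_iff]
    intro h
    have hy' := Subgroup.mem_normalizer_iff.1 hy
    refine ⟨fun hh => (hy' ⟨h, hRS hh⟩).1 hh, fun hh => ?_⟩
    have hhS : h ∈ S := by
      have := mul_mem (mul_mem (inv_mem y.2) (hRS hh)) y.2
      simpa [mul_assoc] using this
    exact (hy' ⟨h, hhS⟩).2 hh
  intro c hc
  apply hSle
  rw [hmemS]
  refine Radical.centralizer_radical_le hF hC hP hJ
    (mul_mem (mul_mem (inv_mem hg) c.2) hg) fun u hu => ?_
  have huG : g * u * g⁻¹ ∈ D.group K := mul_mem (mul_mem hg (hUG hu)) (inv_mem hg)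
  have huR : (⟨_, huG⟩ : ↥(D.group K)) ∈ R := hSle ((hmemS _).2 (by simpa [mul_assoc] using hu))
  have h := congrArg Subtype.val (Subgroup.mem_centralizer_iff.1 hc _ huR)
  show g⁻¹ * (c : GL D.Idx K) * g * u = u * (g⁻¹ * (c : GL D.Idx K) * g)
  simp only [Subgroup.coe_mul] at h
  calc g⁻¹ * (c : GL D.Idx K) * g * u = g⁻¹ * ((c : GL D.Idx K) * (g * u * g⁻¹)) * g := by group
    _ = g⁻¹ * (g * u * g⁻¹ * (c : GL D.Idx K)) * g := by rw [h]
    _ = u * (g⁻¹ * (c : GL D.Idx K) * g) := by group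

/-- Exactly two blocks. -/
theorem card_eq_two (hP : Radical.PairCert D co) (M : Ideal AlgInt) (hM : IsPModular p M) :
    Nat.card {B : Set (IrrCharacter ↥(D.group K)) // IsPBlock M B} = 2 := by
  classical
  have := hM.2.1
  letI : Fintype K := Fintype.ofFinite K
  letI : Fintype ↥(D.group K) := Fintype.ofFinite _
  have hs := CfsgLib.BNSteinberg.split hF hC p (K := K)
  obtain ⟨Q, hQ⟩ := hs.exists_sylow
  have hpG : p ∣ Nat.card ↥(D.group K) := by
    have h1 : xU D (D.simple 0) (1 : K) ∈ D.posUnipotent K := by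
      rw [hF.posUnipotent_eq]
      exact xU_mem_rootClosure (hF.simple_lt' hF.rank_pos) (hF.simple_lt 0 hF.rank_pos).1 1
    have h2 : xU D (D.simple 0) (1 : K) ≠ 1 := fun e =>
      one_ne_zero (hF.xU_eq_one (hF.simple_lt' hF.rank_pos) e)
    by_contra hnd
    have hU := hs.card_pow
    rw [Nat.factorization_eq_zero_of_not_dvd hnd, pow_zero, Subgroup.card_eq_one] at hU
    apply h2
    have hG : xU D (D.simple 0) (1 : K) ∈ D.group K :=
      hF.xU_mem_group (hF.simple_lt' hF.rank_pos) 1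
    have : (⟨_, hG⟩ : ↥(D.group K)) ∈ (D.posUnipotent K).subgroupOf (D.group K) := h1
    rw [hU, Subgroup.mem_bot] at this
    exact congrArg Subtype.val this
  have hSt : IsIrrCharacter ↥(D.group K) (D.steinbergCharacter K) := by
    rw [_root_.funext (CfsgLib.BNSteinberg.steinberg_eq hF hC (K := K))]
    exact CfsgLib.BNSteinberg.isIrr_stJ
  have hdeg1 : D.steinbergCharacter K 1 = ((p ^ (Nat.card ↥(D.group K)).factorization p : ℕ) : ℂ) := by
    rw [CfsgLib.BNSteinberg.steinberg_eq hF hC (K := K), hs.stJ_one, hs.card_pow]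
    norm_cast
  have hQne : (Q : Subgroup ↥(D.group K)) ≠ ⊥ := fun e => by
    have h := Q.card_eq_multiplicity
    rw [e, Subgroup.card_bot] at h
    exact (Nat.one_lt_pow ((Fact.out : p.Prime).factorization_pos_of_dvd Nat.card_pos.ne' hpG).ne'
      (Fact.out : p.Prime).one_lt).ne h
  rw [CfsgLib.Blocks.LocalCentral.card_blocks hM (Z := ⊥) bot_le
    (by rw [Subgroup.card_bot]; exact (Fact.out : p.Prime).not_dvd_one) hpG
    (fun R hR hne hrad => by rw [sup_bot_eq]; exact centralizer_le hF hC p hP R hR hne hrad) Q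
    (by
      rw [sup_bot_eq]
      exact centralizer_le hF hC p hP _ Q.2 hQne fun S hS hle _ _ => (Q.3 hS hle).le)
    ⟨_, hSt⟩ (by
      show _ ∣ ⌊(D.steinbergCharacter K 1).re⌋₊
      rw [hdeg1, Complex.natCast_re, Nat.floor_natCast])
    (fun χ h => Subtype.ext (CfsgLib.DefectZero.eq_steinberg hF hC p χ.2
      ⟨_, (CfsgLib.CharBlocks.coe_charDegree_irr χ).symm, h⟩)), Subgroup.card_bot]

end CfsgLib.KnownSimple.ChevBlocks
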