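import Mathlib

/-!
The part of odd prime order to the third power against the 2-part, for alternating groups and orders.
-/

namespace CfsgLib.KnownSimple

theorem check_order {M N p : ℕ} (a : ℕ) (hM : M = N) (hp : p.Prime) (hp3 : 3 ≤ p) (h3 : M.factorization p = 3)
    (hdvd : N ∣ (Nat.factorial 71) ^ 64) (ha : 2 ^ a ∣ N)
    (hall : ∀ q < 72, q < 3 ∨ ¬ q ^ 3 ∣ N ∨ q ^ 4 ∣ N ∨ q ^ 3 < 2 ^ a ∨ ¬ q.Prime) :
    p ^ 3 < 2 ^ M.factorization 2 := by
  subst hM
  have hM0 : M ≠ 0 := by rintro rfl; simp at h3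
  have hd : p ^ 3 ∣ M := (hp.pow_dvd_iff_le_factorization hM0).2 h3.ge
  have hp71 : p ≤ 71 := hp.dvd_factorial.1 (hp.dvd_of_dvd_pow (((dvd_pow_self p three_ne_zero).trans hd).trans hdvd))
  have h2 : a ≤ M.factorization 2 := (Nat.prime_two.pow_dvd_iff_le_factorization hM0).1 ha
  rcases hall p (by omega) with h | h | h | h | h
  · omega
  · exact absurd hd h
  · have := (hp.pow_dvd_iff_le_factorization hM0).1 h
    omega
  · exact lt_of_lt_of_le h (Nat.pow_le_pow_right two_pos h2)
  · exact absurd hp h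

theorem cube_lt_four_pow : ∀ p : ℕ, 5 ≤ p → p ^ 3 < 4 ^ p := by
  intro p hp
  induction p, hp using Nat.le_induction with
  | base => norm_num
  | succ n hn ih =>
    have : (n + 1) ^ 3 ≤ 4 * n ^ 3 := by nlinarith [Nat.mul_le_mul hn hn]
    calc (n + 1) ^ 3 ≤ 4 * n ^ 3 := this
      _ < 4 * 4 ^ n := by omega
      _ = 4 ^ (n + 1) := by ring

theorem alt_three (p : ℕ) (hp : p.Prime) (hp3 : 3 ≤ p) (n : ℕ) (hn : 5 ≤ n) {M : ℕ} (hM : M ≠ 0)
    (hc : 2 * M = n.factorial) (h3 : M.factorization p = 3) : p ^ 3 < 2 ^ M.factorization 2 := by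
  have hf : ∀ r : ℕ, r.Prime → n.factorial.factorization r = (if r = 2 then 1 else 0) + M.factorization r := by
    intro r hr
    rw [← hc, Nat.factorization_mul two_ne_zero hM, Finsupp.add_apply, Nat.prime_two.factorization, Finsupp.single_apply]
    simp only [eq_comm]
  have hp2 : p ≠ 2 := by omega
  have e3 := hf p hp
  rw [if_neg hp2, zero_add, h3] at e3
  have e2 := hf 2 Nat.prime_two
  rw [if_pos rfl] at e2
  have hb : Nat.log 2 n < n + 1 := Nat.lt_succ_of_le (Nat.log_le_self 2 n)
  haveI : Fact p.Prime := ⟨hp⟩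
  have vp := Nat.factorization_factorial (p := p) hp (n := n) (b := n + 1) (Nat.lt_succ_of_le (Nat.log_le_self p n))
  have v2 := Nat.factorization_factorial (p := 2) Nat.prime_two (n := n) (b := n + 1) hb
  have hlow : n / 2 + n / 4 + n / 8 ≤ n.factorial.factorization 2 := by
    rw [v2]
    calc n / 2 + n / 4 + n / 8 = ∑ i ∈ Finset.Ico 1 4, n / 2 ^ i := by
          simp [Finset.sum_Ico_succ_top]
      _ ≤ _ := Finset.sum_le_sum_of_subset (fun i hi => by
          simp only [Finset.mem_Ico] at hi ⊢
          omega)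
  rcases lt_or_eq_of_le hp3 with h5 | rfl
  · have h5' : 5 ≤ p := by
      rcases hp.eq_two_or_odd with h | h
      · omega
      · omega
    have hn3 : 3 * p ≤ n := by
      by_contra hlt
      have hle : n.factorial.factorization p ≤ n / p := by
        rw [vp]
        calc ∑ i ∈ Finset.Ico 1 (n + 1), n / p ^ i ≤ ∑ i ∈ ({1} : Finset ℕ), n / p ^ i := by
              refine le_of_eq (Finset.sum_subset (fun i hi => ?_) (fun i hi hi' => ?_)).symm
              · simp only [Finset.mem_singleton] at hi
                simp [hi]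
                omega
              · simp only [Finset.mem_Ico] at hi
                simp only [Finset.mem_singleton] at hi'
                refine Nat.div_eq_of_lt (lt_of_lt_of_le ?_ (Nat.pow_le_pow_right hp.pos (show 2 ≤ i by omega)))
                calc n < 3 * p := by omega
                  _ ≤ p * p := Nat.mul_le_mul_right p hp3
                  _ = p ^ 2 := (pow_two p).symm
          _ = n / p := by simp
      have : n / p < 3 := (Nat.div_lt_iff_lt_mul hp.pos).2 (by omega)
      omega
    have h2p : 2 * p ≤ M.factorization 2 := by omega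
    calc p ^ 3 < 4 ^ p := cube_lt_four_pow p h5'
      _ = 2 ^ (2 * p) := by rw [pow_mul]; norm_num
      _ ≤ _ := Nat.pow_le_pow_right two_pos h2p
  · have hn8 : 8 ≤ n := by
      by_contra hlt
      interval_cases n <;> simp [vp, Finset.sum_Ico_succ_top] at e3
    have h5 : 5 ≤ M.factorization 2 := by omega
    calc 3 ^ 3 < 2 ^ 5 := by norm_num
      _ ≤ _ := Nat.pow_le_pow_right two_pos h5

end CfsgLib.KnownSimple
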