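/-
Isometry subgroups of odd exponent modulo scalars that are normalised by the Eichler transformations are scalar.
-/
import Cfsg.Agent.Lib.Classical.QuadSimple
import Cfsg.Agent.Lib.Classical.QuadPOmega
import Cfsg.Agent.Lib.KnownSimple.Forms.Models

set_option autoImplicit false

namespace CfsgLib.OddNormal

open CfsgLib.Classical

variable {F V : Type*} [Field F] [Fintype F] [AddCommGroup V] [Module F V] [FiniteDimensional F V]
  {Q : QuadraticForm F V}

lemma ndOn_top (hQ : PolarNondeg Q) : NdOn Q (⊤ : Submodule F V) := fun x _ h => hQ x fun y => h y trivial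

/-- The singular points of a nondegenerate form in odd characteristic have even number. -/
lemma even_card_singPts (h2 : (2 : F) ≠ 0) (hQ : PolarNondeg Q) : Even (Nat.card (SingPts Q)) := by
  classical
  haveI : Invertible (2 : F) := invertibleOfNonzero h2
  haveI : Finite V := Module.finite_of_finite F
  obtain ⟨w, ⟨e⟩⟩ := QuadraticForm.equivalent_weightedSumSquares Q
  let n := Module.finrank F V
  have hw : ∀ i, w i ≠ 0 := by
    intro i hi
    refine absurd (congrArg e.toLinearEquiv (hQ (e.toLinearEquiv.symm (Pi.single i 1)) fun y => ?_)) ?_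
    · have key : ∀ a b, QuadraticMap.polar Q a b =
          QuadraticMap.polar (QuadraticMap.weightedSumSquares F w) (e.toLinearEquiv a) (e.toLinearEquiv b) :=
        fun a b => by
          simp only [QuadraticMap.polar, ← map_add e.toLinearEquiv]
          rw [← e.map_app, ← e.map_app, ← e.map_app]
          rfl
      rw [key, LinearEquiv.apply_symm_apply]
      simp only [QuadraticMap.polar, QuadraticMap.weightedSumSquares_apply, ← Finset.sum_sub_distrib, smul_eq_mul]
      refine Finset.sum_eq_zero fun j _ => ?_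
      rcases eq_or_ne j i with rfl | h
      · simp [hi]
      · simp [Pi.single_eq_of_ne h]
    · simp [map_zero]
  let L := e.toLinearEquiv
  let sg : (Fin n → ℤˣ) → (Fin n → F) → (Fin n → F) := fun s c i => ((s i : ℤ) : F) * c i
  have hsg : ∀ s c, sg s (sg s c) = c := fun s c => funext fun i => by
    rcases Int.units_eq_one_or (s i) with h | h <;> simp [sg, h]
  let lin : (Fin n → ℤˣ) → (V ≃ₗ[F] V) := fun s =>
    { toFun := fun v => L.symm (sg s (L v))
      map_add' := fun a b => L.injective (funext fun i => by simp [sg, mul_add])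
      map_smul' := fun a b => L.injective (funext fun i => by simp [sg, mul_left_comm])
      invFun := fun v => L.symm (sg s (L v))
      left_inv := fun v => by simp [hsg]
      right_inv := fun v => by simp [hsg] }
  let d : (Fin n → ℤˣ) →* qAut Q :=
    { toFun := fun s => ⟨lin s, fun v => by
        show Q (L.symm (sg s (L v))) = Q v
        rw [← e.map_app v, ← e.map_app (L.symm _)]
        show QuadraticMap.weightedSumSquares F w (L (L.symm _)) = QuadraticMap.weightedSumSquares F w (L v)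
        rw [LinearEquiv.apply_symm_apply, QuadraticMap.weightedSumSquares_apply, QuadraticMap.weightedSumSquares_apply]
        refine Finset.sum_congr rfl fun i _ => ?_
        rcases Int.units_eq_one_or (s i) with h | h <;> simp [sg, h]⟩
      map_one' := qAut_ext fun v => by
        show L.symm (sg 1 (L v)) = v
        rw [show sg 1 (L v) = L v from funext fun i => by simp [sg], LinearEquiv.symm_apply_apply]
      map_mul' := fun s t => qAut_ext fun v => by
        rw [qAut_mul_apply]
        show L.symm (sg (s * t) (L v)) = L.symm (sg s (L (L.symm (sg t (L v)))))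
        simp [sg, mul_assoc] }
  letI : MulAction (Fin n → ℤˣ) (SingPts Q) := MulAction.compHom _ d
  haveI : Fact (Nat.Prime 2) := ⟨Nat.prime_two⟩
  have hE : IsPGroup 2 (Fin n → ℤˣ) := fun s => ⟨1, funext fun i => Int.units_sq (s i)⟩
  have hfix : IsEmpty (MulAction.fixedPoints (Fin n → ℤˣ) (SingPts Q)) := by
    refine ⟨fun ⟨p, hp⟩ => ?_⟩
    obtain ⟨v, hv, hQv, rfl⟩ := exists_singMk Q p
    set c := e.toLinearEquiv v with hc
    have hc0 : c ≠ 0 := fun h => hv (e.toLinearEquiv.injective (h.trans (map_zero _).symm))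
    obtain ⟨i, hi⟩ := Function.ne_iff.1 hc0
    obtain ⟨j, hji, hj⟩ : ∃ j, j ≠ i ∧ c j ≠ 0 := by
      by_contra hcon
      push Not at hcon
      have h0 : QuadraticMap.weightedSumSquares F w c = 0 := (e.map_app v).trans hQv
      rw [QuadraticMap.weightedSumSquares_apply, Finset.sum_eq_single i
        (fun j _ hj => by simp [hcon j hj]) (by simp)] at h0
      simp only [smul_eq_mul, mul_eq_zero, or_self] at h0
      exact h0.elim (hw i) hi
    have h1 := hp (Function.update 1 i (-1))
    change d (Function.update 1 i (-1)) • singMk Q hv hQv = _ at h1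
    rw [smul_singMk, singMk_eq_iff] at h1
    obtain ⟨a, ha⟩ := h1
    have h3 : a • c = sg (Function.update 1 i (-1)) c := by
      rw [hc, ← map_smul, ha]
      show L (L.symm _) = _
      rw [LinearEquiv.apply_symm_apply]
    have h4 : ∀ k, a * c k = ((Function.update (1 : (Fin n → ℤˣ)) i (-1) k : ℤˣ) : ℤ) * c k := fun k => congrFun h3 k
    have ei := h4 i
    have ej := h4 j
    rw [Function.update_self] at ei
    rw [Function.update_of_ne hji] at ej
    simp only [Pi.one_apply, Units.val_one, Int.cast_one, one_mul] at ej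
    rw [mul_left_eq_self₀, or_iff_left hj] at ej
    rw [ej] at ei
    exact hi (show c i = 0 by
      have : (2 : F) * c i = 0 := by push_cast at ei; linear_combination ei
      exact (mul_eq_zero.1 this).resolve_left h2)
  haveI : Finite (SingPts Q) := Subtype.finite
  have h := hE.card_modEq_card_fixedPoints (SingPts Q)
  rw [Nat.card_of_isEmpty (α := MulAction.fixedPoints (Fin n → ℤˣ) (SingPts Q))] at h
  exact Nat.even_iff.2 h

variable (M : Subgroup (qAut Q)) {N : ℕ}

/-- The orbit of `M` through `p`. -/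
def orb (p : SingPts Q) : Set (SingPts Q) := {r | ∃ m ∈ M, m • p = r}

lemma self_mem_orb (p : SingPts Q) : p ∈ orb M p := ⟨1, M.one_mem, one_smul _ p⟩

lemma orb_eq {p r : SingPts Q} (h : r ∈ orb M p) : orb M r = orb M p := by
  obtain ⟨m, hm, rfl⟩ := h
  ext s
  constructor
  · rintro ⟨k, hk, rfl⟩; exact ⟨k * m, M.mul_mem hk hm, mul_smul _ _ _⟩
  · rintro ⟨k, hk, rfl⟩; exact ⟨k * m⁻¹, M.mul_mem hk (M.inv_mem hm), by rw [mul_smul, inv_smul_smul]⟩

lemma odd_card_orb (hN : Odd N) (hpow : ∀ m ∈ M, ∀ p : SingPts Q, m ^ N • p = p) (p : SingPts Q) :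
    Odd (Nat.card (orb M p)) := by
  classical
  haveI : Finite V := Module.finite_of_finite F
  haveI : Finite (SingPts Q) := Subtype.finite
  let φ : M →* Equiv.Perm (SingPts Q) := (MulAction.toPermHom (qAut Q) (SingPts Q)).comp M.subtype
  have horb : orb M p = MulAction.orbit φ.range p := by
    ext r
    constructor
    · rintro ⟨m, hm, rfl⟩; exact ⟨⟨φ ⟨m, hm⟩, ⟨_, rfl⟩⟩, rfl⟩
    · rintro ⟨⟨_, ⟨m, rfl⟩⟩, rfl⟩; exact ⟨m.1, m.2, rfl⟩
  rw [horb]
  refine Odd.of_dvd_nat ?_ (show Nat.card (MulAction.orbit φ.range p) ∣ Nat.card φ.range from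
    Dvd.intro _ (by rw [← Nat.card_congr (MulAction.orbitProdStabilizerEquivGroup φ.range p), Nat.card_prod]))
  rw [← Nat.not_even_iff_odd, even_iff_two_dvd]
  intro h2
  haveI : Fact (Nat.Prime 2) := ⟨Nat.prime_two⟩
  obtain ⟨⟨_, ⟨m, rfl⟩⟩, hm⟩ := exists_prime_orderOf_dvd_card' 2 h2
  have h1 : (⟨φ m, ⟨m, rfl⟩⟩ : φ.range) ^ N = 1 := Subtype.ext (Equiv.ext fun r => by
    show (φ m ^ N) r = r
    rw [← map_pow]
    exact hpow m.1 m.2 r)
  have h3 := orderOf_dvd_of_pow_eq_one h1
  rw [hm] at h3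
  exact Nat.not_even_iff_odd.2 hN (even_iff_two_dvd.2 h3)

/-- A normalising element moving `p` inside its orbit stabilises the orbit. -/
lemma smul_mem_orb {g : qAut Q} (hg : ∀ m ∈ M, g * m * g⁻¹ ∈ M) {p r : SingPts Q} (hgp : g • p ∈ orb M p)
    (hr : r ∈ orb M p) : g • r ∈ orb M p := by
  obtain ⟨m, hm, rfl⟩ := hr
  rw [← orb_eq M hgp]
  exact ⟨g * m * g⁻¹, hg m hm, by rw [← mul_smul, ← mul_smul, inv_mul_cancel_right]⟩

variable (hM : ∀ u w, Q u = 0 → QuadraticMap.polar Q u w = 0 → ∀ m ∈ M, eich Q u w * m * (eich Q u w)⁻¹ ∈ M)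

include hM in
lemma eich_smul_mem {p r : SingPts Q} {u w : V} (hu : Q u = 0) (hw : QuadraticMap.polar Q u w = 0)
    (hp : eich Q u w • p = p) (hr : r ∈ orb M p) : eich Q u w • r ∈ orb M p :=
  smul_mem_orb M (hM u w hu hw) (hp.symm ▸ self_mem_orb M p) hr

variable (h2 : (2 : F) ≠ 0) (hQ : PolarNondeg Q)

include hM in
lemma nonperp_mem {x y : V} (hx : x ≠ 0) (hy : y ≠ 0) (hQx : Q x = 0) (hQy : Q y = 0)
    (hr : singMk Q hy hQy ∈ orb M (singMk Q hx hQx)) (hxy : QuadraticMap.polar Q y x ≠ 0)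
    {z : V} (hz : z ≠ 0) (hQz : Q z = 0) (hzx : QuadraticMap.polar Q z x ≠ 0) :
    singMk Q hz hQz ∈ orb M (singMk Q hx hQx) := by
  set t := QuadraticMap.polar Q y x / QuadraticMap.polar Q z x with ht
  have ht0 : t ≠ 0 := div_ne_zero hxy hzx
  obtain ⟨w, hw, he⟩ := exists_eich_move Q (u := y) (u' := t • z) (v := x) hQy
    (by rw [quad_smul, hQz, mul_zero]) hQx
    (by rw [QuadraticMap.polar_smul_left, smul_eq_mul, ht, div_mul_cancel₀ _ hzx]) hxy
  have h := eich_smul_mem M hM hQx hw (smul_singMk_eq Q hx hQx hx hQx 1 (by rw [eich_fix Q hQx hw, one_smul])) hr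
  rwa [smul_singMk_eq Q hy hQy hz hQz t he] at h

include hM h2 hQ in
/-- The orbits are singletons. -/
lemma orb_subsingleton (hN : Odd N) (hpow : ∀ m ∈ M, ∀ p : SingPts Q, m ^ N • p = p) (p r : SingPts Q)
    (hr : r ∈ orb M p) : r = p := by
  classical
  haveI : Finite V := Module.finite_of_finite F
  haveI : Finite (SingPts Q) := Subtype.finite
  have hperp : ∀ (x y : V) (hx : x ≠ 0) (hy : y ≠ 0) (hQx : Q x = 0) (hQy : Q y = 0),
      singMk Q hy hQy ∈ orb M (singMk Q hx hQx) → QuadraticMap.polar Q y x = 0 := by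
    intro x y hx hy hQx hQy hr
    by_contra hxy
    have hall : ∀ s, s ∈ orb M (singMk Q hx hQx) := by
      intro s
      obtain ⟨z, hz, hQz, rfl⟩ := exists_singMk Q s
      by_cases hzx : QuadraticMap.polar Q z x = 0
      swap
      · exact nonperp_mem M hM hx hy hQx hQy hr hxy hz hQz hzx
      obtain ⟨x', -, hQx', hxx'⟩ := exists_partner Q (ndOn_top hQ) (Submodule.mem_top (x := x)) hx hQx
      obtain ⟨y', hy0, hQy', hy'x, hy'z⟩ : ∃ y', y' ≠ 0 ∧ Q y' = 0 ∧ QuadraticMap.polar Q y' x ≠ 0 ∧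
          QuadraticMap.polar Q y' z ≠ 0 := by
        by_cases hzx' : QuadraticMap.polar Q x' z = 0
        · obtain ⟨z', hz', hQz', hzz'⟩ := exists_partner Q (ndOn_pairPerp Q (ndOn_top hQ) trivial trivial hQx hQx' hxx')
            (u := z) ⟨⟨trivial, LinearMap.mem_ker.2 (by simpa [QuadraticMap.polar_comm Q x z] using hzx)⟩,
              LinearMap.mem_ker.2 hzx'⟩ hz hQz
          obtain ⟨⟨-, hxz'⟩, hx'z'⟩ := hz'
          rw [SetLike.mem_coe, LinearMap.mem_ker, QuadraticMap.polarBilin_apply_apply] at hxz' hx'z'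
          have e1 : QuadraticMap.polar Q (x' + z') x = 1 := by
            rw [QuadraticMap.polar_add_left, QuadraticMap.polar_comm Q x' x, hxx', QuadraticMap.polar_comm Q z' x, hxz',
              add_zero]
          refine ⟨x' + z', fun h => by simp [h] at e1, by rw [quad_add, hQx', hQz', hx'z']; simp,
            by rw [e1]; exact one_ne_zero, ?_⟩
          rw [QuadraticMap.polar_add_left, hzx', QuadraticMap.polar_comm Q z' z, hzz', zero_add]
          exact one_ne_zero
        · exact ⟨x', fun h => by simp [h] at hxx', hQx', by rw [QuadraticMap.polar_comm, hxx']; exact one_ne_zero, hzx'⟩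
      have h1 := nonperp_mem M hM hx hy hQx hQy hr hxy hy0 hQy' hy'x
      have h2' : singMk Q hx hQx ∈ orb M (singMk Q hy0 hQy') := by rw [orb_eq M h1]; exact self_mem_orb M _
      have h3 := nonperp_mem M hM hy0 hx hQy' hQx h2' (by rwa [QuadraticMap.polar_comm]) hz hQz
        (by rwa [QuadraticMap.polar_comm])
      rwa [orb_eq M h1] at h3
    have ho := odd_card_orb M hN hpow (singMk Q hx hQx)
    rw [show orb M (singMk Q hx hQx) = Set.univ from Set.eq_univ_of_forall hall, Nat.card_congr (Equiv.Set.univ _)] at ho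
    exact Nat.not_even_iff_odd.2 ho (even_card_singPts h2 hQ)
  obtain ⟨x, hx, hQx, rfl⟩ := exists_singMk Q p
  obtain ⟨y, hy, hQy, rfl⟩ := exists_singMk Q r
  have hyx := hperp x y hx hy hQx hQy hr
  by_contra hne
  have hli : ∀ a : F, a • x ≠ y := fun a ha => hne ((singMk_eq_iff Q _ _ _ _).2 ⟨a, ha⟩)
  obtain ⟨x', -, hQx', hxx'⟩ := exists_partner Q (ndOn_top hQ) (Submodule.mem_top (x := x)) hx hQx
  set D := ndOn_pairPerp Q (ndOn_top hQ) trivial trivial hQx hQx' hxx'
  set c := QuadraticMap.polar Q y x' with hc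
  set d := y - c • x with hd
  have hxx : QuadraticMap.polar Q x x = 0 := by rw [quad_polar_self, hQx, mul_zero]
  have hxd : QuadraticMap.polar Q x d = 0 := by
    rw [hd, QuadraticMap.polar_sub_right, QuadraticMap.polar_smul_right, hxx, QuadraticMap.polar_comm, hyx, smul_zero,
      sub_zero]
  have hx'd : QuadraticMap.polar Q x' d = 0 := by
    rw [hd, QuadraticMap.polar_sub_right, QuadraticMap.polar_smul_right, QuadraticMap.polar_comm Q x' y, ← hc,
      QuadraticMap.polar_comm Q x' x, hxx', smul_eq_mul, mul_one, sub_self]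
  have hQd : Q d = 0 := by
    rw [hd, quad_sub, quad_smul, hQy, hQx, QuadraticMap.polar_smul_right, hyx, smul_zero, mul_zero, add_zero, sub_zero]
  have hd0 : d ≠ 0 := fun h => hli c (sub_eq_zero.1 h).symm
  obtain ⟨d', hd', hQd', hdd'⟩ := exists_partner Q D (u := d)
    ⟨⟨trivial, LinearMap.mem_ker.2 hxd⟩, LinearMap.mem_ker.2 hx'd⟩ hd0 hQd
  obtain ⟨⟨-, hxd'⟩, hx'd'⟩ := id hd'
  rw [SetLike.mem_coe, LinearMap.mem_ker, QuadraticMap.polarBilin_apply_apply] at hxd' hx'd'
  have hy_eq : y = c • x + d := by rw [hd]; abel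
  set R := (⊤ ⊓ LinearMap.ker (QuadraticMap.polarBilin Q x) ⊓ LinearMap.ker (QuadraticMap.polarBilin Q x')) ⊓
    LinearMap.ker (QuadraticMap.polarBilin Q d) ⊓ LinearMap.ker (QuadraticMap.polarBilin Q d') with hR
  have hRnd : NdOn Q R := ndOn_pairPerp Q D ⟨⟨trivial, LinearMap.mem_ker.2 hxd⟩, LinearMap.mem_ker.2 hx'd⟩ hd'
    hQd hQd' hdd'
  by_cases hR0 : R = ⊥
  · -- the orbit is a line
    have hspan : ∀ (z : V) (hz : z ≠ 0) (hQz : Q z = 0), singMk Q hz hQz ∈ orb M (singMk Q hx hQx) →
        ∃ a b : F, z = a • x + b • d := by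
      intro z hz hQz hzm
      have hzx := hperp x z hx hz hQx hQz hzm
      have hzy := hperp y z hy hz hQy hQz (by rwa [orb_eq M hr])
      have hzd : QuadraticMap.polar Q z d = 0 := by
        rw [hd, QuadraticMap.polar_sub_right, QuadraticMap.polar_smul_right, hzy, hzx, smul_zero, sub_zero]
      obtain ⟨p1, p2⟩ := proj_pair Q hQx hQx' hxx' z
      set z1 := z - QuadraticMap.polar Q z x' • x - QuadraticMap.polar Q z x • x' with hz1
      obtain ⟨p3, p4⟩ := proj_pair Q hQd hQd' hdd' z1
      set z2 := z1 - QuadraticMap.polar Q z1 d' • d - QuadraticMap.polar Q z1 d • d' with hz2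
      have hmem : z2 ∈ R := by
        refine ⟨⟨⟨⟨trivial, ?_⟩, ?_⟩, ?_⟩, ?_⟩ <;>
          simp only [SetLike.mem_coe, LinearMap.mem_ker, QuadraticMap.polarBilin_apply_apply]
        · simp [hz2, QuadraticMap.polar_comm Q x z1, p1, hxd, hxd']
        · simp [hz2, QuadraticMap.polar_comm Q x' z1, p2, hx'd, hx'd']
        · exact (QuadraticMap.polar_comm Q d z2).trans p3
        · exact (QuadraticMap.polar_comm Q d' z2).trans p4
      rw [hR0, Submodule.mem_bot] at hmem
      have hz1d : QuadraticMap.polar Q z1 d = 0 := by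
        rw [hz1, hzx]; simp [hzd, hxd]
      rw [hz2, hz1d, zero_smul, sub_zero, hz1, hzx, zero_smul, sub_zero, sub_sub, sub_eq_zero] at hmem
      exact ⟨_, _, hmem⟩
    have hne2 : ∀ t : F, d + t • x ≠ 0 := fun t h => by
      have := congrArg (QuadraticMap.polar Q d') h
      simp [QuadraticMap.polar_comm Q d' d, hdd', QuadraticMap.polar_comm Q d' x, hxd'] at this
    have hQ2 : ∀ t : F, Q (d + t • x) = 0 := fun t => by
      rw [quad_add, quad_smul, hQd, hQx, QuadraticMap.polar_smul_right, QuadraticMap.polar_comm, hxd]; simp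
    let Φ : Option F → SingPts Q := fun o => match o with
      | none => singMk Q hx hQx
      | some t => singMk Q (hne2 t) (hQ2 t)
    have hinj : Function.Injective Φ := by
      rintro (_ | s) (_ | t) e <;> simp only [Φ, singMk_eq_iff] at e
      · rfl
      · obtain ⟨a, ha⟩ := e
        have := congrArg (QuadraticMap.polar Q d') ha
        simp [QuadraticMap.polar_comm Q d' d, hdd', QuadraticMap.polar_comm Q d' x, hxd'] at this
        rw [this, zero_smul] at ha
        exact absurd ha.symm hx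
      · obtain ⟨a, ha⟩ := e
        have := congrArg (QuadraticMap.polar Q d') ha
        simp [QuadraticMap.polar_comm Q d' d, hdd', QuadraticMap.polar_comm Q d' x, hxd'] at this
      · obtain ⟨a, ha⟩ := e
        have h1 := congrArg (QuadraticMap.polar Q d') ha
        have h3 := congrArg (QuadraticMap.polar Q x') ha
        simp [QuadraticMap.polar_comm Q d' d, hdd', QuadraticMap.polar_comm Q d' x, hxd'] at h1
        subst h1
        rw [one_smul, QuadraticMap.polar_add_right, QuadraticMap.polar_add_right, QuadraticMap.polar_smul_right,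
          QuadraticMap.polar_smul_right, hx'd, QuadraticMap.polar_comm Q x' x, hxx', zero_add, zero_add, smul_eq_mul,
          smul_eq_mul, mul_one, mul_one] at h3
        rw [h3]
    have himg : orb M (singMk Q hx hQx) = Set.range Φ := by
      ext s
      constructor
      · intro hs
        obtain ⟨z, hz, hQz, rfl⟩ := exists_singMk Q s
        obtain ⟨a, b, rfl⟩ := hspan z hz hQz hs
        rcases eq_or_ne b 0 with rfl | hb
        · exact ⟨none, (singMk_eq_iff Q _ _ _ _).2 ⟨a⁻¹, by
            rw [zero_smul, add_zero, smul_smul, inv_mul_cancel₀ (fun h => hz (by simp [h])), one_smul]⟩⟩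
        · exact ⟨some (a / b), (singMk_eq_iff Q _ _ _ _).2 ⟨b⁻¹, by
            rw [smul_add, smul_smul, smul_smul, inv_mul_cancel₀ hb, one_smul, div_eq_inv_mul, add_comm]⟩⟩
      · rintro ⟨_ | t, rfl⟩
        · exact self_mem_orb M _
        · have hw : QuadraticMap.polar Q x ((c - t) • d') = 0 := by
            rw [QuadraticMap.polar_smul_right, hxd', smul_zero]
          have h := eich_smul_mem M hM hQx hw
            (smul_singMk_eq Q hx hQx hx hQx 1 (by rw [eich_fix Q hQx hw, one_smul])) hr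
          rwa [smul_singMk_eq Q hy hQy (hne2 t) (hQ2 t) 1] at h
          rw [eich_apply Q hQx hw, one_smul, hy_eq]
          simp [hQd', quad_smul, QuadraticMap.polar_add_left, QuadraticMap.polar_smul_left, hxx, hxd',
            QuadraticMap.polar_smul_right, QuadraticMap.polar_comm Q d x, hxd, hdd']
          module
    have ho := odd_card_orb M hN hpow (singMk Q hx hQx)
    rw [himg, Nat.card_range_of_injective hinj, Finite.card_option, Nat.card_eq_fintype_card] at ho
    exact Nat.not_even_iff_odd.2 ho (odd_card_of_two_ne_zero h2).add_one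
  · obtain ⟨w, hw, hQw⟩ := exists_aniso_in Q hRnd hR0
    obtain ⟨⟨⟨⟨-, hxw⟩, hx'w⟩, hdw⟩, hd'w⟩ := hw
    simp only [SetLike.mem_coe, LinearMap.mem_ker, QuadraticMap.polarBilin_apply_apply] at hxw hx'w hdw hd'w
    have h := eich_smul_mem M hM hQd' hd'w (smul_singMk_eq Q hx hQx hx hQx 1 (by
      rw [eich_apply Q hQd' hd'w, hxd', hxw, one_smul]; simp)) hr
    have hgy : (eich Q d' w).1 y = y + w - Q w • d' := by
      rw [eich_apply Q hQd' hd'w, hy_eq]
      simp [QuadraticMap.polar_add_left, QuadraticMap.polar_smul_left, hxd', hxw, hdd', hdw]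
    rw [smul_singMk] at h
    have h4 := hperp y _ hy (qAut_ne_zero Q _ hy) hQy ((qAut_map _ y).trans hQy) (by rwa [orb_eq M hr])
    rw [hgy, hy_eq] at h4
    simp [QuadraticMap.polar_add_left, QuadraticMap.polar_add_right, QuadraticMap.polar_smul_left,
      QuadraticMap.polar_smul_right, QuadraticMap.polar_comm Q d' x, hxd', QuadraticMap.polar_comm Q d' d, hdd',
      QuadraticMap.polar_comm Q w x, hxw, QuadraticMap.polar_comm Q w d, hdw, QuadraticMap.polar_comm Q d x, hxd,
      hxx, quad_polar_self, hQd, hQx] at h4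
    exact hQw h4

omit [Fintype F] in
/-- An isometry fixing all singular points is a scalar. -/
lemma exists_scalar_of_fix_three [Fintype F] (h2 : (2 : F) ≠ 0) (hQ : PolarNondeg Q) (hn : 3 ≤ Module.finrank F V)
    {g : qAut Q} (hg : ∀ p : SingPts Q, g • p = p) : ∃ c : F, ∀ x, g.1 x = c • x := by
  have hl : ∀ {v : V}, v ≠ 0 → Q v = 0 → ∃ c : F, g.1 v = c • v := fun {v} hv h => by
    have h1 := hg (singMk Q hv h)
    rw [smul_singMk, singMk_eq_iff] at h1
    obtain ⟨c, hc⟩ := h1
    exact ⟨c, hc.symm⟩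
  obtain ⟨u, hu0, hu⟩ := exists_singular Q hQ hn
  obtain ⟨z, -, hz, huz⟩ := exists_partner Q (ndOn_top hQ) (Submodule.mem_top (x := u)) hu0 hu
  have hz0 : z ≠ 0 := by rintro rfl; simp at huz
  obtain ⟨α, hα⟩ := hl hu0 hu
  obtain ⟨β, hβ⟩ := hl hz0 hz
  have hαβ : α * β = 1 := by
    have h := qAut_polar g u z
    rwa [hα, hβ, QuadraticMap.polar_smul_left, QuadraticMap.polar_smul_right, huz, smul_eq_mul, smul_eq_mul,
      mul_one] at h
  have hperp : ∀ w, QuadraticMap.polar Q u w = 0 → QuadraticMap.polar Q z w = 0 →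
      g.1 w = β • w ∧ Q w * (β - α) = 0 := by
    intro w huw hzw
    have hs : Q (z + w + (-Q w) • u) = 0 := by
      simp [quad_add, quad_smul, hu, hz, QuadraticMap.polar_add_left, QuadraticMap.polar_smul_right,
        QuadraticMap.polar_comm Q z u, huz, hzw, QuadraticMap.polar_comm Q w u, huw]
    have hne : z + w + (-Q w) • u ≠ 0 := fun h => by
      have h' := congrArg (QuadraticMap.polar Q u) h
      simp [QuadraticMap.polar_add_right, QuadraticMap.polar_smul_right, huz, huw, quad_polar_self, hu] at h'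
    obtain ⟨γ, hγ⟩ := hl hne hs
    rw [map_add, map_add, map_smul, hα, hβ] at hγ
    have e1 : QuadraticMap.polar Q u (g.1 w) = 0 := by
      have h := qAut_polar g u w
      rw [hα, QuadraticMap.polar_smul_left, huw, smul_eq_mul] at h
      exact (mul_eq_zero.1 h).resolve_left (left_ne_zero_of_mul_eq_one hαβ)
    have e2 : QuadraticMap.polar Q z (g.1 w) = 0 := by
      have h := qAut_polar g z w
      rw [hβ, QuadraticMap.polar_smul_left, hzw, smul_eq_mul] at h
      exact (mul_eq_zero.1 h).resolve_left (right_ne_zero_of_mul_eq_one hαβ)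
    have hu1 := congrArg (QuadraticMap.polar Q u) hγ
    have hz1 := congrArg (QuadraticMap.polar Q z) hγ
    simp [QuadraticMap.polar_add_right, QuadraticMap.polar_smul_right, huz, huw, quad_polar_self, hu, hz, hzw,
      e1, e2, QuadraticMap.polar_comm Q z u] at hu1 hz1
    subst hu1
    exact ⟨by linear_combination (norm := module) hγ + congrArg (· • u) (show Q w * α - β * Q w = 0 by
      linear_combination hz1), by linear_combination -hz1⟩
  obtain ⟨w, ⟨⟨-, huw⟩, hzw⟩, hw⟩ := exists_aniso_in Q (ndOn_pairPerp Q (ndOn_top hQ) trivial trivial hu hz huz) (by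
    intro hbot
    have h1 := finrank_pairPerp Q (u := u) (z := z)
    have h3 : LinearMap.ker ((QuadraticMap.polarBilin Q u).prod (QuadraticMap.polarBilin Q z)) = ⊥ := by
      rw [eq_bot_iff]
      intro a ha
      rw [LinearMap.mem_ker, LinearMap.prod_apply, Prod.mk_eq_zero] at ha
      rw [← hbot]
      exact ⟨⟨trivial, LinearMap.mem_ker.2 ha.1⟩, LinearMap.mem_ker.2 ha.2⟩
    rw [h3, finrank_bot] at h1
    omega)
  simp only [SetLike.mem_coe, LinearMap.mem_ker, QuadraticMap.polarBilin_apply_apply] at huw hzw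
  have hab : β = α := sub_eq_zero.1 ((mul_eq_zero.1 (hperp w huw hzw).2).resolve_left hw)
  refine ⟨α, fun x => ?_⟩
  obtain ⟨h1, h2⟩ := proj_pair Q hu hz huz x
  set y := x - QuadraticMap.polar Q x z • u - QuadraticMap.polar Q x u • z with hy
  have hgy := (hperp y (by rw [QuadraticMap.polar_comm, h1]) (by rw [QuadraticMap.polar_comm, h2])).1
  rw [show x = y + QuadraticMap.polar Q x z • u + QuadraticMap.polar Q x u • z by rw [hy]; abel, map_add,
    map_add, map_smul, map_smul, hgy, hα, hβ, hab]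
  module

include hM h2 hQ in
/-- Elements of odd exponent modulo scalars in a subgroup normalised by the Eichler transformations are scalars. -/
theorem exists_scalar (hn : 3 ≤ Module.finrank F V) (hN : Odd N) (hpow : ∀ m ∈ M, ∃ c : F, ∀ x, (m ^ N).1 x = c • x)
    {m : qAut Q} (hm : m ∈ M) : ∃ c : F, ∀ x, m.1 x = c • x := by
  refine exists_scalar_of_fix_three h2 hQ hn fun p => ?_
  refine orb_subsingleton M hM h2 hQ hN (fun k hk r => ?_) p _ ⟨m, hm, rfl⟩
  obtain ⟨c, hc⟩ := hpow k hk
  obtain ⟨v, hv, hQv, rfl⟩ := exists_singMk Q r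
  exact smul_singMk_eq Q hv hQv hv hQv c (hc v)

section Bridge

open Matrix CfsgLib.Forms

variable {ι : Type} [Fintype ι] [DecidableEq ι]

/-- Subgroups of odd exponent modulo scalars in an orthogonal group, normalised by the special orthogonal group,
consist of scalars. -/
theorem exists_scalar_isoBil (h2 : (2 : F) ≠ 0) {A : Matrix ι ι F} (hA : Aᵀ = A) (hd : A.det ≠ 0)
    (hn : 3 ≤ Fintype.card ι) (M : Subgroup (GL ι F)) (hMA : M ≤ isoBil A)
    (hnorm : ∀ g : GL ι F, g ∈ isoBil A → (g : Matrix ι ι F).det = 1 → ∀ m ∈ M, g * m * g⁻¹ ∈ M)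
    {N : ℕ} (hN : Odd N) (hpow : ∀ m ∈ M, ∃ c : F, ((m ^ N : GL ι F) : Matrix ι ι F) = c • 1)
    {m : GL ι F} (hm : m ∈ M) : ∃ c : F, (m : Matrix ι ι F) = c • 1 := by
  let Q : QuadraticForm F (ι → F) := LinearMap.BilinMap.toQuadraticMap (Matrix.toLinearMap₂' F A)
  have hQ : ∀ v, Q v = v ⬝ᵥ (A *ᵥ v) := fun v => Matrix.toLinearMap₂'_apply' A v v
  have hpol : ∀ u v, QuadraticMap.polar Q u v = 2 * (u ⬝ᵥ (A *ᵥ v)) := fun u v => by
    simp only [QuadraticMap.polar, hQ, mulVec_add, dotProduct_add, add_dotProduct]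
    rw [show v ⬝ᵥ (A *ᵥ u) = u ⬝ᵥ (A *ᵥ v) by
      rw [dotProduct_mulVec, ← mulVec_transpose, hA, dotProduct_comm]]
    ring
  have hnd : PolarNondeg Q := by
    intro v hv
    have h1 : A *ᵥ v = 0 := by
      funext i
      have := hv (Pi.single i 1)
      rw [QuadraticMap.polar_comm, hpol, single_one_dotProduct] at this
      exact (mul_eq_zero.1 this).resolve_left h2
    by_contra hv0
    exact hd (Matrix.exists_mulVec_eq_zero_iff.1 ⟨v, hv0, h1⟩)
  have hmat : ∀ g : qAut Q, ∃ k : GL ι F, k ∈ isoBil A ∧ ∀ x, g.1 x = (k : Matrix ι ι F) *ᵥ x := by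
    intro g
    let k : GL ι F := ⟨LinearMap.toMatrix' g.1.toLinearMap, LinearMap.toMatrix' g.1.symm.toLinearMap,
      by rw [← LinearMap.toMatrix'_comp]; simp, by rw [← LinearMap.toMatrix'_comp]; simp⟩
    have hk : ∀ x, g.1 x = (k : Matrix ι ι F) *ᵥ x := fun x => (LinearMap.toMatrix'_mulVec _ x).symm
    refine ⟨k, ?_, hk⟩
    rw [mem_isoBil, ← form_eq_iff]
    intro u v
    rw [← mulVec_form, ← hk, ← hk]
    have h := qAut_polar g u v
    rw [hpol, hpol] at h
    exact mul_left_cancel₀ h2 h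
  have hsq : ∀ k : GL ι F, k ∈ isoBil A → (k : Matrix ι ι F).det * (k : Matrix ι ι F).det = 1 := fun k hk => by
    have h := congrArg Matrix.det (mem_isoBil.1 hk)
    rw [det_mul, det_mul, det_transpose] at h
    exact mul_right_cancel₀ hd (by linear_combination h)
  have hinj : ∀ k k' : GL ι F, (∀ x, (k : Matrix ι ι F) *ᵥ x = (k' : Matrix ι ι F) *ᵥ x) → k = k' := fun k k' h =>
    Units.ext (Matrix.ext_of_mulVec_single fun i => h _)
  let M' : Subgroup (qAut Q) :=
    { carrier := {g | ∃ k ∈ M, ∀ x, g.1 x = (k : Matrix ι ι F) *ᵥ x}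
      one_mem' := ⟨1, M.one_mem, fun x => by rw [Units.val_one, one_mulVec]; rfl⟩
      mul_mem' := fun {a b} ⟨k, hk, e⟩ ⟨l, hl, f⟩ => ⟨k * l, M.mul_mem hk hl, fun x => by
        rw [qAut_mul_apply, f, e, Units.val_mul, mulVec_mulVec]⟩
      inv_mem' := fun {a} ⟨k, hk, e⟩ => ⟨k⁻¹, M.inv_mem hk, fun x => a.1.injective (by
        rw [e ((↑k⁻¹ : Matrix ι ι F) *ᵥ x), mulVec_mulVec, Units.mul_inv, one_mulVec]
        exact a.1.apply_symm_apply x)⟩ }
  have hM' : ∀ u w, Q u = 0 → QuadraticMap.polar Q u w = 0 → ∀ g ∈ M', eich Q u w * g * (eich Q u w)⁻¹ ∈ M' := by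
    rintro u w hu hw g ⟨k, hk, e⟩
    set w' := (2 : F)⁻¹ • w
    have hw' : QuadraticMap.polar Q u w' = 0 := by rw [QuadraticMap.polar_smul_right, hw, smul_zero]
    have hhalf : eich Q u w = eich Q u w' * eich Q u w' := by
      rw [eich_mul Q hu hw' hw', ← add_smul]
      congr 1
      rw [show (2 : F)⁻¹ + 2⁻¹ = 1 by field_simp; ring, one_smul]
    obtain ⟨a, ha, ea⟩ := hmat (eich Q u w')
    have hdet : ((a * a : GL ι F) : Matrix ι ι F).det = 1 := by rw [Units.val_mul, det_mul, hsq a ha]
    refine ⟨a * a * k * (a * a)⁻¹, hnorm _ ((isoBil A).mul_mem ha ha) hdet k hk, fun x => ?_⟩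
    have einv : ∀ y, ((eich Q u w)⁻¹).1 y = (((a * a)⁻¹ : GL ι F) : Matrix ι ι F) *ᵥ y := fun y => by
      refine (eich Q u w).1.injective ?_
      rw [← qAut_mul_apply, mul_inv_cancel, hhalf, qAut_mul_apply, ea, ea, mulVec_mulVec, mulVec_mulVec,
        ← Units.val_mul, ← Units.val_mul, mul_assoc, ← mul_assoc a a, mul_inv_cancel, Units.val_one, one_mulVec]
      rfl
    rw [qAut_mul_apply, qAut_mul_apply, einv, e, hhalf, qAut_mul_apply, ea, ea]
    simp only [Units.val_mul, mulVec_mulVec, Matrix.mul_assoc]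
  have hpow' : ∀ g ∈ M', ∃ c : F, ∀ x, (g ^ N).1 x = c • x := by
    rintro g ⟨k, hk, e⟩
    obtain ⟨c, hc⟩ := hpow k hk
    have key : ∀ j, ∀ x, (g ^ j).1 x = ((k ^ j : GL ι F) : Matrix ι ι F) *ᵥ x := by
      intro j
      induction j with
      | zero => intro x; rw [pow_zero, pow_zero, Units.val_one, one_mulVec]; rfl
      | succ j ih => intro x; rw [pow_succ, pow_succ, qAut_mul_apply, e, ih, Units.val_mul, mulVec_mulVec]
    exact ⟨c, fun x => by rw [key, hc, smul_mulVec, one_mulVec]⟩
  let g₀ : qAut Q := ⟨LinearEquiv.ofLinearMap (m : Matrix ι ι F).mulVecLin ((m⁻¹ : GL ι F) : Matrix ι ι F).mulVecLin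
      (LinearMap.ext fun x => by
        rw [LinearMap.comp_apply, mulVecLin_apply, mulVecLin_apply, mulVec_mulVec, Units.mul_inv, one_mulVec]; rfl)
      (LinearMap.ext fun x => by
        rw [LinearMap.comp_apply, mulVecLin_apply, mulVecLin_apply, mulVec_mulVec, Units.inv_mul, one_mulVec]; rfl),
    fun v => by
      show Q ((m : Matrix ι ι F) *ᵥ v) = Q v
      rw [hQ, hQ, form_of_mem_isoBil (hMA hm)]⟩
  obtain ⟨c, hc⟩ := exists_scalar M' hM' h2 hnd (by rw [Module.finrank_fintype_fun_eq_card]; exact hn) hN hpow'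
    (show g₀ ∈ M' from ⟨m, hm, fun x => rfl⟩)
  refine ⟨c, Matrix.ext_of_mulVec_single fun i => ?_⟩
  rw [smul_mulVec, one_mulVec]
  exact hc _

end Bridge

end CfsgLib.OddNormal
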