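/-
Semilinear maps commuting with Eichler transformations or symplectic transvections are scalar.
-/
import Cfsg.Agent.Lib.KnownSimple.OddNormal

set_option autoImplicit false

namespace CfsgLib.SemiCommute

open Matrix CfsgLib.Classical

section Orth

variable {F V : Type*} [Field F] [Fintype F] [AddCommGroup V] [Module F V] [FiniteDimensional F V]
  {Q : QuadraticForm F V}

/-- A semilinear map commuting with all Eichler transformations is a scalar. -/
theorem scalar_of_commute_eich'  (h2 : (2 : F) ≠ 0) (hQ : PolarNondeg Q) (hn : 3 ≤ Module.finrank F V)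
    (τ : F ≃+* F) (T : V → V) (hadd : ∀ a b, T (a + b) = T a + T b) (hsmul : ∀ (t : F) a, T (t • a) = τ t • T a)
    (hcomm : ∀ u w, Q u = 0 → QuadraticMap.polar Q u w = 0 → ∀ x, T ((eich Q u w).1 x) = (eich Q u w).1 (T x)) :
    ∃ α : F, (∀ x, T x = α • x) ∧ (α ≠ 0 → τ = RingEquiv.refl F) := by
  have hsub : ∀ a b, T (a - b) = T a - T b := fun a b => by
    rw [eq_sub_iff_add_eq, ← hadd, sub_add_cancel]
  obtain ⟨u, hu0, hu⟩ := exists_singular Q hQ hn
  obtain ⟨z, -, hz, huz⟩ := exists_partner Q (OddNormal.ndOn_top hQ) (Submodule.mem_top (x := u)) hu0 hu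
  have hzu : QuadraticMap.polar Q z u = 1 := by rw [QuadraticMap.polar_comm, huz]
  have hz0 : z ≠ 0 := by rintro rfl; simp at huz
  obtain ⟨w, ⟨⟨-, huw⟩, hzw⟩, hw⟩ := exists_aniso_in Q
    (ndOn_pairPerp Q (OddNormal.ndOn_top hQ) trivial trivial hu hz huz) (by
    intro hbot
    have h1 := finrank_pairPerp Q (u := u) (z := z)
    have h3 : LinearMap.ker ((QuadraticMap.polarBilin Q u).prod (QuadraticMap.polarBilin Q z)) = ⊥ := by
      rw [eq_bot_iff]
      intro a ha
      rw [LinearMap.mem_ker, LinearMap.prod_apply, Prod.mk_eq_zero] at ha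
      rw [← hbot]
      exact ⟨⟨trivial, LinearMap.mem_ker.2 ha.1⟩, LinearMap.mem_ker.2 ha.2⟩
    rw [h3, finrank_bot] at h1
    omega)
  simp only [SetLike.mem_coe, LinearMap.mem_ker, QuadraticMap.polarBilin_apply_apply] at huw hzw
  have hline : ∀ (a b : V), Q a = 0 → Q b = 0 → QuadraticMap.polar Q a b = 1 → QuadraticMap.polar Q a w = 0 →
      QuadraticMap.polar Q b w = 0 → ∃ α : F, T a = α • a := by
    intro a b ha hb hab haw hbw
    have hba : QuadraticMap.polar Q b a = 1 := by rw [QuadraticMap.polar_comm, hab]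
    have e1 : (eich Q a w).1 b = b + w - Q w • a := by
      rw [eich_apply Q ha haw, hba, hbw]; simp
    have e2 : (eich Q a w).1 w = w - (2 * Q w) • a := by
      rw [eich_apply Q ha haw, quad_polar_self, QuadraticMap.polar_comm Q w a, haw]; simp
    set E := (eich Q a w).1
    have key : ∀ x, E (E x) - E x - E x + x = -(2 * Q w * QuadraticMap.polar Q x a) • a := by
      intro x
      have hE : E x = x + QuadraticMap.polar Q x a • w - (QuadraticMap.polar Q x w + Q w * QuadraticMap.polar Q x a) • a :=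
        eich_apply Q ha haw x
      conv_lhs => rw [hE]
      rw [map_sub, map_add, map_smul, map_smul, e2, show E a = a from eich_fix Q ha haw, hE]
      module
    refine ⟨(τ (-(2 * Q w)))⁻¹ * -(2 * Q w * QuadraticMap.polar Q (T b) a), ?_⟩
    have h1 := congrArg T (key b)
    rw [hba, mul_one, hsmul, hadd, hsub, hsub, hcomm a w ha haw, hcomm a w ha haw, key] at h1
    rw [mul_smul, h1, smul_smul, inv_mul_cancel₀ (by simp [h2, hw]), one_smul]
  obtain ⟨α, hα⟩ := hline u z hu hz huz huw hzw
  obtain ⟨β, hβ⟩ := hline z u hz hu hzu hzw huw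
  have hperp : ∀ d, QuadraticMap.polar Q u d = 0 → QuadraticMap.polar Q z d = 0 →
      T d = β • d + (τ (Q d) * α - β * Q d) • u ∧ T d = α • d + (τ (Q d) * β - α * Q d) • z := by
    intro d hud hzd
    constructor
    · have h := hcomm u d hu hud z
      rw [hβ, map_smul, eich_apply Q hu hud, hzu, hzd, hsub, hadd, hsmul, hsmul, hα, hβ] at h
      simp only [map_one, one_smul, zero_add, mul_one] at h
      linear_combination (norm := module) h
    · have h := hcomm z d hz hzd u
      rw [hα, map_smul, eich_apply Q hz hzd, huz, hud, hsub, hadd, hsmul, hsmul, hα, hβ] at h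
      simp only [map_one, one_smul, zero_add, mul_one] at h
      linear_combination (norm := module) h
  have hd : ∀ d, QuadraticMap.polar Q u d = 0 → QuadraticMap.polar Q z d = 0 → T d = α • d := by
    intro d hud hzd
    obtain ⟨h1, h3⟩ := hperp d hud hzd
    have h4 := congrArg (QuadraticMap.polar Q u) (h1.symm.trans h3)
    simp [QuadraticMap.polar_smul_right, QuadraticMap.polar_add_right, hud, huz, quad_polar_self, hu] at h4
    rw [h3, ← h4, zero_smul, add_zero]
  have hab : β = α := by
    obtain ⟨h1, -⟩ := hperp w huw hzw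
    rw [hd w huw hzw] at h1
    have h4 := congrArg (QuadraticMap.polar Q w) h1
    simp [QuadraticMap.polar_smul_right, QuadraticMap.polar_add_right, quad_polar_self, QuadraticMap.polar_comm Q w u,
      huw, h2, hw] at h4
    exact h4.symm
  have hτ : ∀ t, τ t * α = t * α := by
    intro t
    have h1 := hd (t • w) (by rw [QuadraticMap.polar_smul_right, huw, smul_zero])
      (by rw [QuadraticMap.polar_smul_right, hzw, smul_zero])
    rw [hsmul, hd w huw hzw] at h1
    have h4 := congrArg (QuadraticMap.polar Q w) h1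
    simp only [QuadraticMap.polar_smul_right, quad_polar_self, smul_eq_mul] at h4
    exact mul_right_cancel₀ (mul_ne_zero h2 hw) (by linear_combination h4)
  refine ⟨α, fun x => ?_, fun hα0 => RingEquiv.ext fun t => mul_right_cancel₀ hα0 (hτ t)⟩
  obtain ⟨h1, h3⟩ := proj_pair Q hu hz huz x
  set y := x - QuadraticMap.polar Q x z • u - QuadraticMap.polar Q x u • z with hy
  rw [show x = y + QuadraticMap.polar Q x z • u + QuadraticMap.polar Q x u • z by rw [hy]; abel, hadd, hadd, hsmul,
    hsmul, hd y (by rw [QuadraticMap.polar_comm, h1]) (by rw [QuadraticMap.polar_comm, h3]), hα, hβ, hab, smul_smul,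
    smul_smul, hτ, hτ]
  module

/-- A semilinear injection commuting with all Eichler transformations is a scalar. -/
theorem scalar_of_commute_eich (h2 : (2 : F) ≠ 0) (hQ : PolarNondeg Q) (hn : 3 ≤ Module.finrank F V)
    (τ : F ≃+* F) (T : V → V) (hadd : ∀ a b, T (a + b) = T a + T b) (hsmul : ∀ (t : F) a, T (t • a) = τ t • T a)
    (hinj : Function.Injective T)
    (hcomm : ∀ u w, Q u = 0 → QuadraticMap.polar Q u w = 0 → ∀ x, T ((eich Q u w).1 x) = (eich Q u w).1 (T x)) :
    τ = RingEquiv.refl F ∧ ∃ α : F, ∀ x, T x = α • x := by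
  obtain ⟨α, hα, hτ⟩ := scalar_of_commute_eich' h2 hQ hn τ T hadd hsmul hcomm
  haveI : Nontrivial V := Module.nontrivial_of_finrank_pos (R := F) (by omega)
  obtain ⟨x, hx⟩ := exists_ne (0 : V)
  exact ⟨hτ fun h0 => hx (hinj (by simp [hα, h0])), α, hα⟩

end Orth

section Alt

variable {F : Type*} [Field F] {ι : Type*} [Fintype ι] [DecidableEq ι]

/-- The transvection of an alternating form. -/
def altT (A : Matrix ι ι F) (v : ι → F) (c : F) : Matrix ι ι F := 1 + vecMulVec (c • v) (A *ᵥ v)

lemma altT_mulVec (A : Matrix ι ι F) (v : ι → F) (c : F) (x : ι → F) :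
    altT A v c *ᵥ x = x + (c * (x ⬝ᵥ (A *ᵥ v))) • v := by
  rw [altT, add_mulVec, one_mulVec, vecMulVec_mulVec, dotProduct_comm]
  simp [smul_smul, mul_comm]

lemma det_altT {A : Matrix ι ι F} (hA : ∀ v, v ⬝ᵥ (A *ᵥ v) = 0) (v : ι → F) (c : F) : (altT A v c).det = 1 := by
  rw [altT, vecMulVec_eq Unit, det_one_add_replicateCol_mul_replicateRow, dotProduct_comm, smul_dotProduct, hA,
    smul_zero, add_zero]

lemma altT_form {A : Matrix ι ι F} (hA : ∀ v, v ⬝ᵥ (A *ᵥ v) = 0) (v : ι → F) (c : F) (x y : ι → F) :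
    (altT A v c *ᵥ x) ⬝ᵥ (A *ᵥ (altT A v c *ᵥ y)) = x ⬝ᵥ (A *ᵥ y) := by
  have hs : ∀ a b, b ⬝ᵥ (A *ᵥ a) = -(a ⬝ᵥ (A *ᵥ b)) := fun a b => by
    have := hA (a + b)
    rw [mulVec_add, dotProduct_add, add_dotProduct, add_dotProduct, hA, hA] at this
    linear_combination this
  rw [altT_mulVec, altT_mulVec, mulVec_add, mulVec_smul, dotProduct_add, add_dotProduct, add_dotProduct,
    dotProduct_smul, dotProduct_smul, smul_dotProduct, smul_dotProduct, hA, hs y v]
  simp only [smul_eq_mul, mul_zero, add_zero]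
  ring

/-- A semilinear injection commuting with all transvections is a scalar. -/
theorem scalar_of_commute_altT'  {A : Matrix ι ι F} (hd : A.det ≠ 0) (hn : 2 ≤ Fintype.card ι)
    (τ : F ≃+* F) (T : (ι → F) → ι → F) (hadd : ∀ a b, T (a + b) = T a + T b)
    (hsmul : ∀ (t : F) a, T (t • a) = τ t • T a)
    (hcomm : ∀ v x, T (altT A v 1 *ᵥ x) = altT A v 1 *ᵥ T x) :
    ∃ α : F, (∀ x, T x = α • x) ∧ (α ≠ 0 → τ = RingEquiv.refl F) := by
  have hT0 : T 0 = 0 := by simpa using hsmul 0 0
  have hex : ∀ v : ι → F, v ≠ 0 → ∃ x, x ⬝ᵥ (A *ᵥ v) = 1 := by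
    intro v hv
    obtain ⟨i, hi⟩ := Function.ne_iff.1 (show A *ᵥ v ≠ 0 from fun h =>
      hd (Matrix.exists_mulVec_eq_zero_iff.1 ⟨v, hv, h⟩))
    exact ⟨Pi.single i ((A *ᵥ v) i)⁻¹, by rw [single_dotProduct, inv_mul_cancel₀ hi]⟩
  have hline : ∀ v, ∃ a : F, T v = a • v := by
    intro v
    rcases eq_or_ne v 0 with rfl | hv
    · exact ⟨0, by simp [hT0]⟩
    obtain ⟨x, hx⟩ := hex v hv
    have h := hcomm v x
    rw [altT_mulVec, altT_mulVec, hx, one_mul, one_mul, hadd, hsmul, map_one, one_smul, add_right_inj] at h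
    exact ⟨_, h⟩
  choose a ha using hline
  have hli : ∀ {v v' : ι → F}, LinearIndependent F ![v, v'] → a v = a v' := by
    intro v v' h
    have h1 := ha (v + v')
    rw [hadd, ha, ha] at h1
    have h3 := LinearIndependent.pair_iff.1 h (a v - a (v + v')) (a v' - a (v + v'))
      (by linear_combination (norm := module) h1)
    rw [sub_eq_zero.1 h3.1, sub_eq_zero.1 h3.2]
  obtain ⟨i, j, hij⟩ := Fintype.exists_pair_of_one_lt_card (α := ι) (by omega)
  have hall : ∀ v, v ≠ 0 → a v = a (Pi.single i 1) := by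
    intro v hv
    by_cases h1 : LinearIndependent F ![v, Pi.single i (1 : F)]
    · exact hli h1
    have hv' : LinearIndependent F ![v, Pi.single j (1 : F)] := by
      rw [LinearIndependent.pair_iff' hv]
      rw [LinearIndependent.pair_iff' hv] at h1
      push Not at h1
      obtain ⟨c, hc⟩ := h1
      intro d hd'
      have e1 := congrFun hc i
      have e2 := congrFun hd' i
      simp [hij] at e1 e2
      rcases e2 with rfl | e2
      · simpa using congrFun hd' j
      · rw [e2, mul_zero] at e1; exact zero_ne_one e1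
    refine (hli hv').trans (hli ?_)
    rw [LinearIndependent.pair_iff' (by simp)]
    intro c hc
    simpa [hij] using congrFun hc i
  refine ⟨a (Pi.single i 1), fun x => ?_, fun ha0 => RingEquiv.ext fun t => ?_⟩
  rotate_left
  · rcases eq_or_ne t 0 with rfl | ht
    · exact map_zero _
    have h1 := ha (t • Pi.single i 1)
    rw [hsmul, ha, hall _ (smul_ne_zero ht (by simp))] at h1
    have h3 := congrFun h1 i
    simp at h3
    exact mul_left_cancel₀ ha0 ((mul_comm _ _).trans h3)
  · rcases eq_or_ne x 0 with rfl | hx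
    · simp [hT0]
    · rw [ha, hall x hx]

/-- A semilinear injection commuting with all symplectic transvections is a scalar. -/
theorem scalar_of_commute_altT {A : Matrix ι ι F} (hd : A.det ≠ 0) (hn : 2 ≤ Fintype.card ι)
    (τ : F ≃+* F) (T : (ι → F) → ι → F) (hadd : ∀ a b, T (a + b) = T a + T b)
    (hsmul : ∀ (t : F) a, T (t • a) = τ t • T a) (hinj : Function.Injective T)
    (hcomm : ∀ v x, T (altT A v 1 *ᵥ x) = altT A v 1 *ᵥ T x) :
    τ = RingEquiv.refl F ∧ ∃ α : F, ∀ x, T x = α • x := by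
  obtain ⟨α, hα, hτ⟩ := scalar_of_commute_altT' hd hn τ T hadd hsmul hcomm
  haveI : Nonempty ι := Fintype.card_pos_iff.1 (by omega)
  obtain ⟨i⟩ := ‹Nonempty ι›
  exact ⟨hτ fun h0 => absurd (hinj (show T (Pi.single i 1) = T 0 by simp [hα, h0])) (by simp), α, hα⟩

end Alt

end CfsgLib.SemiCommute
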