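/-
Isometry subgroups of odd exponent modulo scalars, normalised by symplectic transvections, are scalar.
-/
import Cfsg.Agent.Lib.KnownSimple.SemiCommute
import Cfsg.Agent.Lib.KnownSimple.PSLAut.Classification

set_option autoImplicit false

namespace CfsgLib.OddNormalAlt

open Matrix CfsgLib.SemiCommute
open scoped LinearAlgebra.Projectivization

variable {F : Type*} [Field F] [Fintype F] {n : ℕ}

local notation "SLn" => Matrix.SpecialLinearGroup (Fin n) F
local notation "Pn" => ℙ F (Fin n → F)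

omit [Fintype F] in
lemma sl_smul_mk (s : SLn) (v : Fin n → F) (hv : v ≠ 0) :
    ∃ h, s • Projectivization.mk F v hv = Projectivization.mk F ((s : Matrix (Fin n) (Fin n) F) *ᵥ v) h :=
  ⟨_, rfl⟩

omit [Fintype F] in
lemma even_of_alt (h2 : (2 : F) ≠ 0) {A : Matrix (Fin n) (Fin n) F} (hA : ∀ v, v ⬝ᵥ (A *ᵥ v) = 0) (hd : A.det ≠ 0) :
    Even n := by
  have ht : Aᵀ = -A := by
    ext i j
    have h := hA (Pi.single i 1 + Pi.single j 1)
    rw [mulVec_add, dotProduct_add, add_dotProduct, add_dotProduct, hA, hA] at h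
    simp [mulVec_single_one, single_one_dotProduct] at h
    simp only [transpose_apply, Matrix.neg_apply]
    linear_combination h
  by_contra hn
  have h1 : A.det = -A.det := by
    conv_lhs => rw [← det_transpose, ht, det_neg, Fintype.card_fin, (Nat.not_even_iff_odd.1 hn).neg_one_pow]
    ring
  exact hd ((mul_eq_zero.1 (show (2 : F) * A.det = 0 by linear_combination h1)).resolve_left h2)

lemma even_card_points (h2 : (2 : F) ≠ 0) (hn : Even n) (hn0 : 0 < n) : Even (Nat.card Pn) := by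
  have h := Projectivization.card F (Fin n → F)
  obtain ⟨m, hm⟩ := hn
  rw [Nat.card_fun, Nat.card_eq_fintype_card (α := F), Nat.card_eq_fintype_card (α := Fin n), Fintype.card_fin] at h
  set q := Fintype.card F with hq
  have hq1 : 1 < q := Fintype.one_lt_card
  have hpow : q ^ n = (q ^ 2) ^ m := by rw [hm, ← two_mul, pow_mul]
  have hdvd : (q + 1) * (q - 1) ∣ Nat.card (ℙ F (Fin n → F)) * (q - 1) := by
    rw [← h, hpow, show (q + 1) * (q - 1) = q ^ 2 - 1 ^ 2 from (Nat.sq_sub_sq q 1).symm, one_pow]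
    have := Nat.sub_dvd_pow_sub_pow (q ^ 2) 1 m
    rwa [one_pow] at this
  have h3 := Nat.dvd_of_mul_dvd_mul_right (by omega) hdvd
  exact (even_iff_two_dvd.2 ((even_iff_two_dvd.1 (CfsgLib.Classical.odd_card_of_two_ne_zero h2).add_one).trans h3))

variable {A : Matrix (Fin n) (Fin n) F}

/-- A transvection in `SL`. -/
def altSL (hA : ∀ v, v ⬝ᵥ (A *ᵥ v) = 0) (v : Fin n → F) (c : F) : SLn := ⟨altT A v c, det_altT hA v c⟩

/-- Subgroups of odd exponent modulo scalars normalised by the transvections of an alternating form are scalar. -/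
theorem exists_scalar_alt (h2 : (2 : F) ≠ 0) (hA : ∀ v, v ⬝ᵥ (A *ᵥ v) = 0) (hd : A.det ≠ 0) (hn0 : 0 < n)
    (M : Subgroup SLn) (hnorm : ∀ v c, ∀ m ∈ M, altSL hA v c * m * (altSL hA v c)⁻¹ ∈ M) {N : ℕ} (hN : Odd N)
    (hpow : ∀ m ∈ M, ∃ c : F, ((m ^ N : SLn) : Matrix (Fin n) (Fin n) F) = c • 1)
    {m : SLn} (hm : m ∈ M) : ∃ c : F, (m : Matrix (Fin n) (Fin n) F) = c • 1 := by
  classical
  have hn := even_of_alt h2 hA hd
  set B : (Fin n → F) → (Fin n → F) → F := fun x y => x ⬝ᵥ (A *ᵥ y) with hB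
  have hswap : ∀ x y, B y x = -B x y := fun x y => by
    have := hA (x + y)
    rw [mulVec_add, dotProduct_add, add_dotProduct, add_dotProduct, hA, hA] at this
    simp only [hB]; linear_combination this
  have hex : ∀ v : Fin n → F, v ≠ 0 → ∃ x, B x v ≠ 0 := by
    intro v hv
    obtain ⟨i, hi⟩ := Function.ne_iff.1 (show A *ᵥ v ≠ 0 from fun h =>
      hd (Matrix.exists_mulVec_eq_zero_iff.1 ⟨v, hv, h⟩))
    exact ⟨Pi.single i 1, by simpa [hB] using hi⟩
  have hboth : ∀ a b : Fin n → F, a ≠ 0 → b ≠ 0 → ∃ x, B x a ≠ 0 ∧ B x b ≠ 0 := by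
    intro a b ha hb
    obtain ⟨x, hx⟩ := hex a ha
    obtain ⟨y, hy⟩ := hex b hb
    by_cases hxb : B x b = 0
    swap
    · exact ⟨x, hx, hxb⟩
    by_cases hya : B y a = 0
    swap
    · exact ⟨y, hya, hy⟩
    refine ⟨x + y, ?_, ?_⟩ <;> simp only [hB, add_dotProduct] at *
    · rwa [hya, add_zero]
    · rwa [hxb, zero_add]
  have htv : ∀ v c x, (altSL hA v c : Matrix (Fin n) (Fin n) F) *ᵥ x = x + (c * B x v) • v :=
    fun v c x => altT_mulVec A v c x
  -- orbits
  let orb : Pn → Set Pn := fun p => {r | ∃ k ∈ M, k • p = r}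
  have hself : ∀ p, p ∈ orb p := fun p => ⟨1, M.one_mem, one_smul _ p⟩
  have horb : ∀ {p r}, r ∈ orb p → orb r = orb p := by
    rintro p _ ⟨k, hk, rfl⟩
    ext s
    constructor
    · rintro ⟨l, hl, rfl⟩; exact ⟨l * k, M.mul_mem hl hk, mul_smul _ _ _⟩
    · rintro ⟨l, hl, rfl⟩; exact ⟨l * k⁻¹, M.mul_mem hl (M.inv_mem hk), by rw [mul_smul, inv_smul_smul]⟩
  have hmove : ∀ (x y y' : Fin n → F) (hx : x ≠ 0) (hy : y ≠ 0) (hy' : y' ≠ 0) (v : Fin n → F) (c : F),
      B x v = 0 → y + (c * B y v) • v = y' → Projectivization.mk F y hy ∈ orb (Projectivization.mk F x hx) →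
      Projectivization.mk F y' hy' ∈ orb (Projectivization.mk F x hx) := by
    intro x y y' hx hy hy' v c hxv e hyo
    obtain ⟨k, hk, hky⟩ := hyo
    obtain ⟨h1, e1⟩ := sl_smul_mk (altSL hA v c) x hx
    obtain ⟨h2', e2⟩ := sl_smul_mk (altSL hA v c) y hy
    refine ⟨altSL hA v c * k * (altSL hA v c)⁻¹, hnorm v c k hk, ?_⟩
    have hfx : altSL hA v c • Projectivization.mk F x hx = Projectivization.mk F x hx := by
      rw [e1, Projectivization.mk_eq_mk_iff']
      exact ⟨1, by rw [one_smul, htv, hxv, mul_zero, zero_smul, add_zero]⟩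
    rw [mul_smul, mul_smul]
    conv_lhs => arg 2; arg 2; rw [← hfx, inv_smul_smul]
    rw [hky, e2, Projectivization.mk_eq_mk_iff']
    exact ⟨1, by rw [one_smul, htv, e]⟩
  have hline : ∀ (x y : Fin n → F) (hx : x ≠ 0) (hy : y ≠ 0), B y x ≠ 0 →
      Projectivization.mk F y hy ∈ orb (Projectivization.mk F x hx) →
      ∀ (z : Fin n → F) (hz : z ≠ 0), B z x ≠ 0 → Projectivization.mk F z hz ∈ orb (Projectivization.mk F x hx) := by
    intro x y hx hy hyx hyo z hz hzx
    have key : ∀ (y₁ z₁ : Fin n → F) (h1 : y₁ ≠ 0) (h1' : z₁ ≠ 0), B y₁ x = B z₁ x → B y₁ z₁ ≠ 0 →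
        Projectivization.mk F y₁ h1 ∈ orb (Projectivization.mk F x hx) →
        Projectivization.mk F z₁ h1' ∈ orb (Projectivization.mk F x hx) := by
      intro y₁ z₁ h1 h1' heq hne hmem
      refine hmove x y₁ z₁ hx h1 h1' (z₁ - y₁) (B y₁ z₁)⁻¹ ?_ ?_ hmem
      · simp only [hB, mulVec_sub, dotProduct_sub]
        have e1 := hswap y₁ x; have e2 := hswap z₁ x
        simp only [hB] at e1 e2 heq
        rw [e1, e2, heq, sub_self]
      · have hv : B y₁ (z₁ - y₁) = B y₁ z₁ := by
          simp only [hB, mulVec_sub, dotProduct_sub, hA, sub_zero]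
        rw [hv, inv_mul_cancel₀ hne, one_smul, add_sub_cancel]
    set z' := (B y x / B z x) • z with hz'
    have hz'0 : z' ≠ 0 := smul_ne_zero (div_ne_zero hyx hzx) hz
    have heq : B z' x = B y x := by
      simp only [hB, hz', smul_dotProduct, smul_eq_mul] at *
      rw [div_mul_cancel₀ _ hzx]
    have hmk : Projectivization.mk F z' hz'0 = Projectivization.mk F z hz :=
      (Projectivization.mk_eq_mk_iff' F _ _ _ _).2 ⟨_, rfl⟩
    rw [← hmk]
    by_cases hyz : B y z' = 0
    swap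
    · exact key y z' hy hz'0 heq.symm hyz hyo
    have hy1 : y + x ≠ 0 := fun h0 => hyx (by
      simp only [hB, eq_neg_of_add_eq_zero_left h0, neg_dotProduct, hA, neg_zero])
    have hy1o := hmove x y (y + x) hx hy hy1 x (B y x)⁻¹ (hA x) (by rw [inv_mul_cancel₀ hyx, one_smul]) hyo
    refine key (y + x) z' hy1 hz'0 ?_ ?_ hy1o
    · rw [heq]; simp [hB, add_dotProduct, hA]
    · simp only [hB, add_dotProduct] at hyz ⊢
      rw [hyz, zero_add]
      have := hswap z' x; simp only [hB] at this heq hyx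
      rw [this, heq]; exact neg_ne_zero.2 hyx
  have hpw : ∀ k ∈ M, ∀ p : Pn, k ^ N • p = p := by
    intro k hk p
    induction p using Projectivization.ind with | _ v hv =>
    obtain ⟨h1, e1⟩ := sl_smul_mk (k ^ N) v hv
    obtain ⟨c, hc⟩ := hpow k hk
    rw [e1, Projectivization.mk_eq_mk_iff']
    exact ⟨c, by rw [hc, smul_mulVec, one_mulVec]⟩
  have hodd : ∀ p, Odd (Nat.card (orb p)) := by
    intro p
    haveI : Finite Pn := Finite.of_surjective (fun v : {v : Fin n → F // v ≠ 0} => Projectivization.mk F v.1 v.2)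
      fun r => ⟨⟨r.rep, r.rep_nonzero⟩, r.mk_rep⟩
    let φ : M →* Equiv.Perm Pn := (MulAction.toPermHom SLn Pn).comp M.subtype
    have he : orb p = MulAction.orbit φ.range p := by
      ext r
      constructor
      · rintro ⟨k, hk, rfl⟩; exact ⟨⟨φ ⟨k, hk⟩, ⟨_, rfl⟩⟩, rfl⟩
      · rintro ⟨⟨_, ⟨k, rfl⟩⟩, rfl⟩; exact ⟨k.1, k.2, rfl⟩
    rw [he]
    refine Odd.of_dvd_nat ?_ (show Nat.card (MulAction.orbit φ.range p) ∣ Nat.card φ.range from
      Dvd.intro _ (by rw [← Nat.card_congr (MulAction.orbitProdStabilizerEquivGroup φ.range p), Nat.card_prod]))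
    rw [← Nat.not_even_iff_odd, even_iff_two_dvd]
    intro h2'
    haveI : Fact (Nat.Prime 2) := ⟨Nat.prime_two⟩
    obtain ⟨⟨_, ⟨k, rfl⟩⟩, hk⟩ := exists_prime_orderOf_dvd_card' 2 h2'
    have h1 : (⟨φ k, ⟨k, rfl⟩⟩ : φ.range) ^ N = 1 := Subtype.ext (Equiv.ext fun r => by
      show (φ k ^ N) r = r
      rw [← map_pow]
      exact hpw k.1 k.2 r)
    have h3 := orderOf_dvd_of_pow_eq_one h1
    rw [hk] at h3
    exact Nat.not_even_iff_odd.2 hN (even_iff_two_dvd.2 h3)
  have hperp : ∀ (x y : Fin n → F) (hx : x ≠ 0) (hy : y ≠ 0),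
      Projectivization.mk F y hy ∈ orb (Projectivization.mk F x hx) → B y x = 0 := by
    intro x y hx hy hyo
    by_contra hyx
    have hall : ∀ r, r ∈ orb (Projectivization.mk F x hx) := by
      intro r
      induction r using Projectivization.ind with | _ z hz =>
      by_cases hzx : B z x = 0
      swap
      · exact hline x y hx hy hyx hyo z hz hzx
      obtain ⟨w, hwx, hwz⟩ := hboth x z hx hz
      have hw : w ≠ 0 := fun h0 => hwx (by simp [hB, h0])
      have h1 := hline x y hx hy hyx hyo w hw hwx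
      have h3 : Projectivization.mk F x hx ∈ orb (Projectivization.mk F w hw) := horb h1 ▸ hself _
      have h4 := hline w x hw hx (by rw [hswap w x]; exact neg_ne_zero.2 hwx) h3 z hz
        (by rw [hswap w z]; exact neg_ne_zero.2 hwz)
      rwa [horb h1] at h4
    have ho := hodd (Projectivization.mk F x hx)
    rw [Set.eq_univ_of_forall hall, Nat.card_congr (Equiv.Set.univ _)] at ho
    exact Nat.not_even_iff_odd.2 ho (even_card_points h2 hn hn0)
  have hsingle : ∀ v : Fin n → F, v ≠ 0 → ∃ a : F, (m : Matrix (Fin n) (Fin n) F) *ᵥ v = a • v := by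
    intro v hv
    obtain ⟨h1, e1⟩ := sl_smul_mk m v hv
    set y := (m : Matrix (Fin n) (Fin n) F) *ᵥ v
    have hyo : Projectivization.mk F y h1 ∈ orb (Projectivization.mk F v hv) := ⟨m, hm, e1⟩
    by_contra hne
    push Not at hne
    obtain ⟨w, hw1, hw2⟩ : ∃ w, B v w = 0 ∧ B y w ≠ 0 := by
      obtain ⟨a, ha⟩ := hex v hv
      obtain ⟨b, hb⟩ : ∃ b, B b (y - (B a y / B a v) • v) ≠ 0 := hex _ (sub_ne_zero.2 (hne _))
      refine ⟨b - (B b v / B a v) • a, ?_, ?_⟩
      · rw [hswap]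
        simp only [hB, sub_dotProduct, smul_dotProduct, smul_eq_mul] at *
        rw [div_mul_cancel₀ _ ha, sub_self, neg_zero]
      · rw [hswap]
        simp only [hB, sub_dotProduct, smul_dotProduct, smul_eq_mul, mulVec_sub, mulVec_smul, dotProduct_sub,
          dotProduct_smul] at *
        contrapose! hb
        field_simp at hb ⊢
        linear_combination -hb
    have hy' : y + (1 * B y w) • w ≠ 0 := by
      rw [← htv w 1 y, mulVec_mulVec]
      exact fun h0 => hv (Matrix.eq_zero_of_mulVec_eq_zero (by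
        rw [det_mul, (altSL hA w 1).2, m.2, mul_one]; exact one_ne_zero) h0)
    have h3 := hmove v y _ hv h1 hy' w 1 hw1 rfl hyo
    have h4 := hperp y _ h1 hy' (by rwa [horb hyo])
    rw [← sub_eq_zero] at h4
    simp only [hB, add_dotProduct, smul_dotProduct, smul_eq_mul, one_mul, hA, sub_zero, zero_add] at h4 hw2
    have := hswap y w; simp only [hB] at this
    rw [this, mul_neg, neg_eq_zero, mul_self_eq_zero] at h4
    exact hw2 h4
  have hline' : ∀ v : Fin n → F, ¬ LinearIndependent F ![v, (m : Matrix (Fin n) (Fin n) F).mulVecLin v] := by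
    intro v
    rcases eq_or_ne v 0 with rfl | hv
    · intro h'
      exact (h'.ne_zero 0) rfl
    · rw [LinearIndependent.pair_iff' hv]
      push Not
      obtain ⟨a, ha⟩ := hsingle v hv
      exact ⟨a, ha.symm⟩
  obtain ⟨a, ha⟩ := (m : Matrix (Fin n) (Fin n) F).mulVecLin.exists_eq_smul_id_of_forall_notLinearIndependent hline'
  refine ⟨a, Matrix.ext_of_mulVec_single fun i => ?_⟩
  have := LinearMap.congr_fun ha (Pi.single i 1)
  rw [smul_mulVec, one_mulVec]
  simpa using this

end CfsgLib.OddNormalAlt
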