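import Cfsg.Agent.Lib.SL2Table.SL2Classes
import Cfsg.Agent.Lib.Spectrum.PGL2
import Cfsg.Agent.Lib.Classical.SL2Klein

/-!
Conjugacy class sizes of `PSL(2, q)`, `q` odd.
-/

set_option autoImplicit false

open Matrix
open CfsgLib.SL2Table CfsgLib.Spectrum

namespace CfsgLib.KnownSimple.OddClassSizes

variable {F : Type*} [Field F] [Fintype F]

local notation "S" => Matrix.SpecialLinearGroup (Fin 2) F
local notation "P" => Matrix.ProjectiveSpecialLinearGroup (Fin 2) F

/-- The number of norm one pairs. -/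
noncomputable def cnt (t : F) : ℕ := Nat.card {p : F × F // p.1 * p.1 + t * p.1 * p.2 + p.2 * p.2 = 1}

theorem card_torus_square (h2 : (2 : F) ≠ 0) {ε : F} (hε : ε ≠ 0) (hs : IsSquare ε) :
    Nat.card (sl2Torus ε) + 1 = Fintype.card F := by
  obtain ⟨c, rfl⟩ := hs
  have hc : c ≠ 0 := fun e => hε (by simp [e])
  have h := card_sl2Torus h2 hε
  have h' : Nat.card {t : F // c * c * t * t = 1} = 2 := by
    rw [Nat.card_eq_two_iff]
    refine ⟨⟨c⁻¹, by field_simp⟩, ⟨-c⁻¹, by field_simp⟩, fun e => h2 ?_,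
      Set.eq_univ_iff_forall.2 fun ⟨x, hx⟩ => ?_⟩
    · have := congrArg Subtype.val e
      field_simp at this
      linear_combination this
    · rcases mul_self_eq_one_iff.1 (show (c * x) * (c * x) = 1 by linear_combination hx) with e | e
      · left; exact Subtype.ext (eq_inv_of_mul_eq_one_right e)
      · right; refine Subtype.ext ?_
        show x = -c⁻¹
        field_simp
        linear_combination e
  omega

theorem cnt_eq_torus (h2 : (2 : F) ≠ 0) (t : F) :
    cnt t = Nat.card {p : F × F // p.1 * p.1 - ((t / 2) * (t / 2) - 1) * p.2 * p.2 = 1} := by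
  refine Nat.card_congr (Equiv.subtypeEquiv
    ⟨fun p => (p.1 + t / 2 * p.2, p.2), fun p => (p.1 - t / 2 * p.2, p.2),
      fun p => by simp, fun p => by simp⟩ fun p => ?_)
  simp only [Equiv.coe_fn_mk]
  have ht : t / 2 * 2 = t := div_mul_cancel₀ t h2
  constructor <;> intro h
  · linear_combination h + p.1 * p.2 * ht
  · linear_combination h - p.1 * p.2 * ht

theorem card_pairs (ε : F) :
    Nat.card {p : F × F // p.1 * p.1 - ε * p.2 * p.2 = 1} = Nat.card (sl2Torus ε) := by
  refine Nat.card_eq_of_bijective (fun p => torusMk p.2) ⟨fun p p' e => ?_, fun A => ?_⟩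
  · have e0 := congrArg (fun A : sl2Torus ε =>
      ((A : S) : Matrix (Fin 2) (Fin 2) F) 0 0) e
    have e1 := congrArg (fun A : sl2Torus ε =>
      ((A : S) : Matrix (Fin 2) (Fin 2) F) 1 0) e
    simp [torusMk] at e0 e1
    exact Subtype.ext (Prod.ext e0 e1)
  · exact ⟨⟨(_, _), torus_det A⟩, torus_ext rfl rfl⟩

theorem cnt_zero_disc (h2 : (2 : F) ≠ 0) {t : F} (h : t / 2 * (t / 2) = 1) :
    cnt t = 2 * Fintype.card F := by
  rw [cnt_eq_torus h2, h, sub_self, ← Nat.card_eq_fintype_card]
  have e : {p : F × F // p.1 * p.1 - 0 * p.2 * p.2 = 1} ≃ {a : F // a * a = 1} × F :=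
    { toFun := fun p => (⟨p.1.1, by simpa using p.2⟩, p.1.2)
      invFun := fun p => ⟨(p.1.1, p.2), by simpa using p.1.2⟩
      left_inv := fun p => rfl
      right_inv := fun p => rfl }
  rw [Nat.card_congr e, Nat.card_prod]
  congr 1
  rw [Nat.card_eq_two_iff]
  refine ⟨⟨1, by ring⟩, ⟨-1, by ring⟩, fun e => h2 ?_, Set.eq_univ_iff_forall.2 fun ⟨x, hx⟩ => ?_⟩
  · have := congrArg Subtype.val e
    linear_combination this
  · rcases mul_self_eq_one_iff.1 hx with rfl | rfl <;> simp

theorem index_of_trace_ne_zero (h2 : (2 : F) ≠ 0) {g : S} (hg : NonScalar (g : Matrix (Fin 2) (Fin 2) F))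
    (ht : (g : Matrix (Fin 2) (Fin 2) F).trace ≠ 0) :
    (Subgroup.centralizer ({(QuotientGroup.mk g : P)} : Set P)).index *
      cnt (g : Matrix (Fin 2) (Fin 2) F).trace = Fintype.card F * (Fintype.card F ^ 2 - 1) := by
  have hcm : (Subgroup.centralizer ({(QuotientGroup.mk g : P)} : Set P)).comap
      (QuotientGroup.mk' (Subgroup.center S)) = Subgroup.centralizer ({g} : Set S) := by
    ext x
    rw [Subgroup.mem_comap, QuotientGroup.mk'_apply, Subgroup.mem_centralizer_singleton_iff,
      Subgroup.mem_centralizer_singleton_iff, ← QuotientGroup.mk_mul, ← QuotientGroup.mk_mul]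
    refine ⟨fun h => ?_, fun h => by rw [h]⟩
    rcases CfsgLib.Classical.SL2Q.proj_eq_iff.1 h with e | e
    · exact e
    · exfalso
      apply ht
      have hconj : g = CfsgLib.Fusion.PSL2.negOne * (x⁻¹ * g * x) := by
        have h' : x⁻¹ * (x * g) = x⁻¹ * (CfsgLib.Fusion.PSL2.negOne * (g * x)) := by rw [← e]
        rw [inv_mul_cancel_left, ← mul_assoc, ← CfsgLib.Classical.SL2Q.negOne_comm, mul_assoc,
          ← mul_assoc x⁻¹] at h'
        exact h'
      have h1 := congrArg (fun B : S => (B : Matrix (Fin 2) (Fin 2) F).trace) hconj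
      simp only [Matrix.SpecialLinearGroup.coe_mul, CfsgLib.Classical.SL2Q.negOne_coe,
        neg_one_mul, Matrix.trace_neg] at h1
      rw [Matrix.trace_mul_cycle, ← Matrix.SpecialLinearGroup.coe_mul, mul_inv_cancel,
        Matrix.SpecialLinearGroup.coe_one, one_mul] at h1
      have h3 : (2 : F) * (g : Matrix (Fin 2) (Fin 2) F).trace = 0 := by linear_combination h1
      exact (mul_eq_zero.1 h3).resolve_left h2
  rw [← Subgroup.index_comap_of_surjective _ (QuotientGroup.mk'_surjective _), hcm, cnt,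
    ← card_centralizer_sl g hg, Subgroup.index_mul_card, card_sl_two]

theorem index_of_trace_zero (h2 : (2 : F) ≠ 0) {g : S}
    (ht : (g : Matrix (Fin 2) (Fin 2) F) 0 0 + (g : Matrix (Fin 2) (Fin 2) F) 1 1 = 0) :
    2 * ((Subgroup.centralizer ({(QuotientGroup.mk g : P)} : Set P)).index *
      Nat.card (CfsgLib.Fusion.PSL2.torus : Subgroup S)) =
      Fintype.card F * (Fintype.card F ^ 2 - 1) := by
  obtain ⟨k, hk⟩ := CfsgLib.Classical.SL2Q.involution_conj h2
    (CfsgLib.Classical.SL2Q.orderOf_proj_of_trace h2 ht)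
  rw [← CfsgLib.Classical.SL2Q.card_centralizer_proj_wM h2]
  have he : (Subgroup.centralizer ({(QuotientGroup.mk g : P)} : Set P)).index =
      (Subgroup.centralizer
        ({CfsgLib.Classical.SL2Q.proj (CfsgLib.Fusion.PSL2.wM (F := F))} : Set P)).index := by
    rw [← Subgroup.index_comap_of_surjective
      (Subgroup.centralizer ({(QuotientGroup.mk g : P)} : Set P))
      (f := (MulAut.conj k : MulAut P).toMonoidHom) (MulAut.conj k).surjective]
    congr 1
    ext x
    rw [Subgroup.mem_comap, Subgroup.mem_centralizer_singleton_iff,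
      Subgroup.mem_centralizer_singleton_iff]
    change k * x * k⁻¹ * (QuotientGroup.mk g : P) = (QuotientGroup.mk g : P) * (k * x * k⁻¹) ↔ _
    rw [show (QuotientGroup.mk g : P) = k * CfsgLib.Classical.SL2Q.proj CfsgLib.Fusion.PSL2.wM * k⁻¹
      from hk.symm]
    simp [mul_assoc]
    rw [← mul_assoc, ← mul_assoc, mul_left_inj]
  rw [he, Subgroup.index_mul_card, CfsgLib.Classical.SL2Q.two_mul_card_PSL h2, card_sl_two]

theorem exists_generic (h2 : (2 : F) ≠ 0) {ε : F} (hε : ε ≠ 0) (h5 : 5 ≤ Nat.card (sl2Torus ε)) :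
    ∃ t b : F, t ≠ 0 ∧ b ≠ 0 ∧ t / 2 * (t / 2) - 1 = ε * (b * b) := by
  obtain ⟨u, hu, m, hm0, hord, -⟩ := exists_torus_gen h2 hε
  have hd := torus_det u
  rw [← orderOf_eq_card_of_forall_mem_zpowers hu] at h5
  set a := ((u : S) : Matrix (Fin 2) (Fin 2) F) 0 0 with ha
  set b := ((u : S) : Matrix (Fin 2) (Fin 2) F) 1 0 with hb
  have key : a ≠ 0 ∧ b ≠ 0 := by
    have h4 : a = 0 ∨ b = 0 → u ^ 4 = 1 := by
      intro h
      have e4 : (u : S) * u * (u * u) = 1 := by
        obtain ⟨u1, u2⟩ := u.2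
        rw [← hb] at u2
        rw [← ha] at u1
        ext i j
        rcases h with h | h <;> rw [h] at hd <;>
          fin_cases i <;> fin_cases j <;>
          simp [Matrix.mul_apply, Fin.sum_univ_two, u1, u2, ← ha, ← hb, h] <;>
          first
            | ring1
            | linear_combination (-ε * b * b + 1) * hd
            | linear_combination (a * a + 1) * hd
            | linear_combination (ε * b * b - 1) * hd
      refine Subtype.ext ?_
      rw [Subgroup.coe_pow, Subgroup.coe_one, ← e4]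
      simp only [pow_succ, pow_zero, one_mul, mul_assoc]
    constructor <;> intro h
    · have := Nat.le_of_dvd (by norm_num) (orderOf_dvd_of_pow_eq_one (h4 (Or.inl h)))
      omega
    · have := Nat.le_of_dvd (by norm_num) (orderOf_dvd_of_pow_eq_one (h4 (Or.inr h)))
      omega
  refine ⟨2 * a, b, mul_ne_zero h2 key.1, key.2, ?_⟩
  field_simp
  linear_combination hd

theorem range_eq (h2 : (2 : F) ≠ 0) (h7 : 7 ≤ Fintype.card F) :
    Set.range (fun g : P => (Subgroup.centralizer ({g} : Set P)).index) =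
      {1, (Fintype.card F ^ 2 - 1) / 2,
        Fintype.card F * (Fintype.card F ^ 2 - 1) / 2 /
          Nat.card (CfsgLib.Fusion.PSL2.torus : Subgroup S),
        Fintype.card F * (Fintype.card F - 1), Fintype.card F * (Fintype.card F + 1)} := by
  set q := Fintype.card F with hq
  have hodd : q % 2 = 1 := FiniteField.odd_card_of_char_ne_two fun e => h2 (by
    haveI := ringChar.of_eq e
    exact CharTwo.two_eq_zero)
  have hsq : q ^ 2 - 1 = (q - 1) * (q + 1) := by
    rw [mul_comm, show q ^ 2 - 1 = q ^ 2 - 1 ^ 2 by rw [one_pow], Nat.sq_sub_sq]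
  have key0 : ∀ i : ℕ, i * (2 * q) = q * (q ^ 2 - 1) → i = (q ^ 2 - 1) / 2 := fun i h => by
    have : i * 2 = q ^ 2 - 1 := Nat.eq_of_mul_eq_mul_right (show 0 < q by omega) (by rw [mul_assoc, h, mul_comm])
    omega
  have key1 : ∀ i : ℕ, i * (q - 1) = q * (q ^ 2 - 1) → i = q * (q + 1) := fun i h =>
    Nat.eq_of_mul_eq_mul_right (show 0 < q - 1 by omega) (h.trans (by rw [hsq]; ring))
  have key2 : ∀ i : ℕ, i * (q + 1) = q * (q ^ 2 - 1) → i = q * (q - 1) := fun i h =>
    Nat.eq_of_mul_eq_mul_right (show 0 < q + 1 by omega) (h.trans (by rw [hsq]; ring))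
  set T := Nat.card (CfsgLib.Fusion.PSL2.torus : Subgroup S)
  have keyT : ∀ i : ℕ, 2 * (i * T) = q * (q ^ 2 - 1) → i = q * (q ^ 2 - 1) / 2 / T := fun i h => by
    have hT : 0 < T := Nat.card_pos
    rw [← h, Nat.mul_div_cancel_left _ two_pos, Nat.mul_div_cancel _ hT]
  have hcases : ∀ t : F, t / 2 * (t / 2) - 1 ≠ 0 →
      (IsSquare (t / 2 * (t / 2) - 1) → cnt t = q - 1) ∧
      (¬ IsSquare (t / 2 * (t / 2) - 1) → cnt t = q + 1) := fun t ht => by
    constructor <;> intro hs <;> rw [cnt_eq_torus h2, card_pairs]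
    · have := card_torus_square h2 ht hs; omega
    · exact torus_card_nonsplit h2 hs
  have hone : (Subgroup.centralizer ({(1 : P)} : Set P)).index = 1 := by
    rw [Subgroup.index_eq_one, eq_top_iff]
    intro x _
    rw [Subgroup.mem_centralizer_singleton_iff, one_mul, mul_one]
  have hc : ∀ t : F, t ≠ 0 →
      (Subgroup.centralizer ({(QuotientGroup.mk (cSL t) : P)} : Set P)).index * cnt t =
        q * (q ^ 2 - 1) := fun t ht => by
    have := index_of_trace_ne_zero h2 (cSL_spec t).2 (by rw [(cSL_spec t).1]; exact ht)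
    rwa [(cSL_spec t).1] at this
  ext i
  simp only [Set.mem_range, Set.mem_insert_iff, Set.mem_singleton_iff]
  constructor
  · rintro ⟨x, rfl⟩
    obtain ⟨g, rfl⟩ := QuotientGroup.mk_surjective x
    by_cases hg : NonScalar (g : Matrix (Fin 2) (Fin 2) F)
    · by_cases ht : (g : Matrix (Fin 2) (Fin 2) F).trace = 0
      · rw [trace_fin_two] at ht
        exact Or.inr (Or.inr (Or.inl (keyT _ (index_of_trace_zero h2 ht))))
      have h := index_of_trace_ne_zero h2 hg ht
      set t := (g : Matrix (Fin 2) (Fin 2) F).trace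
      by_cases h4 : t / 2 * (t / 2) - 1 = 0
      · rw [cnt_zero_disc h2 (sub_eq_zero.1 h4)] at h
        exact Or.inr (Or.inl (key0 _ h))
      by_cases hs : IsSquare (t / 2 * (t / 2) - 1)
      · rw [(hcases t h4).1 hs] at h
        exact Or.inr (Or.inr (Or.inr (Or.inr (key1 _ h))))
      · rw [(hcases t h4).2 hs] at h
        exact Or.inr (Or.inr (Or.inr (Or.inl (key2 _ h))))
    · left
      obtain ⟨a, ha, ha1⟩ := sl_scalar_val hg
      have : (QuotientGroup.mk g : P) = 1 := by
        rw [QuotientGroup.eq_one_iff, Subgroup.mem_center_iff]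
        intro x
        apply Subtype.ext
        simp only [Matrix.SpecialLinearGroup.coe_mul]
        rw [ha, mul_smul_comm, mul_one, smul_mul_assoc, one_mul]
      rw [this, hone]
  · rintro (rfl | rfl | rfl | rfl | rfl)
    · exact ⟨1, hone⟩
    · refine ⟨QuotientGroup.mk (cSL 2), key0 _ ?_⟩
      rw [← cnt_zero_disc h2 (t := 2) (by field_simp)]
      exact hc 2 h2
    · exact ⟨QuotientGroup.mk CfsgLib.Fusion.PSL2.wM,
        keyT _ (index_of_trace_zero h2 CfsgLib.Classical.SL2Q.wM_trace)⟩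
    · obtain ⟨ε, hε⟩ := exists_nonsquare' h2
      have hε0 : ε ≠ 0 := fun e => hε (e ▸ IsSquare.zero)
      obtain ⟨t, b, ht, hb, he⟩ := exists_generic h2 hε0 (by rw [torus_card_nonsplit h2 hε]; omega)
      refine ⟨QuotientGroup.mk (cSL t), key2 _ ?_⟩
      rw [← (hcases t (by rw [he]; exact mul_ne_zero hε0 (mul_ne_zero hb hb))).2 ?_]
      · exact hc t ht
      · rw [he]
        rintro ⟨c, hc'⟩
        exact hε ⟨c / b, by field_simp; linear_combination hc'⟩
    · obtain ⟨t, b, ht, hb, he⟩ := exists_generic h2 (one_ne_zero (α := F)) (by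
        have := torus_card_split (F := F) h2; omega)
      refine ⟨QuotientGroup.mk (cSL t), key1 _ ?_⟩
      rw [← (hcases t (by rw [he]; exact mul_ne_zero one_ne_zero (mul_ne_zero hb hb))).1 ?_]
      · exact hc t ht
      · exact ⟨b, by rw [he, one_mul]⟩

end CfsgLib.KnownSimple.OddClassSizes
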