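import Mathlib

/-!
In `PSL(d, F)`, `d ≥ 3`, the product of two non-trivial classes is never a single class.
-/

set_option autoImplicit false

namespace CfsgLib.PSLClassProduct

open Matrix

variable {F : Type*} [Field F] {d : ℕ}

theorem val_mul (a b : SpecialLinearGroup (Fin d) F) : (a * b).1 = a.1 * b.1 := rfl

theorem val_one : (1 : SpecialLinearGroup (Fin d) F).1 = 1 := rfl

/-- A non-scalar matrix moves some line. -/
theorem exists_not_eigen {A : Matrix (Fin d) (Fin d) F} (hA : ∀ c : F, A ≠ c • 1) :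
    ∃ u : Fin d → F, ∀ c : F, A *ᵥ u ≠ c • u := by
  by_contra! h
  rcases Nat.eq_zero_or_pos d with rfl | hd
  · exact hA 0 (Subsingleton.elim _ _)
  choose c hc using fun i : Fin d => h (Pi.single i 1)
  have hAij : ∀ i j, A i j = if i = j then c j else 0 := fun i j => by
    have := congrFun (hc j) i
    simpa [Pi.single_apply] using this
  have hall : ∀ i j, c i = c j := fun i j => by
    rcases eq_or_ne i j with rfl | hij
    · rfl
    obtain ⟨e, he⟩ := h (Pi.single i 1 + Pi.single j 1)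
    rw [mulVec_add, hc, hc] at he
    have h1 := congrFun he i
    have h2 := congrFun he j
    simp [hij, hij.symm] at h1 h2
    rw [h1, h2]
  refine hA (c ⟨0, hd⟩) (Matrix.ext fun i j => ?_)
  rw [hAij]
  rcases eq_or_ne i j with rfl | hij
  · simp [hall i ⟨0, hd⟩]
  · simp [hij]

/-- Few linear forms vanish together somewhere. -/
theorem exists_perp (a b : Fin d → F) (hd : 3 ≤ d) : ∃ z : Fin d → F, z ≠ 0 ∧ a ⬝ᵥ z = 0 ∧ b ⬝ᵥ z = 0 := by
  let L : (Fin d → F) →ₗ[F] (Fin 2 → F) :=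
    { toFun := fun z => ![a ⬝ᵥ z, b ⬝ᵥ z]
      map_add' := fun x y => by simp [dotProduct_add]
      map_smul' := fun c x => by simp [dotProduct_smul] }
  have hne : LinearMap.ker L ≠ ⊥ := fun he => by
    have := LinearMap.finrank_le_finrank_of_injective (LinearMap.ker_eq_bot.1 he)
    simp only [Module.finrank_pi, Fintype.card_fin] at this
    omega
  obtain ⟨z, hz, hz0⟩ := Submodule.exists_mem_ne_zero_of_ne_bot hne
  have h := LinearMap.mem_ker.1 hz
  exact ⟨z, hz0, congrFun h 0, congrFun h 1⟩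

/-- A form killing a vector and taking the value one on a vector off its line. -/
theorem exists_form {x y : Fin d → F} (hx : x ≠ 0) (hy : ∀ c : F, y ≠ c • x) :
    ∃ f : Fin d → F, f ⬝ᵥ x = 0 ∧ f ⬝ᵥ y = 1 := by
  have hy' : y ∉ Submodule.span F {x} := fun h => by
    obtain ⟨c, hc⟩ := Submodule.mem_span_singleton.1 h
    exact hy c hc.symm
  obtain ⟨g, hg, hgm⟩ := Submodule.exists_dual_map_eq_bot_of_notMem hy' inferInstance
  refine ⟨fun i => (g y)⁻¹ * g (Pi.single i 1), ?_, ?_⟩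
  all_goals
    have key : ∀ v : Fin d → F, (fun i => (g y)⁻¹ * g (Pi.single i 1)) ⬝ᵥ v = (g y)⁻¹ * g v := fun v => by
      conv_rhs => rw [pi_eq_sum_univ' v, map_sum, Finset.mul_sum]
      refine Finset.sum_congr rfl fun i _ => ?_
      rw [map_smul, smul_eq_mul]
      ring
    rw [key]
  · rw [(Submodule.eq_bot_iff _).1 hgm (g x) ⟨x, Submodule.mem_span_singleton_self x, rfl⟩, mul_zero]
  · exact inv_mul_cancel₀ hg

/-- A transvection as an element of `SL`. -/
def tv (u f : Fin d → F) (h : f ⬝ᵥ u = 0) : SpecialLinearGroup (Fin d) F :=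
  ⟨1 + vecMulVec u f, by
    rw [vecMulVec_eq Unit, det_one_add_replicateCol_mul_replicateRow, h, add_zero]⟩

theorem tv_conj (u f : Fin d → F) (h : f ⬝ᵥ u = 0) (X : Matrix (Fin d) (Fin d) F) :
    (tv u f h).1 * X * ((tv u f h)⁻¹).1 =
      X + (vecMulVec u (f ᵥ* X) - vecMulVec (X *ᵥ u) f) - (f ⬝ᵥ X *ᵥ u) • vecMulVec u f := by
  have hinv : ((tv u f h)⁻¹).1 = 1 - vecMulVec u f := by
    have e : (tv u f h)⁻¹ = tv (-u) f (by rw [dotProduct_neg, h, neg_zero]) := by
      refine inv_eq_of_mul_eq_one_right (Subtype.ext ?_)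
      show (1 + vecMulVec u f) * (1 + vecMulVec (-u) f) = 1
      rw [neg_vecMulVec, mul_add, mul_one, add_mul, one_mul, mul_neg, vecMulVec_mul_vecMulVec, h, zero_smul,
        vecMulVec_zero]
      abel
    rw [e]
    show 1 + vecMulVec (-u) f = _
    rw [neg_vecMulVec, sub_eq_add_neg]
  rw [hinv]
  show (1 + vecMulVec u f) * X * (1 - vecMulVec u f) = _
  rw [add_mul, one_mul, mul_sub, mul_one, add_mul, mul_vecMulVec, vecMulVec_mul, vecMulVec_mul_vecMulVec,
    vecMulVec_smul, dotProduct_mulVec]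
  abel

variable {ψ : Matrix (Fin d) (Fin d) F →ₗ[F] F}

/-- A form constant on the orbit of a non-scalar matrix kills rank one nilpotents. -/
theorem orbit_form_eq_zero (hd : 3 ≤ d) {B : Matrix (Fin d) (Fin d) F} (hB : ∀ c : F, B ≠ c • 1)
    (h : ∀ g : SpecialLinearGroup (Fin d) F, ψ (g.1 * B * (g⁻¹).1) = ψ B) (p f : Fin d → F) (hpf : f ⬝ᵥ p = 0) :
    ψ (vecMulVec p f) = 0 := by
  let W : Submodule F (Matrix (Fin d) (Fin d) F) :=
    { carrier := {X | ∀ g : SpecialLinearGroup (Fin d) F, ψ (g.1 * X * (g⁻¹).1) = 0}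
      add_mem' := fun {X Y} hX hY g => by rw [mul_add, add_mul, map_add, hX g, hY g, add_zero]
      zero_mem' := fun g => by rw [mul_zero, zero_mul, map_zero]
      smul_mem' := fun c X hX g => by rw [Matrix.mul_smul, Matrix.smul_mul, map_smul, hX g, smul_zero] }
  have hinv : ∀ X ∈ W, ∀ (g : SpecialLinearGroup (Fin d) F), g.1 * X * (g⁻¹).1 ∈ W := fun X hX g k => by
    have := hX (k * g)
    rw [_root_.mul_inv_rev, val_mul, val_mul] at this
    simpa [mul_assoc] using this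
  have hmemW : ∀ g : SpecialLinearGroup (Fin d) F, g.1 * B * (g⁻¹).1 - B ∈ W := fun g k => by
    have h1 := h (k * g)
    rw [_root_.mul_inv_rev, val_mul, val_mul] at h1
    have h2 := h k
    rw [mul_sub, sub_mul, map_sub, sub_eq_zero, h2]
    simpa [mul_assoc] using h1
  have hdiff : ∀ (u f : Fin d → F) (hf : f ⬝ᵥ u = 0) (X : Matrix (Fin d) (Fin d) F), X ∈ W →
      (vecMulVec u (f ᵥ* X) - vecMulVec (X *ᵥ u) f) - (f ⬝ᵥ X *ᵥ u) • vecMulVec u f ∈ W := fun u f hf X hX => by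
    have := W.sub_mem (hinv X hX (tv u f hf)) hX
    rwa [tv_conj, add_sub_assoc, add_sub_cancel_left] at this
  -- a non-scalar element of `W`
  obtain ⟨X, hX, hXns⟩ : ∃ X ∈ W, ∀ c : F, X ≠ c • 1 := by
    obtain ⟨u, hu⟩ := exists_not_eigen hB
    have hu0 : u ≠ 0 := fun e => hu 0 (by simp [e])
    obtain ⟨f, hf, hfB⟩ := exists_form hu0 hu
    refine ⟨_, hmemW (tv u f hf), fun c hc => ?_⟩
    rw [tv_conj, add_sub_assoc, add_sub_cancel_left, hfB, one_smul] at hc
    obtain ⟨z, hz0, hz1, hz2⟩ := exists_perp (f ᵥ* B) f hd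
    have e1 := congrArg (· *ᵥ z) hc
    simp only [sub_mulVec, vecMulVec_mulVec, hz1, hz2, smul_mulVec, one_mulVec] at e1
    have e1' : c • z = 0 := by simpa using e1.symm
    rcases smul_eq_zero.1 e1' with rfl | e1
    · have e2 := congrArg (· *ᵥ u) hc
      simp only [sub_mulVec, vecMulVec_mulVec, hf, smul_mulVec, one_mulVec, ← dotProduct_mulVec, hfB] at e2
      simp at e2
      exact hu0 e2
    · exact hz0 e1
  -- a rank one element
  obtain ⟨u₀, f₀, hu₀, hf₀, hperp₀, h₀⟩ : ∃ u f : Fin d → F, u ≠ 0 ∧ f ≠ 0 ∧ f ⬝ᵥ u = 0 ∧ vecMulVec u f ∈ W := by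
    obtain ⟨u, hu⟩ := exists_not_eigen hXns
    have hu0 : u ≠ 0 := fun e => hu 0 (by simp [e])
    obtain ⟨f, hf, hfX⟩ := exists_form hu0 hu
    obtain ⟨u', hu', hu1, hu2⟩ := exists_perp f (f ᵥ* X) hd
    rw [← dotProduct_mulVec] at hu2
    have hsum : f ⬝ᵥ (u + u') = 0 := by rw [dotProduct_add, hf, hu1, add_zero]
    have := W.sub_mem (W.sub_mem (hdiff (u + u') f hsum X hX) (hdiff u f hf X hX)) (hdiff u' f hu1 X hX)
    simp only [mulVec_add, dotProduct_add, hfX, hu2, add_vecMulVec, add_zero, zero_smul, smul_add, one_smul,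
      sub_zero] at this
    refine ⟨u', f, hu', fun e => by simp [e] at hfX, hu1, ?_⟩
    convert W.neg_mem this using 1
    abel
  have moveLeft : ∀ u f a : Fin d → F, u ≠ 0 → f ⬝ᵥ u = 0 → f ⬝ᵥ a = 0 → vecMulVec u f ∈ W → vecMulVec a f ∈ W := by
    intro u f a hu hfu hfa hW
    by_cases hdep : ∃ c : F, a = c • u
    · obtain ⟨c, rfl⟩ := hdep
      rw [smul_vecMulVec]
      exact W.smul_mem c hW
    push Not at hdep
    rcases eq_or_ne a 0 with rfl | ha
    · simp
    obtain ⟨η, hη, hηu⟩ := exists_form ha (y := u) fun c hc => by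
      rcases eq_or_ne c 0 with rfl | hc0
      · exact hu (by rw [hc, zero_smul])
      · exact hdep c⁻¹ (by rw [hc, inv_smul_smul₀ hc0])
    have := hdiff a η hη _ hW
    simp only [vecMulVec_mulVec, hfa, dotProduct_mulVec, vecMul_vecMulVec, hηu] at this
    simpa [← dotProduct_mulVec, hηu, hfa] using this
  have moveRight : ∀ u f b : Fin d → F, f ≠ 0 → f ⬝ᵥ u = 0 → b ⬝ᵥ u = 0 → vecMulVec u f ∈ W → vecMulVec u b ∈ W := by
    intro u f b hf hfu hbu hW
    by_cases hdep : ∃ c : F, b = c • f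
    · obtain ⟨c, rfl⟩ := hdep
      rw [vecMulVec_smul]
      exact W.smul_mem c hW
    push Not at hdep
    rcases eq_or_ne b 0 with rfl | hb
    · simp
    obtain ⟨a, hab, haf⟩ := exists_form hb (y := f) fun c hc => by
      rcases eq_or_ne c 0 with rfl | hc0
      · exact hf (by rw [hc, zero_smul])
      · exact hdep c⁻¹ (by rw [hc, inv_smul_smul₀ hc0])
    rw [dotProduct_comm] at hab haf
    have := W.neg_mem (hdiff a b hab _ hW)
    simpa [vecMulVec_mulVec, vecMul_vecMulVec, ← dotProduct_mulVec, hbu, haf] using this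
  have hW : vecMulVec p f ∈ W := by
    rcases eq_or_ne f 0 with rfl | hf
    · simp
    obtain ⟨w, hw0, hw1, hw2⟩ := exists_perp f₀ f hd
    have h1 := moveLeft u₀ f₀ w hu₀ hperp₀ hw1 h₀
    have h2 := moveRight w f₀ f hf₀ hw1 hw2 h1
    exact moveLeft w f p hw0 hw2 hpf h2
  simpa using hW 1

theorem class_product (hd : 3 ≤ d) (A B : SpecialLinearGroup (Fin d) F) (hA : ∀ c : F, A.1 ≠ c • 1)
    (hB : ∀ c : F, B.1 ≠ c • 1) :
    ∃ g h : SpecialLinearGroup (Fin d) F,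
      ∀ z ∈ Subgroup.center (SpecialLinearGroup (Fin d) F), ¬ IsConj (A * B * z) (g * A * g⁻¹ * (h * B * h⁻¹)) := by
  obtain ⟨u, hu⟩ := exists_not_eigen hA
  have hu0 : u ≠ 0 := fun e => hu 0 (by simp [e])
  obtain ⟨φ, hφ0, hφu, hφA⟩ : ∃ φ : Fin d → F, φ ≠ 0 ∧ φ ⬝ᵥ u = 0 ∧ φ ⬝ᵥ A.1 *ᵥ u = 0 := by
    obtain ⟨z, hz, h1, h2⟩ := exists_perp u (A.1 *ᵥ u) hd
    exact ⟨z, hz, by rwa [dotProduct_comm], by rwa [dotProduct_comm]⟩
  let ψ : Matrix (Fin d) (Fin d) F →ₗ[F] F :=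
    { toFun := fun X => φ ⬝ᵥ (A.1 * X - X * A.1) *ᵥ u
      map_add' := fun X Y => by
        rw [← dotProduct_add, ← add_mulVec]; congr 2; rw [mul_add, add_mul]; abel
      map_smul' := fun c X => by simp [← smul_sub, smul_mulVec] }
  obtain ⟨h, hh⟩ : ∃ h : SpecialLinearGroup (Fin d) F, ψ (h.1 * B.1 * (h⁻¹).1) ≠ 0 := by
    by_contra! hall
    have h0 : ψ B.1 = 0 := by simpa using hall 1
    obtain ⟨f, hf, hfA⟩ := exists_form hu0 hu
    -- a vector off the hyperplane of `φ` inside the kernel of `f`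
    have key : ∀ v, f ⬝ᵥ v = 0 → φ ⬝ᵥ v = 0 := fun v hv => by
      have := orbit_form_eq_zero (ψ := ψ) hd hB (fun g => by rw [hall g, h0]) v f hv
      simpa [ψ, sub_mulVec, ← mulVec_mulVec, vecMulVec_mulVec, hf, hfA, mulVec_smul, dotProduct_neg] using this
    apply hφ0
    funext i
    have := key (Pi.single i 1 - f i • (A.1 *ᵥ u)) (by rw [dotProduct_sub, dotProduct_smul, hfA]; simp)
    simpa [dotProduct_sub, dotProduct_smul, hφA] using this
  refine ?_
  by_contra! hcon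
  set B' := h.1 * B.1 * (h⁻¹).1 with hB'
  set c := ψ B' with hc
  have htr : ∀ t : F, ∃ l : F, l ≠ 0 ∧ (A.1 * B').trace + t * c = l * (A * B).1.trace := by
    intro t
    have hperp : (t • φ) ⬝ᵥ u = 0 := by rw [smul_dotProduct, hφu, smul_zero]
    obtain ⟨z, hz, hconj⟩ := hcon (tv u (t • φ) hperp) h
    obtain ⟨l, hl, hlz⟩ := Matrix.SpecialLinearGroup.mem_center_iff.1 hz
    obtain ⟨k, hk⟩ := isConj_iff.1 hconj
    refine ⟨l, fun h0 => ?_, ?_⟩
    · rw [h0, Fintype.card_fin, zero_pow (by omega)] at hl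
      exact zero_ne_one hl
    have e := congrArg (fun M : SpecialLinearGroup (Fin d) F => M.1.trace) hk
    simp only [val_mul, tv_conj] at e
    rw [Matrix.mul_assoc (k.1) _ (k⁻¹).1, Matrix.trace_mul_comm k.1, Matrix.mul_assoc _ (k⁻¹).1 k.1,
      ← val_mul k⁻¹ k, inv_mul_cancel, val_one, mul_one] at e
    rw [← hlz] at e
    simp [smul_dotProduct, hφA, smul_vecMul, vecMulVec_smul, add_mul, sub_mul, trace_vecMulVec, trace_mul_comm _ B',
      dotProduct_mulVec, ← vecMul_vecMul, mul_sub, mul_add, vecMul_sub, Matrix.scalar_apply, ← Matrix.smul_eq_mul_diagonal] at e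
    have h0 : φ ᵥ* A.1 ⬝ᵥ u = 0 := by rw [← dotProduct_mulVec]; exact hφA
    have t1 : ∀ M : Matrix (Fin d) (Fin d) F,
        (vecMulVec u (φ ᵥ* A.1) * M).trace = φ ⬝ᵥ (A.1 * M) *ᵥ u := fun M => by
      rw [vecMulVec_mul, trace_vecMulVec, dotProduct_comm, vecMul_vecMul, ← dotProduct_mulVec]
    have t2 : ∀ M : Matrix (Fin d) (Fin d) F,
        (vecMulVec (A.1 *ᵥ u) φ * M).trace = φ ⬝ᵥ (M * A.1) *ᵥ u := fun M => by
      rw [vecMulVec_mul, trace_vecMulVec, dotProduct_comm, ← dotProduct_mulVec, mulVec_mulVec]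
    rw [t1, t2, h0] at e
    rw [hc, show ψ B' = φ ⬝ᵥ (A.1 * B' - B' * A.1) *ᵥ u from rfl, sub_mulVec, dotProduct_sub, hB', val_mul,
      show (h⁻¹).1 = h.1.adjugate from rfl]
    linear_combination -e
  obtain ⟨l, hl, h1⟩ := htr (-(A.1 * B').trace / c)
  rw [div_mul_cancel₀ _ hh, add_neg_cancel] at h1
  have hT : (A * B).1.trace = 0 := (mul_eq_zero.1 h1.symm).resolve_left hl
  obtain ⟨l', -, h2⟩ := htr ((1 - (A.1 * B').trace) / c)
  rw [div_mul_cancel₀ _ hh, hT, mul_zero] at h2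
  simp at h2

theorem psl_class_product [Fintype F] (hd : 3 ≤ d) (a b : Matrix.ProjectiveSpecialLinearGroup (Fin d) F)
    (ha : a ≠ 1) (hb : b ≠ 1) :
    ∃ g h : Matrix.ProjectiveSpecialLinearGroup (Fin d) F, ¬ IsConj (a * b) (g * a * g⁻¹ * (h * b * h⁻¹)) := by
  obtain ⟨A, rfl⟩ := QuotientGroup.mk_surjective a
  obtain ⟨B, rfl⟩ := QuotientGroup.mk_surjective b
  have hns : ∀ M : SpecialLinearGroup (Fin d) F, (M : Matrix.ProjectiveSpecialLinearGroup (Fin d) F) ≠ 1 →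
      ∀ c : F, M.1 ≠ c • 1 := by
    intro M hM c hc
    apply hM
    rw [QuotientGroup.eq_one_iff, Matrix.SpecialLinearGroup.mem_center_iff]
    have hdet := M.2
    rw [hc, det_smul, det_one, mul_one, Fintype.card_fin] at hdet
    refine ⟨c, by rwa [Fintype.card_fin], ?_⟩
    rw [hc, Matrix.scalar_apply, ← Matrix.smul_one_eq_diagonal]
  obtain ⟨g, h, hgh⟩ := class_product hd A B (hns A ha) (hns B hb)
  refine ⟨g, h, fun hc => ?_⟩
  obtain ⟨k, hk⟩ := isConj_iff.1 hc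
  obtain ⟨K, rfl⟩ := QuotientGroup.mk_surjective k
  have hz : (K * (A * B) * K⁻¹)⁻¹ * (g * A * g⁻¹ * (h * B * h⁻¹)) ∈ Subgroup.center (SpecialLinearGroup (Fin d) F) := by
    rw [← QuotientGroup.eq]
    simpa using hk
  refine hgh _ hz (isConj_iff.2 ⟨K, ?_⟩)
  generalize hzz : (K * (A * B) * K⁻¹)⁻¹ * (g * A * g⁻¹ * (h * B * h⁻¹)) = z at hz ⊢
  rw [show K * (A * B * z) * K⁻¹ = K * (A * B) * (z * K⁻¹) by group, ← Subgroup.mem_center_iff.1 hz K⁻¹,
    ← mul_assoc, ← hzz]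
  group

end CfsgLib.PSLClassProduct
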