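/-
Elementary identities behind abstract Shintani descent.
-/
import Mathlib

namespace CfsgLib.KnownSimple

variable {X : Type*} [Group X]

lemma shintani_prod (σ : MulAut X) (a : X) : ∀ d : ℕ,
    ((List.range d).map (fun i => (σ ^ i) (a * (σ a)⁻¹))).prod = a * ((σ ^ d) a)⁻¹
  | 0 => by simp
  | d + 1 => by
    rw [List.range_succ, List.map_append, List.prod_append, shintani_prod σ a d]
    simp [pow_succ, MulAut.mul_apply, mul_assoc]

lemma mem_eqLocus_id_iff (φ : MulAut X) (x : X) :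
    x ∈ (MulEquiv.toMonoidHom φ).eqLocus (MonoidHom.id X) ↔ φ x = x := Iff.rfl

lemma shintani_fixed_iff (σ : MulAut X) (e : ℕ) (a : X) :
    (σ ^ e) (a * (σ a)⁻¹) = a * (σ a)⁻¹ ↔ σ (((σ ^ e) a)⁻¹ * a) = ((σ ^ e) a)⁻¹ * a := by
  have h : (σ ^ e) (σ a) = σ ((σ ^ e) a) := by
    rw [← MulAut.mul_apply, ← MulAut.mul_apply, ← pow_succ, ← pow_succ']
  rw [map_mul, map_inv, h, map_mul σ, map_inv]
  generalize (σ ^ e) a = b
  constructor
  · intro h1
    rw [← mul_left_cancel_iff (a := b), ← mul_assoc, h1]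
    simp
  · intro h1
    have h2 : (σ b)⁻¹ = b⁻¹ * a * (σ a)⁻¹ := by rw [← h1]; simp
    rw [h2]; simp [mul_assoc]

lemma pow_fixed (σ : MulAut X) {x : X} (h : σ x = x) : ∀ e : ℕ, (σ ^ e) x = x
  | 0 => rfl
  | e + 1 => by rw [pow_succ, MulAut.mul_apply, h, pow_fixed σ h e]

end CfsgLib.KnownSimple
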