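/-
Element-order sets of direct powers and products: divisor-closedness and a comparison criterion.
-/
import Mathlib

namespace CfsgLib.KnownSimple

/-- In a finite group every divisor of an element order is an element order. -/
lemma exists_orderOf_eq_of_dvd_orderOf {G : Type*} [Group G] [Finite G] {g : G} {d : ℕ}
    (h : d ∣ orderOf g) : ∃ x : G, orderOf x = d :=
  ⟨g ^ (orderOf g / d), orderOf_pow_orderOf_div (orderOf_pos g).ne' h⟩

/-- Two finite groups have the same element orders if each order in one divides an order in the other. -/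
lemma range_orderOf_eq_of_forall_dvd {A B : Type*} [Group A] [Finite A] [Group B] [Finite B]
    (h₁ : ∀ a : A, ∃ b : B, orderOf a ∣ orderOf b) (h₂ : ∀ b : B, ∃ a : A, orderOf b ∣ orderOf a) :
    Set.range (orderOf : A → ℕ) = Set.range (orderOf : B → ℕ) := by
  ext d
  constructor
  · rintro ⟨a, rfl⟩
    obtain ⟨b, hb⟩ := h₁ a
    exact exists_orderOf_eq_of_dvd_orderOf hb
  · rintro ⟨b, rfl⟩
    obtain ⟨a, ha⟩ := h₂ b
    exact exists_orderOf_eq_of_dvd_orderOf ha

/-- The order of each component divides the order of a tuple. -/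
lemma orderOf_apply_dvd {ι : Type*} {G : ι → Type*} [∀ i, Group (G i)] (f : ∀ i, G i) (i : ι) :
    orderOf (f i) ∣ orderOf f :=
  orderOf_map_dvd (Pi.evalMonoidHom G i) f

/-- The order of a tuple divides `m` as soon as the order of every component does. -/
lemma orderOf_pi_dvd {ι : Type*} {G : ι → Type*} [∀ i, Group (G i)] (f : ∀ i, G i) {m : ℕ}
    (h : ∀ i, orderOf (f i) ∣ m) : orderOf f ∣ m := by
  rw [orderOf_dvd_iff_pow_eq_one]
  funext i
  exact orderOf_dvd_iff_pow_eq_one.1 (h i)

end CfsgLib.KnownSimple
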