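/-
Absorption of a prime by the element orders of a cube or a square of a group.
-/
import Cfsg.Agent.Lib.KnownSimple.SpectrumPowers

set_option autoImplicit false

namespace CfsgLib.KnownSimple

/-- Every element of `(Fin m → ZMod r)` has order dividing `r`. -/
lemma orderOf_multiplicative_zmod_dvd {m r : ℕ} (w : Multiplicative (Fin m → ZMod r)) : orderOf w ∣ r := by
  rw [orderOf_dvd_iff_pow_eq_one]
  apply Multiplicative.toAdd.injective
  funext i
  rw [toAdd_pow, Pi.smul_apply, nsmul_eq_mul, ZMod.natCast_self, zero_mul]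
  rfl

lemma dvd_lcm_of_left {a b : ℕ} (c : ℕ) (h : a ∣ b) : a ∣ b.lcm c := h.trans (Nat.dvd_lcm_left _ _)

lemma dvd_lcm_of_right {a c : ℕ} (b : ℕ) (h : a ∣ c) : a ∣ b.lcm c := h.trans (Nat.dvd_lcm_right _ _)

variable {G W : Type*} [Group G] [Finite G] [Group W] [Finite W] {r : ℕ}

/-- If every element either absorbs `r` or has order dividing that of a fixed triple that absorbs `r`, then
`G × G × G × W` has the element orders of `G × G × G`, for `W` of exponent dividing `r`. -/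
lemma range_absorb_three (hW : ∀ w : W, orderOf w ∣ r) (a b c : G)
    (hr : r ∣ (orderOf a).lcm ((orderOf b).lcm (orderOf c)))
    (h : ∀ x : G, (∃ y : G, (orderOf x).lcm r ∣ orderOf y) ∨
      orderOf x ∣ (orderOf a).lcm ((orderOf b).lcm (orderOf c))) :
    Set.range (orderOf : G × G × G × W → ℕ) = Set.range (orderOf : G × G × G → ℕ) := by
  refine range_orderOf_eq_of_forall_dvd ?_ fun x => ⟨(x.1, x.2.1, x.2.2, 1), ?_⟩
  · rintro ⟨x₁, x₂, x₃, w⟩
    simp only [Prod.exists, Prod.orderOf]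
    have hw := hW w
    rcases h x₁ with ⟨y, hy⟩ | h₁
    · exact ⟨y, x₂, x₃, Nat.lcm_dvd (dvd_lcm_of_left _ ((Nat.dvd_lcm_left _ _).trans hy))
        (Nat.lcm_dvd (dvd_lcm_of_right _ (Nat.dvd_lcm_left _ _)) (Nat.lcm_dvd (dvd_lcm_of_right _
          (Nat.dvd_lcm_right _ _)) (dvd_lcm_of_left _ ((dvd_lcm_of_right _ hw).trans hy))))⟩
    rcases h x₂ with ⟨y, hy⟩ | h₂
    · exact ⟨x₁, y, x₃, Nat.lcm_dvd (Nat.dvd_lcm_left _ _)
        (Nat.lcm_dvd (dvd_lcm_of_right _ (dvd_lcm_of_left _ ((Nat.dvd_lcm_left _ _).trans hy)))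
          (Nat.lcm_dvd (dvd_lcm_of_right _ (Nat.dvd_lcm_right _ _))
            (dvd_lcm_of_right _ (dvd_lcm_of_left _ ((dvd_lcm_of_right _ hw).trans hy)))))⟩
    rcases h x₃ with ⟨y, hy⟩ | h₃
    · exact ⟨x₁, x₂, y, Nat.lcm_dvd (Nat.dvd_lcm_left _ _)
        (Nat.lcm_dvd (dvd_lcm_of_right _ (Nat.dvd_lcm_left _ _))
          (Nat.lcm_dvd (dvd_lcm_of_right _ (dvd_lcm_of_right _ ((Nat.dvd_lcm_left _ _).trans hy)))
            (dvd_lcm_of_right _ (dvd_lcm_of_right _ ((dvd_lcm_of_right _ hw).trans hy)))))⟩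
    exact ⟨a, b, c, Nat.lcm_dvd h₁ (Nat.lcm_dvd h₂ (Nat.lcm_dvd h₃ (hw.trans hr)))⟩
  · simp only [Prod.orderOf, orderOf_one, Nat.lcm_one_right]
    exact dvd_rfl

/-- The same for squares. -/
lemma range_absorb_two (hW : ∀ w : W, orderOf w ∣ r) (a b : G) (hr : r ∣ (orderOf a).lcm (orderOf b))
    (h : ∀ x : G, (∃ y : G, (orderOf x).lcm r ∣ orderOf y) ∨ orderOf x ∣ (orderOf a).lcm (orderOf b)) :
    Set.range (orderOf : G × G × W → ℕ) = Set.range (orderOf : G × G → ℕ) := by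
  refine range_orderOf_eq_of_forall_dvd ?_ fun x => ⟨(x.1, x.2, 1), ?_⟩
  · rintro ⟨x₁, x₂, w⟩
    simp only [Prod.exists, Prod.orderOf]
    have hw := hW w
    rcases h x₁ with ⟨y, hy⟩ | h₁
    · exact ⟨y, x₂, Nat.lcm_dvd (dvd_lcm_of_left _ ((Nat.dvd_lcm_left _ _).trans hy))
        (Nat.lcm_dvd (Nat.dvd_lcm_right _ _) (dvd_lcm_of_left _ ((dvd_lcm_of_right _ hw).trans hy)))⟩
    rcases h x₂ with ⟨y, hy⟩ | h₂
    · exact ⟨x₁, y, Nat.lcm_dvd (Nat.dvd_lcm_left _ _)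
        (Nat.lcm_dvd (dvd_lcm_of_right _ ((Nat.dvd_lcm_left _ _).trans hy))
          (dvd_lcm_of_right _ ((dvd_lcm_of_right _ hw).trans hy)))⟩
    exact ⟨a, b, Nat.lcm_dvd h₁ (Nat.lcm_dvd h₂ (hw.trans hr))⟩
  · simp only [Prod.orderOf, orderOf_one, Nat.lcm_one_right]
    exact dvd_rfl

end CfsgLib.KnownSimple
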