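import Mathlib
import Cfsg.Agent.Lib.Spectrum.PGL2

/-!
A group with a non-trivial normal 3-subgroup and the maximal element orders of a Ree group
without its two middle tori: `(V ⊗ V^σ) ⋊ (2 × PSL(2, q))`.
-/

open Matrix
open CfsgLib.Spectrum

namespace CfsgLib.KnownSimple.TruncRee

variable (F : Type) [Field F] [CharP F 3]

abbrev Mat := Matrix (Fin 2) (Fin 2) F

variable {F}

/-- Cubing. -/
def cube : F →+* F :=
  haveI : Fact (Nat.Prime 3) := ⟨Nat.prime_three⟩
  frobenius F 3

lemma cube_apply (x : F) : cube x = x ^ 3 := rfl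

/-- The twist of a matrix by the Frobenius map. -/
def tw (A : Matrix (Fin 2) (Fin 2) F) : Matrix (Fin 2) (Fin 2) F :=
  (A.map (cube (F := F)))ᵀ

lemma tw_mul (A B : Matrix (Fin 2) (Fin 2) F) : tw (A * B) = tw B * tw A := by
  haveI : Fact (Nat.Prime 3) := ⟨Nat.prime_three⟩
  simp [tw, Matrix.map_mul]

@[simp] lemma tw_one : tw (1 : Matrix (Fin 2) (Fin 2) F) = 1 := by
  haveI : Fact (Nat.Prime 3) := ⟨Nat.prime_three⟩
  simp [tw]

@[simp] lemma tw_neg_one : tw (-1 : Matrix (Fin 2) (Fin 2) F) = -1 := by
  haveI : Fact (Nat.Prime 3) := ⟨Nat.prime_three⟩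
  ext i j
  fin_cases i <;> fin_cases j <;> simp [tw]

/-- The sign in the field. -/
def sgn (e : ℤˣ) : F := ((e : ℤ) : F)

/-- The action. -/
def act (g : ℤˣ × Matrix.SpecialLinearGroup (Fin 2) F) (X : Mat F) : Mat F :=
  (sgn g.1 : F) • ((g.2 : Mat F) * X * tw (g.2 : Mat F))

lemma act_mul (g h : ℤˣ × Matrix.SpecialLinearGroup (Fin 2) F) (X : Mat F) :
    act (g * h) X = act g (act h X) := by
  simp only [act, sgn, Prod.fst_mul, Prod.snd_mul, Units.val_mul, Int.cast_mul,
    Matrix.SpecialLinearGroup.coe_mul, tw_mul, Matrix.mul_smul, Matrix.smul_mul, smul_smul,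
    Matrix.mul_assoc]

@[simp] lemma act_one (X : Mat F) : act 1 X = X := by
  simp [act, sgn]

lemma act_add (g : ℤˣ × Matrix.SpecialLinearGroup (Fin 2) F) (X Y : Mat F) :
    act g (X + Y) = act g X + act g Y := by
  simp [act, Matrix.mul_add, Matrix.add_mul, smul_add]

/-- The action as a homomorphism. -/
def psi : ℤˣ × Matrix.SpecialLinearGroup (Fin 2) F →* MulAut (Multiplicative (Mat F)) where
  toFun g :=
    { toFun := fun x => Multiplicative.ofAdd (act g x.toAdd)
      invFun := fun x => Multiplicative.ofAdd (act g⁻¹ x.toAdd)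
      left_inv := fun x => by simp [← act_mul]
      right_inv := fun x => by simp [← act_mul]
      map_mul' := fun x y => by simp [act_add] }
  map_one' := by ext1 x; simp
  map_mul' g h := by ext1 x; simp [act_mul]

lemma psi_apply (g : ℤˣ × Matrix.SpecialLinearGroup (Fin 2) F) (x : Multiplicative (Mat F)) :
    psi g x = Multiplicative.ofAdd (act g x.toAdd) := rfl

variable (F) in
/-- The group. -/
abbrev Grp := Multiplicative (Mat F) ⋊[(psi (F := F)).range.subtype] (psi (F := F)).range

lemma two_ne_zero' : (2 : F) ≠ 0 := by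
  intro h
  have : ((2 : ℕ) : F) = 0 := by simpa using h
  have := (CharP.cast_eq_zero_iff F 3 2).1 this
  omega

lemma three_eq_zero : (3 : F) = 0 := by
  simpa using CharP.cast_eq_zero F 3

lemma mul_pow_three (x : Multiplicative (Mat F)) : x ^ 3 = 1 := by
  refine Multiplicative.toAdd.injective ?_
  rw [toAdd_pow, toAdd_one]
  ext i j
  simp [Matrix.smul_apply, three_eq_zero]

/-- `tw` of an element of determinant one. -/
lemma tw_trace_det (A : Mat F) (hA : A.det = 1) :
    (tw A).trace = A.trace ^ 3 ∧ (tw A).det = 1 := by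
  haveI : Fact (Nat.Prime 3) := ⟨Nat.prime_three⟩
  refine ⟨?_, ?_⟩
  · simp [tw, trace_fin_two, cube_apply, add_pow_char]
  · rw [tw, Matrix.det_transpose, ← RingHom.mapMatrix_apply, ← RingHom.map_det, hA, map_one]

lemma sgn_cases (e : ℤˣ) : (e = 1 ∧ (sgn e : F) = 1) ∨ (e = -1 ∧ (sgn e : F) = -1) := by
  rcases Int.units_eq_one_or e with rfl | rfl <;> simp [sgn]

/-- An element with a non-zero fixed vector has trace in the prime field. -/
lemma trace_of_fixed (hns : ¬ IsSquare (-1 : F)) (g : ℤˣ × Matrix.SpecialLinearGroup (Fin 2) F)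
    (X : Mat F) (hX : X ≠ 0) (h : act g X = X) :
    (g.2 : Mat F).trace = 0 ∨ (g.2 : Mat F).trace = 1 ∨ (g.2 : Mat F).trace = -1 := by
  set A := (g.2 : Mat F) with hA
  set t := A.trace with ht
  set e : F := sgn g.1 with he
  have hd : A.det = 1 := g.2.det_coe
  obtain ⟨hst, hdt⟩ := tw_trace_det A hd
  set B := tw A with hB
  have hee : e * e = 1 := by rcases sgn_cases (F := F) g.1 with ⟨-, h'⟩ | ⟨-, h'⟩ <;> simp [he, h']
  have hAX : A * X = e • (X * B.adjugate) := by
    have h1 : (e • (A * X * B)) * B.adjugate = X * B.adjugate := by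
      change act g X * B.adjugate = _
      rw [h]
    rw [Matrix.smul_mul, Matrix.mul_assoc, Matrix.mul_adjugate, hdt, one_smul, Matrix.mul_one] at h1
    rw [← h1, smul_smul, hee, one_smul]
  set C := B.adjugate with hC
  have hCt : C.trace = t ^ 3 := by
    rw [hC, Matrix.adjugate_fin_two, ← hst]
    simp [trace_fin_two]
    ring
  have hCd : C.det = 1 := by
    rw [hC, Matrix.det_adjugate, hdt, one_pow]
  have hCH : ∀ M : Mat F, M.det = 1 → M * M = M.trace • M - 1 := by
    intro M hM
    rw [det_fin_two] at hM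
    ext i j
    fin_cases i <;> fin_cases j <;> simp [Matrix.mul_apply, Fin.sum_univ_two, trace_fin_two] <;>
      first | linear_combination hM | linear_combination -hM | ring1
  have key : (t ^ 3 - e * t) • (X * C) = 0 := by
    have h2 : A * A * X = X * (C * C) := by
      rw [Matrix.mul_assoc, hAX, Matrix.mul_smul, ← Matrix.mul_assoc, hAX, Matrix.smul_mul,
        smul_smul, hee, one_smul, Matrix.mul_assoc]
    rw [hCH A hd, hCH C hCd, hCt, Matrix.sub_mul, Matrix.mul_sub, Matrix.smul_mul, Matrix.one_mul,
      Matrix.mul_one, sub_left_inj, hAX, Matrix.mul_smul, smul_smul] at h2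
    rw [sub_smul, ← h2, mul_comm e t, sub_self]
  have hXC : X * C ≠ 0 := fun h0 => hX (by
    have := congrArg (fun M => M * C.adjugate) h0
    simpa [Matrix.mul_assoc, Matrix.mul_adjugate, hCd] using this)
  have hts : t ^ 3 - e * t = 0 := (smul_eq_zero.1 key).resolve_right hXC
  rcases sgn_cases (F := F) g.1 with ⟨-, h'⟩ | ⟨-, h'⟩
  · rw [show e = 1 from h'] at hts
    rcases mul_eq_zero.1 (show t * ((t - 1) * (t + 1)) = 0 by linear_combination hts) with h0 | h0
    · exact Or.inl h0
    · rcases mul_eq_zero.1 h0 with h1 | h1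
      · exact Or.inr (Or.inl (sub_eq_zero.1 h1))
      · exact Or.inr (Or.inr (eq_neg_of_add_eq_zero_left h1))
  · rw [show e = -1 from h'] at hts
    rcases mul_eq_zero.1 (show t * (t ^ 2 + 1) = 0 by linear_combination hts) with h0 | h0
    · exact Or.inl h0
    · exact absurd ⟨t, by linear_combination -h0⟩ hns

lemma psi_central (e : ℤˣ) {A : Matrix.SpecialLinearGroup (Fin 2) F} (hA : A = 1 ∨ A = -1) :
    psi (e, A) = psi (e, 1) := by
  ext1 x
  rcases hA with rfl | rfl <;> simp [psi_apply, act]

lemma psi_eq_one_of_central {e : ℤˣ} (he : e = 1) {A : Matrix.SpecialLinearGroup (Fin 2) F}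
    (hA : A = 1 ∨ A = -1) : psi (e, A) = 1 := by
  rw [psi_central e hA, he, ← Prod.one_eq_mk, map_one]

/-- The kernel of the action. -/
lemma of_psi_eq_one {e : ℤˣ} {A : Matrix.SpecialLinearGroup (Fin 2) F} (h : psi (e, A) = 1) :
    e = 1 ∧ (A = 1 ∨ A = -1) := by
  have h' : ∀ X : Mat F, (sgn e : F) • ((A : Mat F) * X * tw (A : Mat F)) = X := fun X =>
    congrArg Multiplicative.toAdd (DFunLike.congr_fun h (Multiplicative.ofAdd X))
  have h1 := h' 1
  rw [Matrix.mul_one] at h1
  have hcomm : ∀ X : Mat F, (A : Mat F) * X = X * A := fun X => by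
    have hee : (sgn e : F) * sgn e = 1 := by
      rcases sgn_cases (F := F) e with ⟨-, h'⟩ | ⟨-, h'⟩ <;> simp [h']
    have ht : (sgn e : F) • (tw (A : Mat F)) = (A : Mat F).adjugate := by
      calc (sgn e : F) • tw (A : Mat F)
          = ((A : Mat F).adjugate * A) * ((sgn e : F) • tw (A : Mat F)) := by
            rw [Matrix.adjugate_mul, A.det_coe, one_smul, Matrix.one_mul]
        _ = (A : Mat F).adjugate := by
            rw [Matrix.mul_assoc, Matrix.mul_smul, h1, Matrix.mul_one]
    have := h' X
    rw [← Matrix.mul_smul, ht] at this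
    calc (A : Mat F) * X = (A : Mat F) * X * ((A : Mat F).adjugate * A) := by
          rw [Matrix.adjugate_mul, A.det_coe, one_smul, Matrix.mul_one]
      _ = X * A := by rw [← Matrix.mul_assoc, this]
  have hA : A = 1 ∨ A = -1 := by
    apply sl2_eq_one_or_neg_one_of_sq two_ne_zero'
    have e01 := congrFun (congrFun (hcomm !![0, 1; 0, 0]) 0) 1
    have e00 := congrFun (congrFun (hcomm !![0, 1; 0, 0]) 0) 0
    have e11 := congrFun (congrFun (hcomm !![0, 0; 1, 0]) 0) 0
    simp [Matrix.mul_apply, Fin.sum_univ_two] at e01 e00 e11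
    have hd := A.det_coe
    rw [det_fin_two] at hd
    have h10 : (A : Mat F) 1 0 = 0 := e00.symm
    have h01 : (A : Mat F) 0 1 = 0 := e11
    rw [h10, h01, e01] at hd
    ext i j
    fin_cases i <;> fin_cases j <;>
      simp [sq, Matrix.mul_apply, Fin.sum_univ_two, h10, h01, e01] <;> linear_combination hd
  refine ⟨?_, hA⟩
  rcases sgn_cases (F := F) e with ⟨he, -⟩ | ⟨-, he⟩
  · exact he
  · exfalso
    have := congrFun (congrFun h1 0) 0
    rcases hA with rfl | rfl <;> simp [he] at this <;>
      exact two_ne_zero' (F := F) (by linear_combination -this)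

lemma neg_one_pow_even {n : ℕ} (hn : Even n) (e : ℤˣ) : e ^ n = 1 := by
  obtain ⟨k, rfl⟩ := hn
  rw [← two_mul, pow_mul, Int.units_sq, one_pow]

lemma inl_pow_three (x : Multiplicative (Mat F)) :
    (SemidirectProduct.inl x : Grp F) ^ 3 = 1 := by
  rw [← map_pow, mul_pow_three, map_one]

lemma eq_inl_of_right (h : Grp F) (hr : h.right = 1) : h = SemidirectProduct.inl h.left := by
  ext : 1 <;> simp [hr]

lemma right_pow (h : Grp F) (n : ℕ) : (h ^ n).right = h.right ^ n :=
  map_pow SemidirectProduct.rightHom h n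

variable [Fintype F]

/-- Every order divides one of the four numbers. -/
theorem orderOf_cases {α : ℕ} (hq : Fintype.card F = 3 ^ α) (hns : ¬ IsSquare (-1 : F))
    (h2m : Even (Fintype.card F - 1)) (h2p : Even ((Fintype.card F + 1) / 2)) (h : Grp F) :
    orderOf h ∣ 6 ∨ orderOf h ∣ 9 ∨ orderOf h ∣ Fintype.card F - 1 ∨
      orderOf h ∣ (Fintype.card F + 1) / 2 := by
  haveI : Fact (Nat.Prime 3) := ⟨Nat.prime_three⟩
  obtain ⟨⟨e, A⟩, hg⟩ := h.right.2
  set t := (A : Mat F).trace with ht
  have hd : (A : Mat F).det = 1 := A.det_coe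
  have h2 : (2 : F) ≠ 0 := two_ne_zero'
  have hCH : (A : Mat F) * A = t • (A : Mat F) - 1 := by
    have hd' := hd
    rw [det_fin_two] at hd'
    rw [ht]
    ext i j
    fin_cases i <;> fin_cases j <;> simp [Matrix.mul_apply, Fin.sum_univ_two, trace_fin_two] <;>
      first | linear_combination hd' | linear_combination -hd' | ring1
  by_cases hA3 : A ^ 3 = 1 ∨ A ^ 3 = -1
  · have he3 : e ^ 3 = e := by rw [pow_succ, Int.units_sq, one_mul]
    have hg3 : ((h.right ^ 3 : (psi (F := F)).range) : MulAut (Multiplicative (Mat F))) =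
        psi (e, (1 : Matrix.SpecialLinearGroup (Fin 2) F)) := by
      rw [Subgroup.coe_pow, ← hg, ← map_pow, Prod.pow_mk, he3, psi_central e hA3]
    rcases Int.units_eq_one_or e with rfl | rfl
    · refine Or.inr (Or.inl (orderOf_dvd_of_pow_eq_one ?_))
      have hr : (h ^ 3).right = 1 := by
        rw [right_pow]
        exact Subtype.ext (by rw [hg3, ← Prod.one_eq_mk, map_one]; rfl)
      rw [show 9 = 3 * 3 from rfl, pow_mul, eq_inl_of_right _ hr, inl_pow_three]
    · refine Or.inl (orderOf_dvd_of_pow_eq_one ?_)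
      rw [show 6 = 3 * 2 from rfl, pow_mul, sq]
      have hr : (((h ^ 3).right : (psi (F := F)).range) : MulAut (Multiplicative (Mat F))) =
          psi (-1, (1 : Matrix.SpecialLinearGroup (Fin 2) F)) := by rw [right_pow, hg3]
      ext1
      · rw [SemidirectProduct.mul_left, SemidirectProduct.one_left, Subgroup.subtype_apply, hr,
          psi_apply]
        apply Multiplicative.toAdd.injective
        simp [act, sgn]
      · rw [SemidirectProduct.mul_right, SemidirectProduct.one_right]
        refine Subtype.ext ?_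
        rw [Subgroup.coe_mul, hr, ← map_mul, Prod.mk_mul_mk, one_mul, neg_mul_neg, one_mul,
          ← Prod.one_eq_mk, map_one]
        rfl
  · by_cases ht0 : t = 0
    · refine Or.inl (orderOf_dvd_of_pow_eq_one ?_)
      have hA2 : A ^ 2 = -1 := by
        apply Subtype.ext
        rw [det_fin_two] at hd
        rw [ht, trace_fin_two] at ht0
        ext i j
        fin_cases i <;> fin_cases j <;>
          simp [Matrix.SpecialLinearGroup.coe_pow, sq, Matrix.mul_apply, Fin.sum_univ_two]
        · linear_combination (A : Mat F) 0 0 * ht0 - hd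
        · linear_combination (A : Mat F) 0 1 * ht0
        · linear_combination (A : Mat F) 1 0 * ht0
        · linear_combination (A : Mat F) 1 1 * ht0 - hd
      have hr : (h ^ 2).right = 1 := by
        rw [right_pow]
        refine Subtype.ext ?_
        rw [Subgroup.coe_pow, ← hg, ← map_pow, Prod.pow_mk, Int.units_sq,
          psi_eq_one_of_central rfl (Or.inr hA2)]
        rfl
      rw [show 6 = 2 * 3 from rfl, pow_mul, eq_inl_of_right _ hr, inl_pow_three]
    · have hfree : ∀ X : Mat F, act (e, A) X = X → X = 0 := by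
        intro X hX
        by_contra hX0
        have hcube : (A : Mat F) ^ 3 = (t * t - 1) • (A : Mat F) - t • 1 := by
          rw [pow_succ, sq, hCH, Matrix.sub_mul, Matrix.smul_mul, hCH, Matrix.one_mul, smul_sub,
            smul_smul, sub_smul, one_smul]
          abel
        rcases trace_of_fixed hns (e, A) X hX0 hX with h0 | h0 | h0
        · exact ht0 h0
        · refine hA3 (Or.inr (Subtype.ext ?_))
          rw [Matrix.SpecialLinearGroup.coe_pow, hcube, show t = 1 from h0]
          simp
        · refine hA3 (Or.inl (Subtype.ext ?_))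
          rw [Matrix.SpecialLinearGroup.coe_pow, hcube, show t = -1 from h0]
          simp
      obtain ⟨w, hw⟩ : ∃ w : Multiplicative (Mat F), h.left = w * (psi (e, A) w)⁻¹ := by
        have hinj : Function.Injective
            fun w : Multiplicative (Mat F) => w * (psi (e, A) w)⁻¹ := by
          intro x y hxy
          have h1 : psi (e, A) (x / y) = x / y := by
            simp only at hxy
            rw [← div_eq_mul_inv, ← div_eq_mul_inv, div_eq_div_iff_div_eq_div] at hxy
            rw [map_div]
            exact hxy.symm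
          have h2 := hfree _ (congrArg Multiplicative.toAdd h1)
          exact div_eq_one.1 (Multiplicative.toAdd.injective h2)
        exact ((Finite.injective_iff_surjective.1 hinj) h.left).imp fun w hw => hw.symm
      have hconj : h = SemidirectProduct.inl w * SemidirectProduct.inr h.right *
          (SemidirectProduct.inl w)⁻¹ := by
        rw [← map_inv]
        ext1
        · simp only [SemidirectProduct.mul_left, SemidirectProduct.left_inl,
            SemidirectProduct.left_inr, map_one, mul_one, SemidirectProduct.mul_right,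
            SemidirectProduct.right_inl, SemidirectProduct.right_inr, one_mul, map_inv,
            Subgroup.subtype_apply]
          rw [← hg, ← map_inv SemidirectProduct.inl, SemidirectProduct.left_inl, map_inv]
          exact hw
        · simp
      have hord : ∀ n, e ^ n = 1 → (A ^ n = 1 ∨ A ^ n = -1) → orderOf h ∣ n := by
        intro n he hA
        refine orderOf_dvd_of_pow_eq_one ?_
        have : h.right ^ n = 1 := by
          refine Subtype.ext ?_
          rw [Subgroup.coe_pow, ← hg, ← map_pow, Prod.pow_mk, psi_eq_one_of_central he hA]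
          rfl
        rw [hconj, conj_pow, ← map_pow, this, map_one, mul_one, mul_inv_cancel]
      rcases quad_cases h2 hq (A : Mat F) with ⟨-, hp⟩ | hp | hp
      · exfalso
        set c : F := (2⁻¹ * (A : Mat F).trace) ^ 3
        have hc : c * c = 1 := by
          have h0 := congrArg Matrix.det hp
          rw [Matrix.det_pow, hd, one_pow, Matrix.det_smul, Matrix.det_one, mul_one,
            Fintype.card_fin, sq] at h0
          exact h0.symm
        rcases mul_self_eq_one_iff.1 hc with hc | hc
        · refine hA3 (Or.inl (Subtype.ext ?_))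
          rw [Matrix.SpecialLinearGroup.coe_pow, hp, hc, one_smul]; rfl
        · refine hA3 (Or.inr (Subtype.ext ?_))
          rw [Matrix.SpecialLinearGroup.coe_pow, hp, hc, neg_one_smul]
          simp
      · refine Or.inr (Or.inr (Or.inl (hord _ (neg_one_pow_even h2m e) (Or.inl ?_))))
        have h' : A ^ (Fintype.card F - 1) * A = 1 * A := by
          rw [← pow_succ, Nat.sub_add_cancel Fintype.card_pos, one_mul]
          exact Subtype.ext (by rw [Matrix.SpecialLinearGroup.coe_pow]; exact hp)
        exact mul_right_cancel h'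
      · refine Or.inr (Or.inr (Or.inr (hord _ (neg_one_pow_even h2p e) ?_)))
        refine sl2_eq_one_or_neg_one_of_sq h2 (Subtype.ext ?_)
        have hodd := FiniteField.odd_card_of_char_ne_two (F := F) fun e => h2 (by
          haveI := ringChar.of_eq e
          exact CharTwo.two_eq_zero)
        rw [← pow_mul, Matrix.SpecialLinearGroup.coe_pow,
          show (Fintype.card F + 1) / 2 * 2 = Fintype.card F + 1 by omega, hp, hd, one_smul]
        rfl

omit [Fintype F] in
lemma orderOf_inr_eq {g : ℤˣ × Matrix.SpecialLinearGroup (Fin 2) F} {N : ℕ}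
    (h1 : psi g ^ N = 1) (h2 : ∀ n, psi g ^ n = 1 → N ∣ n) :
    orderOf (SemidirectProduct.inr (⟨psi g, g, rfl⟩ : (psi (F := F)).range) : Grp F) = N := by
  rw [orderOf_injective SemidirectProduct.inr SemidirectProduct.inr_injective,
    ← orderOf_injective (psi (F := F)).range.subtype Subtype.val_injective]
  exact Nat.dvd_antisymm (orderOf_dvd_of_pow_eq_one h1) (h2 _ (pow_orderOf_eq_one _))

lemma exists_orderOf_qm1 (hm : Odd ((Fintype.card F - 1) / 2))
    (h2m : Even (Fintype.card F - 1)) :
    ∃ h : Grp F, orderOf h = Fintype.card F - 1 := by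
  have h2 : (2 : F) ≠ 0 := two_ne_zero'
  obtain ⟨u, hu, m, hm0, hord, hum⟩ := exists_torus_gen h2 (one_ne_zero (α := F))
  have hc : 2 * m + 1 = Fintype.card F := by
    rw [← hord, orderOf_eq_card_of_forall_mem_zpowers hu, torus_card_split h2]
  rw [show (Fintype.card F - 1) / 2 = m by omega] at hm
  set U : Matrix.SpecialLinearGroup (Fin 2) F := (u : Matrix.SpecialLinearGroup (Fin 2) F)
  refine ⟨_, orderOf_inr_eq (g := (-1, U)) ?_ fun n hn => ?_⟩
  · rw [← map_pow, Prod.pow_mk]
    refine psi_eq_one_of_central (neg_one_pow_even h2m _) (Or.inl ?_)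
    rw [show Fintype.card F - 1 = orderOf u by omega, ← Subgroup.coe_pow, pow_orderOf_eq_one,
      Subgroup.coe_one]
  · rw [← map_pow, Prod.pow_mk] at hn
    obtain ⟨he, hA⟩ := of_psi_eq_one hn
    have heven : Even n := neg_one_pow_eq_one_iff_even (R := ℤˣ) (by decide) |>.1 he
    have hd : orderOf u ∣ n * 2 := orderOf_dvd_of_pow_eq_one (Subtype.ext (by
      rw [Subgroup.coe_pow, Subgroup.coe_one, pow_mul]
      rcases hA with e | e <;> simp [U] at e <;> simp [e]))
    rw [hord, mul_comm n 2] at hd
    have hmn : m ∣ n := Nat.dvd_of_mul_dvd_mul_left (by norm_num) hd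
    rw [show Fintype.card F - 1 = 2 * m by omega]
    exact Nat.Coprime.mul_dvd_of_dvd_of_dvd (Nat.coprime_two_left.2 hm) heven.two_dvd hmn

lemma exists_orderOf_qp1 :
    ∃ h : Grp F, orderOf h = (Fintype.card F + 1) / 2 := by
  have h2 : (2 : F) ≠ 0 := two_ne_zero'
  obtain ⟨ε, hε⟩ := exists_nonsquare' h2
  obtain ⟨u, hu, m, hm0, hord, hum⟩ := exists_torus_gen h2 (fun e : ε = 0 => hε (e ▸ IsSquare.zero))
  have hc : 2 * m = Fintype.card F + 1 := by
    rw [← hord, orderOf_eq_card_of_forall_mem_zpowers hu, torus_card_nonsplit h2 hε]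
  rw [show (Fintype.card F + 1) / 2 = m by omega]
  refine ⟨_, orderOf_inr_eq (g := (1, (u : Matrix.SpecialLinearGroup (Fin 2) F))) ?_ fun n hn => ?_⟩
  · rw [← map_pow, Prod.pow_mk, one_pow]
    exact psi_eq_one_of_central rfl (Or.inr hum)
  · rw [← map_pow, Prod.pow_mk] at hn
    obtain ⟨-, hA⟩ := of_psi_eq_one hn
    have hd : orderOf u ∣ n * 2 := orderOf_dvd_of_pow_eq_one (Subtype.ext (by
      rw [Subgroup.coe_pow, Subgroup.coe_one, pow_mul]
      rcases hA with e | e <;> simp [e]))
    rw [hord, mul_comm n 2] at hd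
    exact Nat.dvd_of_mul_dvd_mul_left (by norm_num) hd

/-- The shear. -/
def shear : Matrix.SpecialLinearGroup (Fin 2) F :=
  ⟨!![1, 1; 0, 1], by simp⟩

omit [Fintype F] in
lemma shear_pow (n : ℕ) :
    ((shear (F := F) ^ n : Matrix.SpecialLinearGroup (Fin 2) F) : Mat F) = !![1, (n : F); 0, 1] := by
  induction n with
  | zero => simp [Matrix.one_fin_two]
  | succ n ih =>
    rw [pow_succ, Matrix.SpecialLinearGroup.coe_mul, ih]
    ext i j
    fin_cases i <;> fin_cases j <;> simp [shear, Matrix.mul_apply, Fin.sum_univ_two, add_comm]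

omit [Fintype F] in
lemma exists_orderOf_six : ∃ h : Grp F, orderOf h = 6 := by
  refine ⟨_, orderOf_inr_eq (g := (-1, shear)) ?_ fun n hn => ?_⟩
  · rw [← map_pow, Prod.pow_mk]
    refine psi_eq_one_of_central (by decide) (Or.inl (Subtype.ext ?_))
    rw [shear_pow, show ((6 : ℕ) : F) = 0 by
      rw [CharP.cast_eq_zero_iff F 3]; norm_num]
    simp [Matrix.one_fin_two]
  · rw [← map_pow, Prod.pow_mk] at hn
    obtain ⟨he, hA⟩ := of_psi_eq_one hn
    have heven : Even n := neg_one_pow_eq_one_iff_even (R := ℤˣ) (by decide) |>.1 he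
    have h3 : 3 ∣ n := by
      rcases hA with e | e <;>
        have e01 := congrArg (fun B : Matrix.SpecialLinearGroup (Fin 2) F => (B : Mat F) 0 1) e <;>
        simp only [shear_pow] at e01 <;> simp at e01 <;> exact (CharP.cast_eq_zero_iff F 3 n).1 e01
    exact Nat.Coprime.mul_dvd_of_dvd_of_dvd (by norm_num : Nat.Coprime 2 3) heven.two_dvd h3

omit [Fintype F] in
lemma exists_orderOf_nine : ∃ h : Grp F, orderOf h = 9 := by
  haveI : Fact (Nat.Prime 3) := ⟨Nat.prime_three⟩
  set u : (psi (F := F)).range := ⟨psi (1, shear), (1, shear), rfl⟩ with hu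
  set h : Grp F := ⟨Multiplicative.ofAdd !![0, 0; 0, 1], u⟩ with hh
  refine ⟨h, ?_⟩
  have hr : (h ^ 3).right = 1 := by
    rw [right_pow]
    refine Subtype.ext ?_
    rw [Subgroup.coe_pow, hh, hu]
    simp only
    rw [← map_pow, Prod.pow_mk, one_pow]
    refine psi_eq_one_of_central rfl (Or.inl (Subtype.ext ?_))
    rw [shear_pow, CharP.cast_eq_zero F 3]
    simp [Matrix.one_fin_two]
  refine orderOf_eq_prime_pow (p := 3) (n := 1) ?_ ?_
  · rw [pow_one]
    intro h3
    have hl := congrArg (fun x : Grp F => x.left.toAdd 0 0) h3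
    simp [pow_succ, hh, hu, psi_apply, act, sgn, tw, cube_apply, shear, Matrix.mul_apply, Matrix.transpose_apply, Matrix.vecMul, Matrix.vecHead, dotProduct, Fin.sum_univ_two] at hl
    exact two_ne_zero' (F := F) (by linear_combination hl - three_eq_zero (F := F))
  · rw [show 3 ^ (1 + 1) = 3 * 3 from rfl, pow_mul, eq_inl_of_right _ hr, inl_pow_three]

end CfsgLib.KnownSimple.TruncRee
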